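import Cfsg.Agent.H540.ClassNum
import Cfsg.Agent.H481.TBound
import Cfsg.Agent.S4106
import Cfsg.Agent.S0713
import Cfsg.Agent.H867.MinIdx_m3
import Cfsg.Agent.FastGrp
import Cfsg.Agent.Prune
set_option linter.all false
prune_inst 0x7f00000000000000000000000000000000000000000000000000000000000000000000000000000000000000000000000000000000000000000000000000000000000000000000000000000000000000003fffffffffffffffffffffffffffbeffbdffffffff
open scoped Cfsg.Agent.FastGrp

-- part: H540/Good
section
/-!
# Class numbers of simple groups against the indices of their subgroups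

* `Good X`: `(k(X) |Out X|)² ≤ 2 ^ |X : H|` for every proper subgroup `H`.
* `Good.of_bounds`, `k_le_of_cent`, `k_le_of_index`, `k_le_pprime`: bounds for `k(X)`.
* `le_index_of_maximal`, `jordan`: lower bounds for indices.
-/

set_option autoImplicit false

namespace Cfsg.Agent.H540.Good

open Cfsg.Agent.H540.ClassNum

universe u v

/-- `(k(X) |Out X|)² ≤ 2 ^ |X : H|` for every proper subgroup `H` of `X` -/
def Good (X : Type u) [Group X] : Prop := ∀ H : Subgroup X, H ≠ ⊤ →
  (Nat.card (ConjClasses X) * Nat.card (Cfsg.Out X)) ^ 2 ≤ 2 ^ H.index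

theorem Good.congr {X : Type u} {Y : Type v} [Group X] [Group Y] (h : Good X) (e : X ≃* Y) :
    Good Y := by
  intro H hH
  rw [← H934.OutB.card_out_congr e, ← card_conjClasses_congr e]
  have h1 := h (H.comap e.toMonoidHom) (by
    intro h0
    apply hH
    rw [eq_top_iff]
    intro y _
    have h2 : e.symm y ∈ H.comap e.toMonoidHom := by rw [h0]; exact Subgroup.mem_top _
    have h3 : e (e.symm y) ∈ H := h2
    rwa [e.apply_symm_apply] at h3)
  rwa [Subgroup.index_comap_of_surjective H (f := e.toMonoidHom) e.surjective] at h1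

/-- From bounds for the class number, the outer automorphisms and the indices. -/
theorem Good.of_bounds {X : Type u} [Group X] {c o L : ℕ} (hk : Nat.card (ConjClasses X) ≤ c)
    (ho : Nat.card (Cfsg.Out X) ≤ o) (hL : ∀ H : Subgroup X, H ≠ ⊤ → L ≤ H.index)
    (h : (c * o) ^ 2 ≤ 2 ^ L) : Good X := by
  intro H hH
  exact (Nat.pow_le_pow_left (Nat.mul_le_mul hk ho) 2).trans
    (h.trans (Nat.pow_le_pow_right (by norm_num) (hL H hH)))

/-- `k(X) |X| = ∑ |C(x)|` -/
theorem k_mul_card {X : Type u} [Group X] [Fintype X] :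
    Nat.card (ConjClasses X) * Nat.card X =
      ∑ x : X, Nat.card (Subgroup.centralizer ({x} : Set X)) := by
  rw [card_conjClasses_mul_card]
  exact Finset.sum_congr rfl fun x _ => cent_top x

/-- if the centre is trivial and all proper subgroups have index at least `L`, then
`L k(X) ≤ L + |X| - 1`. -/
theorem k_le_of_index {X : Type u} [Group X] [Finite X] (hZ : Subgroup.center X = ⊥) {L : ℕ}
    (h : ∀ H : Subgroup X, H ≠ ⊤ → L ≤ H.index) :
    L * Nat.card (ConjClasses X) ≤ L + (Nat.card X - 1) := by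
  classical
  have := Fintype.ofFinite X
  have h1 := k_mul_card (X := X)
  have h0 : ∀ x : X, x ≠ 1 → L * Nat.card (Subgroup.centralizer ({x} : Set X)) ≤ Nat.card X := by
    intro x hx
    have h2 : Subgroup.centralizer ({x} : Set X) ≠ ⊤ := by
      intro h3
      apply hx
      have h4 : x ∈ Subgroup.center X := by
        rw [Subgroup.mem_center_iff]
        intro g
        have h5 : g ∈ Subgroup.centralizer ({x} : Set X) := by rw [h3]; trivial
        exact ((Subgroup.mem_centralizer_iff.1 h5) x (Set.mem_singleton x)).symm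
      rw [hZ] at h4
      exact h4
    rw [← Subgroup.index_mul_card (Subgroup.centralizer ({x} : Set X))]
    exact Nat.mul_le_mul_right _ (h _ h2)
  have h2 : L * ∑ x : X, Nat.card (Subgroup.centralizer ({x} : Set X)) ≤
      L * Nat.card X + (Nat.card X - 1) * Nat.card X := by
    rw [← Finset.add_sum_erase _ _ (Finset.mem_univ (1 : X)), Nat.mul_add, Finset.mul_sum]
    refine Nat.add_le_add (Nat.mul_le_mul_left _ (Subgroup.card_le_card_group _)) ?_
    refine (Finset.sum_le_card_nsmul _ _ (Nat.card X) fun x hx => h0 x (Finset.ne_of_mem_erase hx)).trans ?_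
    rw [Finset.card_erase_of_mem (Finset.mem_univ _), Finset.card_univ, ← Nat.card_eq_fintype_card,
      smul_eq_mul]
  rw [← h1] at h2
  have hX : 0 < Nat.card X := Nat.card_pos
  refine Nat.le_of_mul_le_mul_right ?_ hX
  calc L * Nat.card (ConjClasses X) * Nat.card X = L * (Nat.card (ConjClasses X) * Nat.card X) := by ring
    _ ≤ _ := h2
    _ = _ := by ring

/-- decomposition of an element into its `p'`-part and its `p`-part. -/
theorem exists_parts {X : Type u} [Group X] [Finite X] (p : ℕ) [hp : Fact p.Prime] (g : X) :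
    ∃ s u : X, g = s * u ∧ s * u = u * s ∧ (orderOf s).Coprime p ∧ ∃ k, u ^ p ^ k = 1 := by
  obtain ⟨a, m, hm, hgm⟩ := Nat.exists_eq_pow_mul_and_not_dvd (orderOf_pos g).ne' p hp.out.ne_one
  have hco : (p ^ a).Coprime m := Nat.Coprime.pow_left _ ((Nat.Prime.coprime_iff_not_dvd hp.out).2 hm)
  obtain ⟨k, hk1, hk2⟩ := Nat.chineseRemainder hco 0 1
  obtain ⟨l, hl1, hl2⟩ := Nat.chineseRemainder hco 1 0
  refine ⟨g ^ k, g ^ l, ?_, ?_, ?_, a, ?_⟩
  · rw [← pow_add]
    have h1 : k + l ≡ 1 [MOD p ^ a * m] := by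
      rw [← Nat.modEq_and_modEq_iff_modEq_mul hco]
      exact ⟨by simpa using hk1.add hl1, by simpa using hk2.add hl2⟩
    rw [← hgm] at h1
    conv_lhs => rw [← pow_one g]
    exact (pow_eq_pow_iff_modEq.2 h1.symm)
  · rw [← pow_add, ← pow_add, add_comm]
  · have h1 : (g ^ k) ^ m = 1 := by
      obtain ⟨c, hc⟩ := (Nat.modEq_zero_iff_dvd.1 hk1)
      rw [← pow_mul, hc, mul_right_comm, ← hgm, pow_mul, pow_orderOf_eq_one, one_pow]
    have h2 : orderOf (g ^ k) ∣ m := orderOf_dvd_of_pow_eq_one h1
    exact Nat.Coprime.coprime_dvd_left h2 (((Nat.Prime.coprime_iff_not_dvd hp.out).2 hm).symm)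
  · obtain ⟨c, hc⟩ := (Nat.modEq_zero_iff_dvd.1 hl2)
    rw [← pow_mul, hc, mul_comm, ← mul_assoc, ← hgm, pow_mul, pow_orderOf_eq_one, one_pow]

end Cfsg.Agent.H540.Good
end

-- part: H540/EngG
section
/-!
# Checking `Good T` from the order of `T`

As `H867.Engine`, with the threshold `(|Out T| k(T)) ^ 2 ≤ 2 ^ l` and with the additional rules

* `J r k`: `r ^ k ∣ |T|`, `r ^ (k + 1) ∤ l!`, `r + 3 ≤ l` (then `T` contains an `r`-cycle);
* `F r`: uses that the normalizer of a Sylow subgroup is transitive on its fixed points;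
* `K R`: uses the known bounds `E` for centralizers of elements of prime power order;
* `M`: a known bound for the class number.
-/

set_option autoImplicit false

open MulAction Equiv

namespace Cfsg.Agent.H540.EngG

open Cfsg.Agent.H867.Engine Cfsg.Agent.H540.ClassNum Cfsg.Agent.H540.Good

universe u

/-! ### the class number bound for elements of prime power order -/

open Cfsg Cfsg.Agent.Characters.Core Cfsg.Agent.OddOrderCharacters.VChar Cfsg.Agent.H867.KBound in
theorem card_conjClasses_le' {G : Type*} [Group G] [Finite G] (R : Finset ℕ) (hR : ∀ r ∈ R, r.Prime)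
    (x : ℕ → G) (hx : ∀ r ∈ R, ∃ k : ℕ, orderOf (x r) = r ^ k) :
    Nat.card (ConjClasses G) ≤
      ∑ r ∈ R, Nat.card (Subgroup.centralizer ({x r} : Set G)) +
        Nat.card G / (∏ r ∈ R, r) ^ 2 := by
  classical
  have := Fintype.ofFinite G
  have := finite_irr (G := G)
  have := Fintype.ofFinite (IrrCharacter G)
  rw [← card_irr, Nat.card_eq_fintype_card]
  choose d hd0 hd using fun χ : IrrCharacter G => isIrr_apply_one χ.2
  set A : ℕ → Finset (IrrCharacter G) := fun r =>
    Finset.univ.filter (fun χ => (χ : G → ℂ) (x r) ≠ 0) with hA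
  set B : Finset (IrrCharacter G) := Finset.univ.filter (fun χ => (∏ r ∈ R, r) ∣ d χ) with hB
  have hcover : (Finset.univ : Finset (IrrCharacter G)) ⊆ R.biUnion A ∪ B := by
    intro χ _
    by_cases h : ∀ r ∈ R, r ∣ d χ
    · refine Finset.mem_union_right _ (Finset.mem_filter.2 ⟨Finset.mem_univ _, ?_⟩)
      refine Finset.prod_primes_dvd _ (fun r hr => (hR r hr).prime) h
    · push Not at h
      obtain ⟨r, hr, hnd⟩ := h
      refine Finset.mem_union_left _ (Finset.mem_biUnion.2 ⟨r, hr, ?_⟩)
      rw [hA, Finset.mem_filter]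
      have : Fact r.Prime := ⟨hR r hr⟩
      exact ⟨Finset.mem_univ _, apply_ne_zero (isIrr_isCharacter χ.2) (hd χ) hnd (x r) (hx r hr)⟩
  have h1 : Fintype.card (IrrCharacter G) ≤ ∑ r ∈ R, (A r).card + B.card := by
    rw [← Finset.card_univ]
    refine (Finset.card_le_card hcover).trans ((Finset.card_union_le _ _).trans ?_)
    exact Nat.add_le_add_right Finset.card_biUnion_le _
  have h2 : ∀ r ∈ R, (A r).card ≤ Nat.card (Subgroup.centralizer ({x r} : Set G)) := by
    intro r _
    have h3 := card_apply_ne_zero_le (x r)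
    rwa [Nat.card_eq_fintype_card, Fintype.card_subtype] at h3
  have hpos : 0 < ∏ r ∈ R, r := Finset.prod_pos fun r hr => (hR r hr).pos
  have h3 : B.card ≤ Nat.card G / (∏ r ∈ R, r) ^ 2 := by
    rw [Nat.le_div_iff_mul_le (pow_pos hpos 2)]
    have h4 : ((∑ χ : IrrCharacter G, d χ ^ 2 : ℕ) : ℝ) = (Nat.card G : ℝ) := by
      have h5 := sum_norm_sq (G := G) 1
      have h6 : Subgroup.centralizer ({1} : Set G) = ⊤ := by
        ext y
        rw [Subgroup.mem_centralizer_singleton_iff]
        simp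
      rw [h6] at h5
      have h7 : Nat.card (⊤ : Subgroup G) = Nat.card G := Subgroup.card_top
      rw [h7] at h5
      rw [← h5]
      push_cast
      refine Finset.sum_congr rfl fun χ _ => ?_
      rw [hd χ, Complex.norm_natCast]
    have h5 : (∑ χ : IrrCharacter G, d χ ^ 2) = Nat.card G := by exact_mod_cast h4
    rw [← h5]
    calc B.card * (∏ r ∈ R, r) ^ 2 = ∑ χ ∈ B, (∏ r ∈ R, r) ^ 2 := by
          rw [Finset.sum_const, smul_eq_mul]
      _ ≤ ∑ χ ∈ B, d χ ^ 2 := by
          refine Finset.sum_le_sum fun χ hχ => ?_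
          exact Nat.pow_le_pow_left (Nat.le_of_dvd (hd0 χ) (Finset.mem_filter.1 hχ).2) 2
      _ ≤ _ := Finset.sum_le_sum_of_subset (Finset.subset_univ _)
  exact h1.trans (Nat.add_le_add (Finset.sum_le_sum h2) h3)

/-! ### Jordan with a full Sylow subgroup -/

/-- A subgroup of a symmetric group containing a Sylow `r`-subgroup contains an `r`-cycle. -/
theorem exists_cycle {l r k : ℕ} (hr : r.Prime) (hrl : r ≤ l) (S : Subgroup (Perm (Fin l)))
    (hN : r ^ k ∣ Nat.card S) (hl : ¬ r ^ (k + 1) ∣ l.factorial) :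
    ∃ c ∈ S, c.IsCycle ∧ c.support.card = r := by
  classical
  have : Fact r.Prime := ⟨hr⟩
  have hcardperm : Nat.card (Perm (Fin l)) = l.factorial := by
    rw [Nat.card_perm, Nat.card_eq_fintype_card, Fintype.card_fin]
  have hfac : (l.factorial).factorization r ≤ k := by
    by_contra hcon
    push Not at hcon
    exact hl ((hr.pow_dvd_iff_le_factorization (Nat.factorial_ne_zero l)).2 hcon)
  have hSf : k ≤ (Nat.card S).factorization r :=
    (hr.pow_dvd_iff_le_factorization Nat.card_pos.ne').1 hN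
  have hSle : (Nat.card S).factorization r ≤ (l.factorial).factorization r := by
    refine (Nat.factorization_le_iff_dvd Nat.card_pos.ne' (Nat.factorial_ne_zero l)).2 ?_ r
    rw [← hcardperm]
    exact Subgroup.card_subgroup_dvd_card S
  let P : Sylow r S := default
  have hPcard : Nat.card P = r ^ (l.factorial).factorization r := by
    rw [P.card_eq_multiplicity]
    congr 1
    omega
  have hPm : Nat.card ((P : Subgroup S).map S.subtype) =
      r ^ (Nat.card (Perm (Fin l))).factorization r := by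
    rw [hcardperm, ← hPcard]
    exact (Nat.card_congr ((P : Subgroup S).equivMapOfInjective _ S.subtype_injective).toEquiv).symm
  let Q : Sylow r (Perm (Fin l)) := Sylow.ofCard _ hPm
  obtain ⟨c, hc, hcs⟩ : ∃ c : Perm (Fin l), c.IsCycle ∧ c.support.card = r := by
    obtain ⟨c, hc⟩ := (Equiv.Perm.exists_with_cycleType_iff (Fin l) (m := {r})).2
      ⟨by rw [Multiset.sum_singleton, Fintype.card_fin]; exact hrl, by
        intro a ha
        rw [Multiset.mem_singleton] at ha
        rw [ha]
        exact hr.two_le⟩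
    refine ⟨c, ?_, ?_⟩
    · rw [← Equiv.Perm.card_cycleType_eq_one, hc, Multiset.card_singleton]
    · rw [← Equiv.Perm.sum_cycleType, hc, Multiset.sum_singleton]
  have hcP : IsPGroup r (Subgroup.zpowers c) := by
    apply IsPGroup.of_card (n := 1)
    rw [Nat.card_zpowers, hc.orderOf, hcs, pow_one]
  obtain ⟨R, hR⟩ := hcP.exists_le_sylow
  obtain ⟨σ, hσ⟩ := exists_smul_eq (Perm (Fin l)) R Q
  have h3 : σ * c * σ⁻¹ ∈ (σ • R : Sylow r (Perm (Fin l))) := by
    rw [Sylow.smul_def]
    exact Subgroup.smul_mem_pointwise_smul c (MulAut.conj σ) (R : Subgroup (Perm (Fin l)))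
      (hR (Subgroup.mem_zpowers c))
  rw [hσ] at h3
  obtain ⟨g, _, hg⟩ := h3
  refine ⟨σ * c * σ⁻¹, ?_, hc.conj, ?_⟩
  · rw [← hg]
    exact g.2
  · rw [Equiv.Perm.card_support_conj]
    exact hcs

variable {T : Type u} [Group T] [Finite T] {l : ℕ}

theorem Sit.jj (h : Sit T l) (h5 : 5 ≤ l) {r k : ℕ} (hr : r.Prime) (h3 : r + 3 ≤ l)
    (hN : r ^ k ∣ Nat.card T) (hl : ¬ r ^ (k + 1) ∣ l.factorial) :
    l.factorial = 2 * Nat.card T := by
  classical
  obtain ⟨f, hf, hprim⟩ := h.exists_hom
  have h3' : Nat.card f.range = Nat.card T := (Nat.card_congr (MonoidHom.ofInjective hf).toEquiv).symm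
  obtain ⟨c, hcS, hc, hcs⟩ := exists_cycle hr (by omega) f.range (h3'.symm ▸ hN) hl
  have h1 := S0713.result f.range hprim hr (by rw [Fintype.card_fin]; exact h5)
      (by rw [Fintype.card_fin]; exact h3) hc hcs hcS
  have h2 := le_antisymm (h.range_le_alt f) h1
  have : Nontrivial (Fin l) := Fin.nontrivial_iff_two_le.2 h.two_le
  have h4 : 2 * Nat.card (alternatingGroup (Fin l)) = l.factorial := by
    rw [two_mul_nat_card_alternatingGroup, Nat.card_perm, Nat.card_eq_fintype_card, Fintype.card_fin]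
  rw [← h4, ← h2, h3']

/-! ### fixed points of a Sylow subgroup -/

theorem mem_smul_sylow {G : Type*} [Group G] {r : ℕ} {P : Sylow r G} {x g : G} :
    g ∈ ((x • P : Sylow r G) : Subgroup G) ↔ x⁻¹ * g * x ∈ (P : Subgroup G) := by
  rw [Sylow.coe_subgroup_smul, Subgroup.mem_pointwise_smul_iff_inv_smul_mem, MulAut.smul_def,
    MulAut.conj_inv_apply]

/-- the normalizer of a Sylow subgroup is transitive on its fixed points. -/
theorem card_fix_dvd {G Ω : Type*} [Group G] [Finite G] [MulAction G Ω] [IsPretransitive G Ω]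
    [Finite Ω] {r : ℕ} [Fact r.Prime] (P : Sylow r G) :
    Nat.card {a : Ω // ∀ g ∈ (P : Subgroup G), g • a = a} = 0 ∨
      Nat.card {a : Ω // ∀ g ∈ (P : Subgroup G), g • a = a} ∣
        Nat.card (Subgroup.normalizer ((P : Subgroup G) : Set G)) := by
  classical
  set N := Subgroup.normalizer ((P : Subgroup G) : Set G) with hN
  rcases isEmpty_or_nonempty {a : Ω // ∀ g ∈ (P : Subgroup G), g • a = a} with hE | ⟨⟨a, ha⟩⟩
  · left
    exact Nat.card_of_isEmpty
  right
  have hmem : ∀ (n : G), n ∈ N → ∀ b : Ω, (∀ g ∈ (P : Subgroup G), g • b = b) →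
      ∀ g ∈ (P : Subgroup G), g • (n • b) = n • b := by
    intro n hn b hb g hg
    have h1 : n⁻¹ * g * n ∈ (P : Subgroup G) := by
      have h2 := (Subgroup.mem_normalizer_iff.1 (inv_mem hn) g).1 hg
      rwa [inv_inv] at h2
    have h2 := hb _ h1
    rw [mul_smul, mul_smul, inv_smul_eq_iff] at h2
    exact h2
  -- orbit of `a` under `N`
  have horb : (orbit N a) = {b : Ω | ∀ g ∈ (P : Subgroup G), g • b = b} := by
    ext b
    constructor
    · rintro ⟨n, rfl⟩ g hg
      exact hmem n.1 n.2 a ha g hg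
    · intro hb
      obtain ⟨x, hx⟩ := exists_smul_eq G a b
      -- both `P` and `x P x⁻¹` are Sylow subgroups of the stabilizer of `b`
      have hPb : (P : Subgroup G) ≤ stabilizer G b := fun g hg => hb g hg
      have hxPb : ((x • P : Sylow r G) : Subgroup G) ≤ stabilizer G b := by
        intro g hg
        rw [mem_smul_sylow] at hg
        have h2 := ha _ hg
        rw [mul_smul, mul_smul, inv_smul_eq_iff, hx] at h2
        exact h2
      obtain ⟨y, hy⟩ := exists_smul_eq (stabilizer G b) ((x • P).subtype hxPb) (P.subtype hPb)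
      have hyP : ∀ g : G, g ∈ (P : Subgroup G) ↔ (y : G)⁻¹ * g * y ∈ ((x • P : Sylow r G) : Subgroup G) := by
        intro g
        constructor
        · intro hg
          have h1 : (⟨g, hPb hg⟩ : stabilizer G b) ∈ ((P.subtype hPb : Sylow r _) : Subgroup _) := by
            rw [Sylow.coe_subtype, Subgroup.mem_subgroupOf]
            exact hg
          rw [← hy, mem_smul_sylow, Sylow.coe_subtype, Subgroup.mem_subgroupOf] at h1
          exact h1
        · intro hg
          have hgb : g ∈ stabilizer G b := by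
            have h3 := hxPb hg
            have h4 : (y : G) * ((y : G)⁻¹ * g * y) * (y : G)⁻¹ ∈ stabilizer G b :=
              mul_mem (mul_mem y.2 h3) (inv_mem y.2)
            have h5 : (y : G) * ((y : G)⁻¹ * g * y) * (y : G)⁻¹ = g := by group
            rwa [h5] at h4
          have h1 : (⟨g, hgb⟩ : stabilizer G b) ∈ ((y • ((x • P).subtype hxPb) : Sylow r _) : Subgroup _) := by
            rw [mem_smul_sylow, Sylow.coe_subtype, Subgroup.mem_subgroupOf]
            exact hg
          rw [hy, Sylow.coe_subtype, Subgroup.mem_subgroupOf] at h1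
          exact h1
      refine ⟨⟨(y : G) * x, ?_⟩, ?_⟩
      · rw [hN, Subgroup.mem_normalizer_iff]
        intro g
        have h1 := hyP ((y : G) * x * g * ((y : G) * x)⁻¹)
        rw [h1, mem_smul_sylow]
        have h2 : x⁻¹ * ((y : G)⁻¹ * ((y : G) * x * g * ((y : G) * x)⁻¹) * y) * x = g := by group
        rw [h2]
      · change ((y : G) * x) • a = b
        rw [mul_smul, hx]
        exact y.2
  have h1 : Nat.card (orbit N a) = Nat.card {a : Ω // ∀ g ∈ (P : Subgroup G), g • a = a} := by
    rw [horb]; rfl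
  rw [← h1]
  have h2 := Nat.card_congr (orbitEquivQuotientStabilizer N a)
  rw [h2]
  exact Subgroup.index_dvd_card (stabilizer N a)

/-- Burnside's transfer theorem for a simple group. -/
theorem not_normalizer_le {G : Type*} [Group G] [Finite G] [IsSimpleGroup G]
    (hG : ¬ IsMulCommutative G) {r : ℕ} [hr : Fact r.Prime] (P : Sylow r G) (hP : (P : Subgroup G) ≠ ⊥)
    (hle : Subgroup.normalizer ((P : Subgroup G) : Set G) ≤
      Subgroup.centralizer ((P : Subgroup G) : Set G)) : False := by
  have h1 := MonoidHom.ker_transferSylow_isComplement' P hle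
  rcases IsSimpleGroup.eq_bot_or_eq_top_of_normal (MonoidHom.transferSylow P hle).ker inferInstance with h | h
  · rw [h] at h1
    have h2 : (P : Subgroup G) = ⊤ := by simpa using h1
    have h3 := (Subgroup.le_normalizer (H := (P : Subgroup G))).trans hle
    apply hG
    refine ⟨⟨fun a b => ?_⟩⟩
    have ha : a ∈ (P : Subgroup G) := by rw [h2]; trivial
    have hb : b ∈ (P : Subgroup G) := by rw [h2]; trivial
    exact (Subgroup.mem_centralizer_iff.1 (h3 hb) a ha)
  · rw [h] at h1
    apply hP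
    simpa using h1

/-- The data of an element of prime order `r`, `r` exactly dividing the order. -/
theorem Sit.exactF (h : Sit T l) (h5 : 5 ≤ l) {r : ℕ} (hr : r.Prime)
    (h2 : ¬ r ^ 2 ∣ Nat.card T) (x : T) (hx : orderOf x = r) :
    ∃ q c t m : ℕ, 1 ≤ q ∧ q * r ≤ l ∧
      Nat.card (Subgroup.centralizer ({x} : Set T)) ∣ (l - q * r).factorial * r ^ q * q.factorial ∧
      (q = 1 → r + 3 ≤ l → l.factorial = 2 * Nat.card T) ∧
      Nat.card (Subgroup.centralizer ({x} : Set T)) = r * c ∧ t ∣ r - 1 ∧ 2 ≤ t ∧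
      Nat.card T = r * c * t * m ∧ m % r = 1 ∧ l ≤ m ∧ (l - q * r = 0 ∨ l - q * r ∣ r * c * t) := by
  classical
  have := h.simple
  have : Fact r.Prime := ⟨hr⟩
  obtain ⟨f, hf, hprim⟩ := h.exists_hom
  have hord : orderOf (f x) = r := by rw [orderOf_injective f hf, hx]
  obtain ⟨n, hn⟩ := Perm.cycleType_prime_order (σ := f x) (by rw [hord]; exact hr)
  rw [hord] at hn
  have hsum : (f x).cycleType.sum = (n + 1) * r := by
    rw [hn, Multiset.sum_replicate, smul_eq_mul]
  have hle : (n + 1) * r ≤ l := by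
    rw [← hsum, Perm.sum_cycleType]
    exact (Finset.card_le_univ _).trans (by rw [Fintype.card_fin])
  have hA : Nat.card (Subgroup.centralizer ({x} : Set T)) ∣
      (l - (n + 1) * r).factorial * r ^ (n + 1) * (n + 1).factorial := by
    have h1 := Perm.nat_card_centralizer (f x)
    rw [hsum, Fintype.card_fin, hn, Multiset.prod_replicate,
      Multiset.toFinset_replicate, if_neg (by omega), Finset.prod_singleton,
      Multiset.count_replicate_self] at h1
    rw [← h1]
    have h2 : (Subgroup.centralizer ({x} : Set T)).map f ≤ Subgroup.centralizer ({f x} : Set _) := by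
      rintro _ ⟨y, hy, rfl⟩
      have h3 := Subgroup.mem_centralizer_singleton_iff.1 hy
      rw [Subgroup.mem_centralizer_singleton_iff, ← map_mul, h3, map_mul]
    have h3 := Subgroup.card_dvd_of_le h2
    rwa [Nat.card_congr (((Subgroup.centralizer ({x} : Set T)).equivMapOfInjective f hf).toEquiv).symm] at h3
  have hB : n + 1 = 1 → r + 3 ≤ l → l.factorial = 2 * Nat.card T := by
    intro hq hr3
    have hn0 : n = 0 := by omega
    subst hn0
    have hcyc : (f x).IsCycle := by
      rw [← Perm.card_cycleType_eq_one, hn, Multiset.card_replicate]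
    have hsup : (f x).support.card = r := by
      rw [← Perm.sum_cycleType, hsum]; omega
    have h1 := S0713.result f.range hprim hr (by rw [Fintype.card_fin]; exact h5)
      (by rw [Fintype.card_fin]; exact hr3) hcyc hsup ⟨x, rfl⟩
    have h2 := le_antisymm (h.range_le_alt f) h1
    have h3 : Nat.card f.range = Nat.card T := (Nat.card_congr (MonoidHom.ofInjective hf).toEquiv).symm
    have : Nontrivial (Fin l) := Fin.nontrivial_iff_two_le.2 h.two_le
    have h4 : 2 * Nat.card (alternatingGroup (Fin l)) = l.factorial := by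
      rw [two_mul_nat_card_alternatingGroup, Nat.card_perm, Nat.card_eq_fintype_card, Fintype.card_fin]
    rw [← h4, ← h2, h3]
  set P := Subgroup.zpowers x with hP
  have hPcard : Nat.card P = r := by rw [hP, Nat.card_zpowers, hx]
  set N := Subgroup.normalizer (P : Set T) with hN
  -- the centralizer is normal in the normalizer
  set C := Subgroup.centralizer ({x} : Set T) with hC
  have hCP : C = Subgroup.centralizer (P : Set T) := by
    rw [hC, hP, Subgroup.zpowers_eq_closure, Subgroup.centralizer_closure]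
  have hPC : P ≤ C := by
    rw [hP, Subgroup.zpowers_le, hC, Subgroup.mem_centralizer_singleton_iff]
  have hCN : C ≤ N := by
    rw [hCP, hN]
    exact Subgroup.centralizer_le_normalizer _
  obtain ⟨c, hc⟩ : r ∣ Nat.card C := by
    rw [← hPcard]; exact Subgroup.card_dvd_of_le hPC
  -- `N / C` embeds in the automorphism group
  have ht : ∃ t, Nat.card N = Nat.card C * t ∧ t ∣ r - 1 := by
    have h3 : Nat.card (C.subgroupOf N) * (C.subgroupOf N).index = Nat.card N :=
      Subgroup.card_mul_index _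
    rw [Nat.card_congr (Subgroup.subgroupOfEquivOfLe hCN).toEquiv] at h3
    refine ⟨(C.subgroupOf N).index, h3.symm, ?_⟩
    have h4 : (C.subgroupOf N) = (P.normalizerMonoidHom).ker := by
      rw [Subgroup.normalizerMonoidHom_ker, hCP]
    rw [h4, Subgroup.index_ker]
    have h5 : Nat.card (MulAut P) = r - 1 := by
      have : IsCyclic P := by rw [hP]; infer_instance
      have := Nat.card_congr (IsCyclic.mulAutMulEquiv P).toEquiv
      rw [this, hPcard]
      have h6 := ZMod.card_units r
      rw [Nat.card_eq_fintype_card, h6]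
    rw [← h5]
    exact Subgroup.card_subgroup_dvd_card _
  obtain ⟨t, hNt, ht1⟩ := ht
  -- Sylow
  obtain ⟨S, hS⟩ : ∃ S : Sylow r T, (S : Subgroup T) = P := by
    obtain ⟨S, hS⟩ := (IsPGroup.of_card (n := 1) (by rw [hPcard, pow_one]) : IsPGroup r P).exists_le_sylow
    refine ⟨S, (Subgroup.eq_of_le_of_card_ge hS ?_).symm⟩
    obtain ⟨k, hk⟩ := IsPGroup.iff_card.1 S.2
    rw [hk, hPcard]
    have h6 : r ^ k ∣ Nat.card T := by rw [← hk]; exact Subgroup.card_subgroup_dvd_card _
    have h7 : k ≤ 1 := by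
      by_contra hcon
      exact h2 ((pow_dvd_pow r (by omega : 2 ≤ k)).trans h6)
    calc r ^ k ≤ r ^ 1 := Nat.pow_le_pow_right hr.pos h7
      _ = r := pow_one r
  have hsyl := card_sylow_modEq_one r T
  have hSset : (S : Set T) = (P : Set T) := by rw [← hS]; rfl
  rw [S.card_eq_index_normalizer, hSset, ← hN] at hsyl
  refine ⟨n + 1, c, t, N.index, by omega, hle, hA, hB, hc, ht1, ?_, ?_, ?_, ?_, ?_⟩
  · by_contra hcon
    have ht0 : 0 < t := by
      rcases Nat.eq_zero_or_pos t with h0 | h0
      · rw [h0, mul_zero] at hNt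
        exact absurd hNt Nat.card_pos.ne'
      · exact h0
    have ht11 : t = 1 := by omega
    rw [ht11, mul_one] at hNt
    have h3 : C = N := Subgroup.eq_of_le_of_card_ge hCN hNt.le
    refine not_normalizer_le h.nonab S ?_ ?_
    · rw [hS]
      intro h0
      rw [h0, Subgroup.card_bot] at hPcard
      exact hr.one_lt.ne hPcard
    · rw [hS, ← hN, ← h3, hCP]
  · rw [← hc, ← hNt, Subgroup.card_mul_index]
  · have h3 := hsyl
    unfold Nat.ModEq at h3
    rw [Nat.mod_eq_of_lt hr.one_lt] at h3
    exact h3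
  · apply h.min
    intro htop
    have hnorm : P.Normal := by
      rw [hN] at htop
      exact Subgroup.normalizer_eq_top_iff.1 htop
    rcases hnorm.eq_bot_or_eq_top with h3 | h3
    · rw [h3, Subgroup.card_bot] at hPcard
      exact hr.one_lt.ne hPcard
    · apply h.nonab
      have hcyc : IsCyclic T := by
        refine ⟨x, fun y => ?_⟩
        have hy : y ∈ P := by rw [h3]; trivial
        exact Subgroup.mem_zpowers_iff.1 hy
      exact IsCyclic.isMulCommutative
  · -- fixed points
    let _ : MulAction T (Fin l) := MulAction.compHom (Fin l) f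
    have hsm : ∀ (g : T) (a : Fin l), g • a = f g a := fun _ _ => rfl
    have htr : IsPretransitive T (Fin l) := by
      refine ⟨fun a b => ?_⟩
      obtain ⟨⟨_, g, rfl⟩, hg⟩ := exists_smul_eq f.range a b
      exact ⟨g, hg⟩
    have h3 := card_fix_dvd (Ω := Fin l) S
    have h4 : Nat.card {a : Fin l // ∀ g ∈ (S : Subgroup T), g • a = a} = l - (n + 1) * r := by
      rw [← hsum, Perm.sum_cycleType]
      have h5 : (f x).support.card + ((f x).supportᶜ).card = l := by
        rw [Finset.card_add_card_compl, Fintype.card_fin]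
      have h6 : Nat.card {a : Fin l // ∀ g ∈ (S : Subgroup T), g • a = a} = ((f x).supportᶜ).card := by
        rw [← Fintype.card_coe, ← Nat.card_eq_fintype_card]
        refine Nat.card_congr (Equiv.subtypeEquivRight fun a => ?_)
        rw [Finset.mem_compl, Perm.mem_support, not_not, hS]
        constructor
        · intro ha
          exact ha x (Subgroup.mem_zpowers x)
        · rintro ha g ⟨i, rfl⟩
          have h7 : f x ∈ stabilizer (Perm (Fin l)) a := ha
          have h8 := zpow_mem h7 i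
          have h9 : (f x) ^ i = f (x ^ i) := (map_zpow f x i).symm
          rw [h9] at h8
          exact h8
      rw [h6]
      omega
    rw [h4, hS] at h3
    rcases h3 with h3 | h3
    · exact Or.inl h3
    · right
      rw [← hN, hNt, hc] at h3
      exact h3

/-! ### the checker -/

/-- upper bound for the order of the centralizer of an element of prime order `r` exactly dividing
the order -/
def exC (L : List (ℕ × ℕ)) (N l r : ℕ) : ℕ :=
  mx ((qs l r).map fun q =>
    mx ((divs (L.map fun x => (x.1, ex x.1 ((l - q * r).factorial * q.factorial) x.2))).map fun c =>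
      if (ts r).any (fun t => Nat.ble 2 t && (Nat.beq ((c * t) % r) ((N / r) % r) &&
        (Nat.ble (r * c * t * l) N && (Nat.beq (N % (r * c * t)) 0 &&
          (Nat.beq (l - q * r) 0 || Nat.beq ((r * c * t) % (l - q * r)) 0)))))
      then r * c else 0))

/-- the bound for the centralizer order -/
def cenC (L : List (ℕ × ℕ)) (N l r : ℕ) : ℕ :=
  if Nat.beq (N % r ^ 2) 0 then genC N l r else exC L N l r

/-- the bound, using known bounds `E` -/
def bdC (L : List (ℕ × ℕ)) (N l r : ℕ) : List (ℕ × ℕ) → ℕ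
  | [] => cenC L N l r
  | e :: E => if Nat.beq e.1 r then Nat.min e.2 (bdC L N l r E) else bdC L N l r E

/-- sum of the centralizer bounds -/
def sumC (L E : List (ℕ × ℕ)) (N l : ℕ) : List ℕ → ℕ
  | [] => 0
  | r :: R => bdC L N l r E + sumC L E N l R

/-- The rules -/
inductive Rule
  | V
  | D
  | J (r k : ℕ)
  | F (r : ℕ)
  | K (R : List ℕ)
  | M

/-- the check of a rule -/
def valid (L E : List (ℕ × ℕ)) (M N o l : ℕ) : Rule → Bool
  | .V => !(Nat.beq (l.factorial % (2 * N)) 0)
  | .D => !(Nat.beq (N % l) 0)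
  | .J r k => isP L r && (Nat.ble (r + 3) l && (Nat.beq (N % r ^ k) 0 &&
      (!(Nat.beq (l.factorial % r ^ (k + 1)) 0) && !(Nat.beq l.factorial (2 * N)))))
  | .F r => isP L r && (!(Nat.beq (N % r ^ 2) 0) && (!(Nat.beq l.factorial (2 * N)) &&
      Nat.beq (exC L N l r) 0))
  | .K R => R.all (isP L) && (nodupB R && (!(Nat.beq l.factorial (2 * N)) &&
      Nat.ble ((o * (sumC L E N l R + N / (prodR R) ^ 2)) ^ 2) (2 ^ l)))
  | .M => Nat.ble ((o * M) ^ 2) (2 ^ l)

/-- the check of a list of rules for `l, l + 1, …` -/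
def check (L E : List (ℕ × ℕ)) (M N o : ℕ) : ℕ → List Rule → Bool
  | l, [] => Nat.ble ((o * Nat.min M (1 + (N - 1) / l)) ^ 2) (2 ^ l)
  | l, ρ :: ρs => valid L E M N o l ρ && check L E M N o (l + 1) ρs

section

variable {L E : List (ℕ × ℕ)}

theorem exC_spec (h : Sit T l) (h5 : 5 ≤ l) (hL : ∀ x ∈ L, x.1.Prime) (hN : Nat.card T = prodL L)
    (halt : l.factorial ≠ 2 * Nat.card T) {r : ℕ} (hr : r.Prime)
    (hr2 : ¬ r ^ 2 ∣ Nat.card T) (x : T) (hx : orderOf x = r) :
    Nat.card (Subgroup.centralizer ({x} : Set T)) ≤ exC L (Nat.card T) l r := by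
  obtain ⟨q, c, t, m, hq1, hql, hdvd, hcyc, hC, ht, ht2, hm, hmr, hml, hf⟩ := Sit.exactF h h5 hr hr2 x hx
  have hcpos : 0 < Nat.card (Subgroup.centralizer ({x} : Set T)) := Nat.card_pos
  have hc0 : 0 < c := by
    rcases Nat.eq_zero_or_pos c with h0 | h0
    · rw [hC, h0, mul_zero] at hcpos; omega
    · exact h0
  have hcr : Nat.Coprime c r := by
    rw [Nat.coprime_comm, Nat.Prime.coprime_iff_not_dvd hr]
    intro hd
    apply hr2
    rw [hm]
    obtain ⟨c', rfl⟩ := hd
    exact ⟨c' * t * m, by ring⟩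
  have hc1 : c ∣ (l - q * r).factorial * q.factorial := by
    have h1 : c ∣ r ^ q * ((l - q * r).factorial * q.factorial) := by
      refine Dvd.dvd.trans ?_ (Dvd.dvd.trans hdvd (dvd_of_eq (by ring)))
      rw [hC]; exact Dvd.intro_left _ rfl
    exact (hcr.pow_right q).dvd_of_dvd_mul_left h1
  have hcN : c ∣ prodL L := by
    rw [← hN, hm]
    exact ⟨r * t * m, by ring⟩
  have hmem := mem_divs _ L hL c hcN hc1
  have hr1 := hr.one_lt
  unfold exC
  refine le_trans ?_ (le_mx (List.mem_map.2 ⟨q, mem_qs hr.pos hq1 hql fun h1 h2 => halt (hcyc h1 h2), rfl⟩))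
  refine le_trans ?_ (le_mx (List.mem_map.2 ⟨c, hmem, rfl⟩))
  rw [if_pos, hC]
  rw [List.any_eq_true]
  refine ⟨t, mem_ts hr1 ht, ?_⟩
  rw [Bool.and_eq_true, Bool.and_eq_true, Bool.and_eq_true, Bool.and_eq_true, Nat.ble_eq, Nat.beq_eq,
    Nat.ble_eq, Nat.beq_eq, Bool.or_eq_true, Nat.beq_eq, Nat.beq_eq]
  refine ⟨ht2, ?_, ?_, Nat.mod_eq_zero_of_dvd ⟨m, hm⟩, ?_⟩
  · have h1 : Nat.card T / r = c * t * m := by
      rw [hm]
      apply Nat.div_eq_of_eq_mul_right hr.pos
      ring
    rw [h1, Nat.mul_mod (c * t) m, hmr, mul_one, Nat.mod_mod]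
  · rw [hm]
    exact Nat.mul_le_mul_left _ hml
  · rcases hf with hf | hf
    · exact Or.inl hf
    · exact Or.inr (Nat.mod_eq_zero_of_dvd hf)

theorem cenC_spec (h : Sit T l) (h5 : 5 ≤ l) (hL : ∀ x ∈ L, x.1.Prime) (hN : Nat.card T = prodL L)
    (halt : l.factorial ≠ 2 * Nat.card T) {r : ℕ} (hr : r.Prime)
    (x : T) (hx : orderOf x = r) :
    Nat.card (Subgroup.centralizer ({x} : Set T)) ≤ cenC L (Nat.card T) l r := by
  unfold cenC
  split_ifs with h1
  · exact genC_spec h h5 halt hr x hx
  · refine exC_spec h h5 hL hN halt hr ?_ x hx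
    rw [Nat.beq_eq] at h1
    exact fun h2 => h1 (Nat.mod_eq_zero_of_dvd h2)

theorem bdC_spec (h : Sit T l) (h5 : 5 ≤ l) (hL : ∀ x ∈ L, x.1.Prime) (hN : Nat.card T = prodL L)
    (halt : l.factorial ≠ 2 * Nat.card T) {r : ℕ} (hr : r.Prime) (hrN : r ∣ Nat.card T) :
    ∀ E : List (ℕ × ℕ), (∀ e ∈ E, ∃ x : T, (∃ k : ℕ, orderOf x = e.1 ^ k) ∧
      Nat.card (Subgroup.centralizer ({x} : Set T)) ≤ e.2) →
    ∃ x : T, (∃ k : ℕ, orderOf x = r ^ k) ∧
      Nat.card (Subgroup.centralizer ({x} : Set T)) ≤ bdC L (Nat.card T) l r E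
  | [], _ => by
    have : Fact r.Prime := ⟨hr⟩
    obtain ⟨x, hx⟩ := exists_prime_orderOf_dvd_card' r hrN
    exact ⟨x, ⟨1, by rw [pow_one]; exact hx⟩, cenC_spec h h5 hL hN halt hr x hx⟩
  | e :: E, hE => by
    have ih := bdC_spec h h5 hL hN halt hr hrN E fun e he => hE e (List.mem_cons_of_mem _ he)
    unfold bdC
    split_ifs with h1
    · rw [Nat.beq_eq] at h1
      obtain ⟨x, hx, hxe⟩ := ih
      obtain ⟨y, hy, hye⟩ := hE e List.mem_cons_self
      rcases Nat.le_total e.2 (bdC L (Nat.card T) l r E) with h2 | h2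
      · refine ⟨y, by rw [← h1]; exact hy, ?_⟩
        exact hye.trans (Nat.le_min.2 ⟨le_rfl, h2⟩)
      · refine ⟨x, hx, ?_⟩
        exact hxe.trans (Nat.le_min.2 ⟨h2, le_rfl⟩)
    · exact ih

theorem sum_le_sumC (N : ℕ) (f : ℕ → ℕ) : ∀ (R : List ℕ), (∀ r ∈ R, f r ≤ bdC L N l r E) → nodupB R = true →
    ∑ r ∈ R.toFinset, f r ≤ sumC L E N l R
  | [], _, _ => by simp [sumC]
  | r :: R, h, hd => by
    rw [nodupB, Bool.and_eq_true, Bool.not_eq_true'] at hd
    have hr : r ∉ R.toFinset := by
      rw [List.mem_toFinset]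
      intro hmem
      have h1 : R.any (fun s => Nat.beq r s) = true := by
        rw [List.any_eq_true]
        exact ⟨r, hmem, by rw [Nat.beq_eq]⟩
      rw [h1] at hd
      exact absurd hd.1 (by simp)
    rw [List.toFinset_cons, Finset.sum_insert hr, sumC]
    exact Nat.add_le_add (h r List.mem_cons_self)
      (sum_le_sumC N f R (fun s hs => h s (List.mem_cons_of_mem _ hs)) hd.2)

/-- a valid rule gives the bound -/
theorem valid_spec (h : Sit T l) (h5 : 5 ≤ l) (hL : ∀ x ∈ L, x.1.Prime) (hN : Nat.card T = prodL L)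
    (hE : ∀ e ∈ E, ∃ x : T, (∃ k : ℕ, orderOf x = e.1 ^ k) ∧
      Nat.card (Subgroup.centralizer ({x} : Set T)) ≤ e.2) {M : ℕ}
    (hM : Nat.card (ConjClasses T) ≤ M)
    {o : ℕ} (ρ : Rule) (hρ : valid L E M (Nat.card T) o l ρ = true) :
    (o * Nat.card (ConjClasses T)) ^ 2 ≤ 2 ^ l := by
  classical
  cases ρ with
  | V =>
    rw [valid, Bool.not_eq_true', ← Bool.not_eq_true, Nat.beq_eq] at hρ
    exact absurd (Nat.mod_eq_zero_of_dvd h.card_dvd) hρ
  | D =>
    rw [valid, Bool.not_eq_true', ← Bool.not_eq_true, Nat.beq_eq] at hρ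
    exact absurd (Nat.mod_eq_zero_of_dvd h.dvd) hρ
  | J r k =>
    rw [valid, Bool.and_eq_true, Bool.and_eq_true, Bool.and_eq_true, Bool.and_eq_true, Nat.ble_eq,
      Nat.beq_eq, Bool.not_eq_true', ← Bool.not_eq_true, Nat.beq_eq,
      Bool.not_eq_true', ← Bool.not_eq_true, Nat.beq_eq] at hρ
    obtain ⟨h1, h2, h3, h4, h6⟩ := hρ
    have hr := prime_of_isP hL h1
    exact absurd (Sit.jj h h5 hr h2 (Nat.dvd_of_mod_eq_zero h3)
      (fun hd => h4 (Nat.mod_eq_zero_of_dvd hd))) h6
  | F r =>
    rw [valid, Bool.and_eq_true, Bool.and_eq_true, Bool.and_eq_true, Bool.not_eq_true',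
      ← Bool.not_eq_true, Nat.beq_eq, Bool.not_eq_true', ← Bool.not_eq_true, Nat.beq_eq,
      Nat.beq_eq] at hρ
    obtain ⟨h1, h2, h3, h4⟩ := hρ
    have hr := prime_of_isP hL h1
    have : Fact r.Prime := ⟨hr⟩
    obtain ⟨x, hx⟩ := exists_prime_orderOf_dvd_card' r (dvd_of_isP hN h1)
    have h6 := exC_spec h h5 hL hN h3 hr
      (fun h2' => h2 (Nat.mod_eq_zero_of_dvd h2')) x hx
    rw [h4] at h6
    have h7 : 0 < Nat.card (Subgroup.centralizer ({x} : Set T)) := Nat.card_pos
    omega
  | K R =>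
    rw [valid, Bool.and_eq_true, Bool.and_eq_true, Bool.and_eq_true, Bool.not_eq_true',
      ← Bool.not_eq_true, Nat.beq_eq, Nat.ble_eq, List.all_eq_true] at hρ
    obtain ⟨h1, h2, h3, h4⟩ := hρ
    have hprime : ∀ r ∈ R, r.Prime := fun r hr => prime_of_isP hL (h1 r hr)
    have hex : ∀ r : ℕ, ∃ x : T, r ∈ R → (∃ k : ℕ, orderOf x = r ^ k) ∧
        Nat.card (Subgroup.centralizer ({x} : Set T)) ≤ bdC L (Nat.card T) l r E := by
      intro r
      by_cases hr : r ∈ R
      · obtain ⟨x, hx⟩ := bdC_spec h h5 hL hN h3 (hprime r hr) (dvd_of_isP hN (h1 r hr)) E hE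
        exact ⟨x, fun _ => hx⟩
      · exact ⟨1, fun h => absurd h hr⟩
    choose x hx using hex
    have h6 := card_conjClasses_le' (G := T) R.toFinset
      (fun r hr => hprime r (List.mem_toFinset.1 hr)) x (fun r hr => (hx r (List.mem_toFinset.1 hr)).1)
    have h7 := sum_le_sumC (L := L) (E := E) (l := l) (Nat.card T)
      (fun r => Nat.card (Subgroup.centralizer ({x r} : Set T))) R
      (fun r hr => (hx r hr).2) h2
    rw [prod_eq_prodR R h2] at h6
    refine le_trans (Nat.pow_le_pow_left (Nat.mul_le_mul_left _ ?_) 2) h4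
    exact h6.trans (Nat.add_le_add_right h7 _)
  | M =>
    rw [valid, Nat.ble_eq] at hρ
    exact le_trans (Nat.pow_le_pow_left (Nat.mul_le_mul_left _ hM) 2) hρ

end

theorem of_check_aux {T : Type u} [Group T] [Finite T] [hs : IsSimpleGroup T]
    (hT : ¬ IsMulCommutative T) {o M : ℕ} (ho : Nat.card (Cfsg.Out T) ≤ o)
    (hM : Nat.card (ConjClasses T) ≤ M) {L E : List (ℕ × ℕ)}
    (hL : ∀ x ∈ L, x.1.Prime) (hN : Nat.card T = prodL L)
    (hE : ∀ e ∈ E, ∃ x : T, (∃ k : ℕ, orderOf x = e.1 ^ k) ∧
      Nat.card (Subgroup.centralizer ({x} : Set T)) ≤ e.2) :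
    ∀ (ρs : List Rule) (l : ℕ), 5 ≤ l → (∀ K : Subgroup T, K ≠ ⊤ → l ≤ K.index) →
      check L E M (Nat.card T) o l ρs = true → Good T
  | [], l, h5, hl, hc => by
    rw [check, Nat.ble_eq] at hc
    refine Good.of_bounds (c := Nat.min M (1 + (Nat.card T - 1) / l)) (o := o) (L := l) ?_ ho hl ?_
    · exact Nat.le_min.2 ⟨hM, H539.card_conjClasses_le_div (H539.center_eq_bot hT) (by omega) hl⟩
    · rw [mul_comm]
      exact hc
  | ρ :: ρs, l, h5, hl, hc => by
    rw [check, Bool.and_eq_true] at hc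
    by_cases hex : ∃ K : Subgroup T, K ≠ ⊤ ∧ K.index = l
    · have hsit : Sit T l := ⟨hs, hT, hl, hex⟩
      have h1 := valid_spec hsit h5 hL hN hE hM ρ hc.1
      intro K hK
      calc (Nat.card (ConjClasses T) * Nat.card (Cfsg.Out T)) ^ 2
          ≤ (o * Nat.card (ConjClasses T)) ^ 2 := by
            rw [mul_comm]
            exact Nat.pow_le_pow_left (Nat.mul_le_mul_right _ ho) 2
        _ ≤ 2 ^ l := h1
        _ ≤ 2 ^ K.index := Nat.pow_le_pow_right (by norm_num) (hl K hK)
    · push Not at hex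
      refine of_check_aux hT ho hM hL hN hE ρs (l + 1) (by omega) (fun K hK => ?_) hc.2
      have h1 := hl K hK
      have h2 := hex K hK
      omega

/-- **The engine**: `T` nonabelian simple of order `prodL L = N`, `|Out T| ≤ o`, `k(T) ≤ M`, all proper
subgroups of index at least `b`, `E` a list of bounds for centralizers. -/
theorem of_check {T : Type u} [Group T] [Finite T] [IsSimpleGroup T]
    (hT : ¬ IsMulCommutative T) {o N M b : ℕ} (ho : Nat.card (Cfsg.Out T) ≤ o)
    (hM : Nat.card (ConjClasses T) ≤ M) (L E : List (ℕ × ℕ))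
    (hL : ∀ x ∈ L, x.1.Prime) (hN : Nat.card T = N) (hNL : prodL L = N)
    (hE : ∀ e ∈ E, ∃ x : T, (∃ k : ℕ, orderOf x = e.1 ^ k) ∧
      Nat.card (Subgroup.centralizer ({x} : Set T)) ≤ e.2) (h5 : 5 ≤ b)
    (hb : ∀ K : Subgroup T, K ≠ ⊤ → b ≤ K.index) (ρs : List Rule)
    (hc : check L E M N o b ρs = true) : Good T := by
  refine of_check_aux hT ho hM hL (hN.trans hNL.symm) hE ρs b h5 hb ?_
  rw [hN]
  exact hc

/-- the same without known bounds for the class number and the centralizers, starting with `5`. -/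
theorem of_check₀ {T : Type u} [Group T] [Finite T] [IsSimpleGroup T]
    (hT : ¬ IsMulCommutative T) {o N : ℕ} (ho : Nat.card (Cfsg.Out T) ≤ o) (L : List (ℕ × ℕ))
    (hL : ∀ x ∈ L, x.1.Prime) (hN : Nat.card T = N) (hNL : prodL L = N) (ρs : List Rule)
    (hc : check L [] N N o 5 ρs = true) : Good T :=
  of_check hT ho (hN ▸ card_conjClasses_le_card) L [] hL hN hNL
    (fun e he => absurd he (by simp)) le_rfl (SmallSimple.Embed.five_le_index hT) ρs hc

end Cfsg.Agent.H540.EngG
end

private theorem dce_562d3b488647 : _root_.True := by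
  try have : _root_.True := by simp only [_root_.Cfsg.Agent.H540.EngG.bdC.eq_def]
  try have : _root_.True := by simp only [_root_.Cfsg.Agent.H540.EngG.sumC.eq_2]
  try have : _root_.True := by simp only [_root_.Cfsg.Agent.H540.EngG.check.eq_1]
  try have : _root_.True := by simp only [_root_.Cfsg.Agent.H540.EngG.valid.eq_3]
  try have : _root_.True := by simp only [_root_.Cfsg.Agent.H540.EngG.valid.eq_5]
  try have : _root_.True := by simp only [_root_.Cfsg.Agent.H540.EngG.sumC.eq_def]
  try have : _root_.True := by simp only [_root_.Cfsg.Agent.H540.EngG.check.eq_2]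
  try have : _root_.True := by simp only [_root_.Cfsg.Agent.H540.EngG.sumC.eq_1]
  try have : _root_.True := by simp only [_root_.Cfsg.Agent.H540.EngG.valid.eq_1]
  try have : _root_.True := by simp only [_root_.Cfsg.Agent.H540.EngG.valid.eq_2]
  try have : _root_.True := by simp only [_root_.Cfsg.Agent.H540.EngG.check.eq_def]
  try have : _root_.True := by simp only [_root_.Cfsg.Agent.H540.EngG.valid.eq_6]
  try have : _root_.True := by simp only [_root_.Cfsg.Agent.H540.EngG.valid.eq_4]
  exact _root_.True.intro
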