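import Cfsg.Agent.H540.ClassNum
import Cfsg.Agent.H867.MinIdx_m3
import Cfsg.Agent.H553.PermClass
import Cfsg.Agent.Lib.ElemAbGL
import Cfsg.Agent.H151.GLClass
import Cfsg.Agent.H168.GLFour
import Cfsg.Agent.S2478
import Cfsg.Agent.H540.EngG
import Cfsg.Agent.H539.RowPSL_mg_m3
import Cfsg.Agent.S0243
import Mathlib.Tactic.NormNum.Prime
import Cfsg.Agent.H392.HalfTrans
import Cfsg.Agent.S0720
import Cfsg.Agent.S2141
import Cfsg.Agent.H599.IdxG2
import Cfsg.Agent.S0073
import Cfsg.Agent.S0721
import Cfsg.Agent.H540.SmallSym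
import Cfsg.Agent.S0547
import Cfsg.Agent.H771.KTools_m3
import Cfsg.Agent.H525.PslK
import Cfsg.Agent.H436.CompOne
import Cfsg.Agent.S0494
import Cfsg.Agent.S0495
import Cfsg.Agent.S0497
import Cfsg.Agent.S1011
import Cfsg.Agent.S0813
import Cfsg.Agent.H934.OutCl
import Cfsg.Agent.H341.ThreeList_m3
import Cfsg.Prelude.Def_Classification2
import Cfsg.Agent.H74.SpN
import Cfsg.Agent.S0822
import Cfsg.Agent.H934.HeisE6_m3
import Cfsg.Agent.H678.PV.CoSym
import Cfsg.Agent.S2342
import Cfsg.Agent.H596.Degree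
import Cfsg.Agent.H400.LieLocal
import Cfsg.Agent.S2382
import Cfsg.Agent.S0635
import Cfsg.Agent.H180.KM11Cube
import Cfsg.Agent.H417.JThreeCols
import Cfsg.Agent.J3Type.CharOrder_mg
import Cfsg.Agent.H898.J3Cent
import Cfsg.Agent.H603.SporElim
import Cfsg.Agent.S2060
import Cfsg.Agent.S2067
import Cfsg.Agent.H417.BlockCount
import Cfsg.Agent.CoThreeStd.M12.Out
import Cfsg.Agent.MTwelve.SylowEleven
import Cfsg.Agent.S2061
import Cfsg.Agent.H235.TitsRow
import Cfsg.Agent.H867.TitsOut
import Cfsg.Agent.OrdDiv.Table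
import Cfsg.Agent.FastGrp
import Cfsg.Agent.Prune
set_option linter.all false

section
prune_inst 0x7fbcfef9afb80ddedfff7e7ffef0dffc30848fffe6dff94bffe4ebbfabdf23020be5fb870de010ff0e56e01410b87813f97eceffe06bdc7ffffd5ff45ffbee1fa5e6bd0171d79c340fbc0fff63e0778e7f3fffffffffffffffffffffffffffbefffdffffffff

-- part: H540/HalfBound
section
set_option linter.all false
open scoped Cfsg.Agent.FastGrp

/-!
# Class numbers: abelian normal subgroups with faithful action

* `half_bound` : if `N` is an abelian normal `q`-subgroup with `C_G(N) ≤ N` then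
  `q * |G/N| * k(G) ≤ |N| * (|G/N| * k(G/N) + (q - 1))`.
-/

set_option autoImplicit false

namespace Cfsg.Agent.H540.HalfBound

open Cfsg.Agent.H540.ClassNum

/-- the commuting pairs -/
abbrev CP (G : Type*) [Group G] : Type _ := {p : G × G // Commute p.1 p.2}

variable {G : Type*} [Group G]

section Fibre

variable (N : Subgroup G) [N.Normal]

/-- the twisted difference map `(u, v) ↦ [u, y] [v, x]⁻¹`. -/
def phi (hab : ∀ a ∈ N, ∀ b ∈ N, a * b = b * a) (x y : G) : N × N →* N where
  toFun p := ⟨(y⁻¹ * p.1 * y * (p.1 : G)⁻¹) * (x⁻¹ * p.2 * x * (p.2 : G)⁻¹)⁻¹, by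
    have h1 : ∀ (z : G) (u : N), z⁻¹ * (u : G) * z ∈ N := fun z u => by
      have := (inferInstance : N.Normal).conj_mem u u.2 z⁻¹
      rwa [inv_inv] at this
    exact N.mul_mem (N.mul_mem (h1 y p.1) (N.inv_mem p.1.2))
      (N.inv_mem (N.mul_mem (h1 x p.2) (N.inv_mem p.2.2)))⟩
  map_one' := by
    apply Subtype.ext
    simp
  map_mul' p p' := by
    apply Subtype.ext
    have h1 : ∀ (z : G) (u : N), z⁻¹ * (u : G) * z ∈ N := fun z u => by
      have := (inferInstance : N.Normal).conj_mem u u.2 z⁻¹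
      rwa [inv_inv] at this
    have key : ∀ (z : G) (u v : N), z⁻¹ * ((u * v : N) : G) * z * ((u * v : N) : G)⁻¹ =
        (z⁻¹ * (u : G) * z * (u : G)⁻¹) * (z⁻¹ * (v : G) * z * (v : G)⁻¹) := by
      intro z u v
      have e1 : (z⁻¹ * (v : G) * z) * (v : G)⁻¹ * (u : G)⁻¹ = (u : G)⁻¹ * ((z⁻¹ * (v : G) * z) * (v : G)⁻¹) :=
        hab _ (N.mul_mem (h1 z v) (N.inv_mem v.2)) _ (N.inv_mem u.2)
      calc z⁻¹ * ((u * v : N) : G) * z * ((u * v : N) : G)⁻¹
          = (z⁻¹ * (u : G) * z) * ((z⁻¹ * (v : G) * z) * (v : G)⁻¹ * (u : G)⁻¹) := by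
            rw [Subgroup.coe_mul]; group
        _ = _ := by rw [e1]; group
    have hm : ∀ (z : G) (u : N), z⁻¹ * (u : G) * z * (u : G)⁻¹ ∈ N := fun z u =>
      N.mul_mem (h1 z u) (N.inv_mem u.2)
    change (y⁻¹ * ((p.1 * p'.1 : N) : G) * y * ((p.1 * p'.1 : N) : G)⁻¹) *
        (x⁻¹ * ((p.2 * p'.2 : N) : G) * x * ((p.2 * p'.2 : N) : G)⁻¹)⁻¹ =
      ((y⁻¹ * (p.1 : G) * y * (p.1 : G)⁻¹) * (x⁻¹ * (p.2 : G) * x * (p.2 : G)⁻¹)⁻¹) *
      ((y⁻¹ * (p'.1 : G) * y * (p'.1 : G)⁻¹) * (x⁻¹ * (p'.2 : G) * x * (p'.2 : G)⁻¹)⁻¹)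
    rw [key, key]
    generalize h2 : y⁻¹ * (p.1 : G) * y * (p.1 : G)⁻¹ = A
    generalize h3 : y⁻¹ * (p'.1 : G) * y * (p'.1 : G)⁻¹ = B
    generalize h4 : x⁻¹ * (p.2 : G) * x * (p.2 : G)⁻¹ = C
    generalize h5 : x⁻¹ * (p'.2 : G) * x * (p'.2 : G)⁻¹ = D
    have hA : A ∈ N := h2 ▸ hm y p.1
    have hB : B ∈ N := h3 ▸ hm y p'.1
    have hC : C ∈ N := h4 ▸ hm x p.2
    have hD : D ∈ N := h5 ▸ hm x p'.2
    have e2 : B * (D⁻¹ * C⁻¹) = C⁻¹ * (B * D⁻¹) := by
      rw [← mul_assoc]
      exact hab _ (N.mul_mem hB (N.inv_mem hD)) _ (N.inv_mem hC)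
    rw [mul_inv_rev]
    calc A * B * (D⁻¹ * C⁻¹) = A * (B * (D⁻¹ * C⁻¹)) := by group
      _ = A * (C⁻¹ * (B * D⁻¹)) := by rw [e2]
      _ = _ := by group

/-- the fibre of commuting pairs over a pair of cosets is at most the kernel of `phi`. -/
theorem card_fibre_le [Finite G] (hab : ∀ a ∈ N, ∀ b ∈ N, a * b = b * a) (x y : G) (hxy : x * y = y * x) :
    Nat.card {p : CP G // (QuotientGroup.mk p.1.1 : G ⧸ N) = QuotientGroup.mk x ∧
      (QuotientGroup.mk p.1.2 : G ⧸ N) = QuotientGroup.mk y} ≤ Nat.card (phi N hab x y).ker := by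
  refine Nat.card_le_card_of_injective (fun p => ⟨(⟨x⁻¹ * p.1.1.1, ?_⟩, ⟨y⁻¹ * p.1.1.2, ?_⟩), ?_⟩) ?_
  · rw [← QuotientGroup.eq]; exact p.2.1.symm
  · rw [← QuotientGroup.eq]; exact p.2.2.symm
  · rw [MonoidHom.mem_ker]
    apply Subtype.ext
    change (y⁻¹ * (x⁻¹ * p.1.1.1) * y * (x⁻¹ * p.1.1.1)⁻¹) * (x⁻¹ * (y⁻¹ * p.1.1.2) * x * (y⁻¹ * p.1.1.2)⁻¹)⁻¹ = 1
    have hc : p.1.1.1 * p.1.1.2 = p.1.1.2 * p.1.1.1 := p.1.2
    have hu : x⁻¹ * p.1.1.1 ∈ N := by rw [← QuotientGroup.eq]; exact p.2.1.symm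
    have hv : y⁻¹ * p.1.1.2 ∈ N := by rw [← QuotientGroup.eq]; exact p.2.2.symm
    generalize p.1.1.1 = X at *
    generalize p.1.1.2 = Y at *
    obtain ⟨u, rfl⟩ : ∃ u, X = x * u := ⟨x⁻¹ * X, by group⟩
    obtain ⟨v, rfl⟩ : ∃ v, Y = y * v := ⟨y⁻¹ * Y, by group⟩
    rw [inv_mul_cancel_left] at hu hv ⊢
    rw [inv_mul_cancel_left]
    have h1 : ∀ (z : G) (u : G), u ∈ N → z⁻¹ * (u : G) * z ∈ N := fun z u hu => by
      have := (inferInstance : N.Normal).conj_mem u hu z⁻¹
      rwa [inv_inv] at this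
    -- `(y⁻¹ u y) v = (x⁻¹ v x) u`
    have h2 : (y⁻¹ * u * y) * v = (x⁻¹ * v * x) * u := by
      have h3 : x * y * ((y⁻¹ * u * y) * v) = x * y * ((x⁻¹ * v * x) * u) := by
        calc x * y * ((y⁻¹ * u * y) * v) = x * u * (y * v) := by group
          _ = y * v * (x * u) := hc
          _ = y * x * ((x⁻¹ * v * x) * u) := by group
          _ = _ := by rw [hxy]
      exact mul_left_cancel h3
    have h4 : y⁻¹ * u * y = x⁻¹ * v * x * u * v⁻¹ := by rw [← h2]; group
    have h5 : u * v⁻¹ = v⁻¹ * u := hab _ hu _ (N.inv_mem hv)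
    rw [h4]
    have h6 : x⁻¹ * v * x * u * v⁻¹ * u⁻¹ = x⁻¹ * v * x * v⁻¹ := by
      rw [mul_assoc (x⁻¹ * v * x) u v⁻¹, h5]; group
    rw [h6, mul_inv_cancel]
  · intro p p' h
    have h0 := congrArg Subtype.val h
    have h1 := congrArg Subtype.val (congrArg Prod.fst h0)
    have h2 := congrArg Subtype.val (congrArg Prod.snd h0)
    apply Subtype.ext
    apply Subtype.ext
    exact Prod.ext (mul_left_cancel h1) (mul_left_cancel h2)

end Fibre

/-- If `N` is an abelian normal `q`-subgroup with `C_G(N) ≤ N` then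
`q * |G/N| * k(G) ≤ |N| * (|G/N| * k(G/N) + (q - 1))`. -/
theorem half_bound [Finite G] (N : Subgroup G) [N.Normal] (q : ℕ) [hq : Fact q.Prime]
    (hN : IsPGroup q N) (hab : ∀ a ∈ N, ∀ b ∈ N, a * b = b * a)
    (hC : Subgroup.centralizer (N : Set G) ≤ N) :
    q * (Nat.card (G ⧸ N) * Nat.card (ConjClasses G)) ≤
      Nat.card N * (Nat.card (G ⧸ N) * Nat.card (ConjClasses (G ⧸ N)) + (q - 1)) := by
  classical
  have := Fintype.ofFinite G
  have := Fintype.ofFinite (G ⧸ N)
  have := Fintype.ofFinite (CP (G ⧸ N))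
  -- fibre bounds
  have hfib : ∀ a b : G ⧸ N, q * Nat.card {p : CP G // (QuotientGroup.mk p.1.1 : G ⧸ N) = a ∧
      (QuotientGroup.mk p.1.2 : G ⧸ N) = b} ≤
      Nat.card N ^ 2 * (if a = 1 ∧ b = 1 then q else 1) := by
    intro a b
    rcases isEmpty_or_nonempty {p : CP G // (QuotientGroup.mk p.1.1 : G ⧸ N) = a ∧
      (QuotientGroup.mk p.1.2 : G ⧸ N) = b} with he | ⟨⟨⟨⟨x, y⟩, hxy⟩, hx, hy⟩⟩
    · rw [Nat.card_of_isEmpty, mul_zero]; exact Nat.zero_le _
    · have hx' : (QuotientGroup.mk x : G ⧸ N) = a := hx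
      have hy' : (QuotientGroup.mk y : G ⧸ N) = b := hy
      subst hx'
      subst hy'
      have h1 := card_fibre_le N hab x y hxy
      have h2 : Nat.card (phi N hab x y).ker * Nat.card (phi N hab x y).range = Nat.card N ^ 2 := by
        rw [← Subgroup.index_ker, Subgroup.card_mul_index, Nat.card_prod, sq]
      split_ifs with h3
      · calc q * _ ≤ q * Nat.card (phi N hab x y).ker := Nat.mul_le_mul_left _ h1
          _ ≤ q * Nat.card N ^ 2 := by
            refine Nat.mul_le_mul_left _ ?_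
            rw [← h2]
            exact Nat.le_mul_of_pos_right _ Nat.card_pos
          _ = _ := mul_comm _ _
      · -- the range is nontrivial
        have h4 : (phi N hab x y).range ≠ ⊥ := by
          intro h5
          rw [MonoidHom.range_eq_bot_iff] at h5
          apply h3
          have key : ∀ p : N × N, (y⁻¹ * (p.1 : G) * y * (p.1 : G)⁻¹) *
              (x⁻¹ * (p.2 : G) * x * (p.2 : G)⁻¹)⁻¹ = 1 := fun p => by
            have := congrArg Subtype.val (DFunLike.congr_fun h5 p)
            exact this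
          constructor
          · rw [QuotientGroup.eq_one_iff]
            apply hC
            rw [Subgroup.mem_centralizer_iff]
            intro v hv
            have h0 : (y⁻¹ * ((1 : N) : G) * y * ((1 : N) : G)⁻¹) * (x⁻¹ * v * x * v⁻¹)⁻¹ = 1 :=
              key (1, ⟨v, hv⟩)
            have h6 : x⁻¹ * v * x * v⁻¹ = 1 := by
              rw [Subgroup.coe_one, mul_one, inv_mul_cancel, one_mul, inv_one, one_mul] at h0
              exact inv_eq_one.1 h0
            have h7 : x⁻¹ * v * x = v := mul_inv_eq_one.1 h6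
            calc v * x = x * (x⁻¹ * v * x) := by group
              _ = x * v := by rw [h7]
          · rw [QuotientGroup.eq_one_iff]
            apply hC
            rw [Subgroup.mem_centralizer_iff]
            intro v hv
            have := key (⟨v, hv⟩, 1)
            have h6 : y⁻¹ * v * y * v⁻¹ = 1 := by simpa using this
            have h7 : y⁻¹ * v * y = v := mul_inv_eq_one.1 h6
            calc v * y = y * (y⁻¹ * v * y) := by group
              _ = y * v := by rw [h7]
        have h5 : q ≤ Nat.card (phi N hab x y).range := by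
          obtain ⟨k, hk⟩ := IsPGroup.iff_card.1 (hN.to_subgroup (phi N hab x y).range)
          have hk0 : k ≠ 0 := by
            rintro rfl
            rw [pow_zero] at hk
            exact h4 (Subgroup.eq_bot_of_card_eq _ hk)
          rw [hk]
          exact Nat.le_self_pow hk0 q
        calc q * _ ≤ Nat.card (phi N hab x y).range * Nat.card (phi N hab x y).ker :=
              Nat.mul_le_mul h5 h1
          _ = Nat.card N ^ 2 * 1 := by rw [mul_comm, h2, mul_one]
  -- sum over the commuting pairs of the quotient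
  let f : CP G → CP (G ⧸ N) := fun p => ⟨(QuotientGroup.mk p.1.1, QuotientGroup.mk p.1.2), by
    have := p.2
    change (QuotientGroup.mk p.1.1 : G ⧸ N) * QuotientGroup.mk p.1.2 =
      QuotientGroup.mk p.1.2 * QuotientGroup.mk p.1.1
    rw [← QuotientGroup.mk_mul, ← QuotientGroup.mk_mul, this.eq]⟩
  have h1 : Nat.card (CP G) = ∑ c : CP (G ⧸ N), Nat.card {p : CP G // f p = c} := by
    rw [← Nat.card_sigma]
    exact Nat.card_congr (Equiv.sigmaFiberEquiv f).symm
  have h2 : ∀ c : CP (G ⧸ N), q * Nat.card {p : CP G // f p = c} ≤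
      Nat.card N ^ 2 * (if c = ⟨(1, 1), Commute.one_right _⟩ then q else 1) := by
    intro c
    have h3 : Nat.card {p : CP G // f p = c} = Nat.card {p : CP G //
        (QuotientGroup.mk p.1.1 : G ⧸ N) = c.1.1 ∧ (QuotientGroup.mk p.1.2 : G ⧸ N) = c.1.2} := by
      apply Nat.card_congr
      refine Equiv.subtypeEquivRight fun p => ?_
      rw [Subtype.ext_iff, Prod.ext_iff]
    rw [h3]
    refine (hfib c.1.1 c.1.2).trans ?_
    refine Nat.mul_le_mul_left _ ?_
    have h4 : (c.1.1 = 1 ∧ c.1.2 = 1) ↔ c = ⟨(1, 1), Commute.one_right _⟩ := by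
      rw [Subtype.ext_iff, Prod.ext_iff]
    split_ifs <;> first | exact le_rfl | (exfalso; tauto)
  have h3 : q * Nat.card (CP G) ≤ Nat.card N ^ 2 * (Nat.card (CP (G ⧸ N)) + (q - 1)) := by
    rw [h1, Finset.mul_sum]
    refine (Finset.sum_le_sum fun c _ => h2 c).trans ?_
    rw [← Finset.mul_sum]
    refine Nat.mul_le_mul_left _ ?_
    have h5 : ∀ c : CP (G ⧸ N), (if c = ⟨(1, 1), Commute.one_right _⟩ then q else 1) =
        1 + (if c = ⟨(1, 1), Commute.one_right _⟩ then q - 1 else 0) := by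
      intro c
      have := hq.out.one_lt
      split_ifs <;> omega
    rw [Finset.sum_congr rfl fun c _ => h5 c, Finset.sum_add_distrib, Finset.sum_ite_eq']
    simp
  rw [card_comm_eq_card_conjClasses_mul_card, card_comm_eq_card_conjClasses_mul_card,
    Subgroup.card_eq_card_quotient_mul_card_subgroup N] at h3
  have hpos : 0 < Nat.card N := Nat.card_pos
  refine Nat.le_of_mul_le_mul_right ?_ hpos
  calc q * (Nat.card (G ⧸ N) * Nat.card (ConjClasses G)) * Nat.card N
      = q * (Nat.card (ConjClasses G) * (Nat.card (G ⧸ N) * Nat.card N)) := by ring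
    _ ≤ _ := h3
    _ = _ := by ring

end Cfsg.Agent.H540.HalfBound
end

-- part: H540/AffEight
section
prune_inst 0x4000000000800120000000000900020040500019000200000910400400006134000008100440009080008a20000000008000000e0000000000000000000000000902ac00002000004260009811082000000000000000000000000000000041000000000000
set_option linter.all false
open scoped Cfsg.Agent.FastGrp

-- part: H540/Dual
section
/-!
# Class numbers and the dual of an abelian normal subgroup

`dual_bound`: `k(G) |G/N| ≤ ∑_λ k(Q_λ) |Q_λ|`, the sum over the characters `λ` of the abelian normal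
subgroup `N`, where `Q_λ ≤ G/N` is the stabilizer of `λ`.
-/

set_option autoImplicit false

namespace Cfsg.Agent.H540.Dual

open Cfsg.Agent.H540.ClassNum Cfsg.Agent.H540.HalfBound

variable {G : Type*} [Group G] (N : Subgroup G) [N.Normal]

/-- the stabilizer of a character of `N` -/
def St (lam : N →* ℂˣ) : Subgroup G where
  carrier := {g | ∀ n : N, lam (MulAut.conjNormal g n) = lam n}
  one_mem' := fun n => by rw [map_one]; rfl
  mul_mem' := by
    intro a b ha hb n
    rw [map_mul, MulAut.mul_apply, ha, hb]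
  inv_mem' := by
    intro a ha n
    have h1 := ha (MulAut.conjNormal a⁻¹ n)
    rw [← MulAut.mul_apply, ← map_mul, mul_inv_cancel, map_one, MulAut.one_apply] at h1
    exact h1.symm

variable {N} in
theorem mem_St {lam : N →* ℂˣ} {g : G} :
    g ∈ St N lam ↔ ∀ n : N, lam (MulAut.conjNormal g n) = lam n := Iff.rfl

theorem le_St (hab : ∀ a ∈ N, ∀ b ∈ N, a * b = b * a) (lam : N →* ℂˣ) : N ≤ St N lam := by
  intro g hg n
  congr 1
  apply Subtype.ext
  rw [MulAut.conjNormal_apply, hab g hg n n.2, mul_inv_cancel_right]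

/-- the stabilizer in the quotient -/
def Qs (lam : N →* ℂˣ) : Subgroup (G ⧸ N) := (St N lam).map (QuotientGroup.mk' N)

variable {N} in
theorem mk_mem_Qs (hab : ∀ a ∈ N, ∀ b ∈ N, a * b = b * a) {lam : N →* ℂˣ} {g : G} :
    (QuotientGroup.mk g : G ⧸ N) ∈ Qs N lam ↔ g ∈ St N lam := by
  constructor
  · rintro ⟨g', hg', h⟩
    have h1 : g'⁻¹ * g ∈ N := QuotientGroup.eq.1 h
    have h2 := mul_mem hg' (le_St N hab lam h1)
    rwa [mul_inv_cancel_left] at h2
  · intro h
    exact ⟨g, h, rfl⟩

theorem Qs_one : Qs N 1 = ⊤ := by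
  rw [eq_top_iff]
  rintro q -
  obtain ⟨g, rfl⟩ := QuotientGroup.mk_surjective q
  exact ⟨g, fun n => rfl, rfl⟩

omit [N.Normal] in
theorem card_dual [Finite G] (hab : ∀ a ∈ N, ∀ b ∈ N, a * b = b * a) :
    Nat.card (N →* ℂˣ) = Nat.card N := by
  let _ : CommGroup N := { (inferInstance : Group N) with
    mul_comm := fun a b => Subtype.ext (hab a a.2 b b.2) }
  exact CommGroup.card_monoidHom_of_hasEnoughRootsOfUnity N ℂ

theorem finite_dual [Finite G] (hab : ∀ a ∈ N, ∀ b ∈ N, a * b = b * a) : Finite (N →* ℂˣ) := by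
  have h1 := card_dual N hab
  have h2 : 0 < Nat.card N := Nat.card_pos
  exact (Nat.card_pos_iff.1 (h1 ▸ h2)).2

omit [N.Normal] in
/-- the number of characters trivial on a subgroup. -/
theorem card_annihilator [Finite G] (hab : ∀ a ∈ N, ∀ b ∈ N, a * b = b * a) (R : Subgroup N) :
    Nat.card {lam : N →* ℂˣ // ∀ x ∈ R, lam x = 1} = R.index := by
  let _ : CommGroup N := { (inferInstance : Group N) with
    mul_comm := fun a b => Subtype.ext (hab a a.2 b b.2) }
  have h1 := CommGroup.card_domRestrictHom_ker (G := N) (M := ℂ) R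
  rw [Subgroup.index_eq_card, ← h1]
  apply Nat.card_congr
  refine Equiv.subtypeEquivRight fun lam => ?_
  rw [MonoidHom.mem_ker]
  constructor
  · intro h
    ext x
    exact congrArg _ (h x.1 x.2)
  · intro h x hx
    exact DFunLike.congr_fun h (⟨x, hx⟩ : R)

theorem fibre_le [Finite G] (hab : ∀ a ∈ N, ∀ b ∈ N, a * b = b * a) (x y : G) (hxy : x * y = y * x) :
    Nat.card {p : CP G // (QuotientGroup.mk p.1.1 : G ⧸ N) = QuotientGroup.mk x ∧
      (QuotientGroup.mk p.1.2 : G ⧸ N) = QuotientGroup.mk y} ≤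
      Nat.card N * Nat.card {lam : N →* ℂˣ // x ∈ St N lam ∧ y ∈ St N lam} := by
  have hfin := finite_dual N hab
  refine (card_fibre_le N hab x y hxy).trans ?_
  have h2 : Nat.card (phi N hab x y).ker * Nat.card (phi N hab x y).range = Nat.card N ^ 2 := by
    rw [← Subgroup.index_ker, Subgroup.card_mul_index, Nat.card_prod, sq]
  have h3 : (phi N hab x y).range.index * Nat.card (phi N hab x y).range = Nat.card N :=
    Subgroup.index_mul_card _
  have h4 : Nat.card (phi N hab x y).ker = Nat.card N * (phi N hab x y).range.index := by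
    have hpos : 0 < Nat.card (phi N hab x y).range := Nat.card_pos
    apply Nat.eq_of_mul_eq_mul_right hpos
    rw [h2, mul_assoc, h3, sq]
  rw [h4, ← card_annihilator N hab]
  apply Nat.mul_le_mul_left
  refine Nat.card_le_card_of_injective (fun lam => ⟨lam.1, ?_, ?_⟩) ?_
  · intro v
    -- `lam (x v x⁻¹) = lam v`
    have h5 : lam.1 (phi N hab x y (1, MulAut.conjNormal x v)) = 1 := lam.2 _ ⟨_, rfl⟩
    have h6 : phi N hab x y (1, MulAut.conjNormal x v) = MulAut.conjNormal x v * v⁻¹ := by
      apply Subtype.ext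
      change (y⁻¹ * ((1 : N) : G) * y * ((1 : N) : G)⁻¹) *
        (x⁻¹ * ((MulAut.conjNormal x v : N) : G) * x * ((MulAut.conjNormal x v : N) : G)⁻¹)⁻¹ =
        ((MulAut.conjNormal x v : N) : G) * (v : G)⁻¹
      rw [MulAut.conjNormal_apply, Subgroup.coe_one]
      group
    rw [h6, map_mul, map_inv, mul_inv_eq_one] at h5
    exact h5
  · intro v
    have h5 : lam.1 (phi N hab x y (MulAut.conjNormal y v, 1)) = 1 := lam.2 _ ⟨_, rfl⟩
    have h6 : phi N hab x y (MulAut.conjNormal y v, 1) = v * (MulAut.conjNormal y v)⁻¹ := by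
      apply Subtype.ext
      change (y⁻¹ * ((MulAut.conjNormal y v : N) : G) * y * ((MulAut.conjNormal y v : N) : G)⁻¹) *
        (x⁻¹ * ((1 : N) : G) * x * ((1 : N) : G)⁻¹)⁻¹ =
        (v : G) * ((MulAut.conjNormal y v : N) : G)⁻¹
      rw [MulAut.conjNormal_apply, Subgroup.coe_one]
      group
    rw [h6, map_mul, map_inv, mul_inv_eq_one] at h5
    exact h5.symm
  · intro a b h
    exact Subtype.ext
      (congrArg (fun z : {lam : N →* ℂˣ // x ∈ St N lam ∧ y ∈ St N lam} => z.1) h)

/-- **The dual bound.** -/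
theorem dual_bound [Finite G] (hab : ∀ a ∈ N, ∀ b ∈ N, a * b = b * a) [Fintype (N →* ℂˣ)] :
    Nat.card (ConjClasses G) * Nat.card (G ⧸ N) ≤
      ∑ lam : N →* ℂˣ, Nat.card (ConjClasses (Qs N lam)) * Nat.card (Qs N lam) := by
  classical
  have := Fintype.ofFinite G
  have := Fintype.ofFinite (G ⧸ N)
  have := Fintype.ofFinite (CP (G ⧸ N))
  have hfib : ∀ a b : G ⧸ N, Nat.card {p : CP G // (QuotientGroup.mk p.1.1 : G ⧸ N) = a ∧
      (QuotientGroup.mk p.1.2 : G ⧸ N) = b} ≤
      Nat.card N * Nat.card {lam : N →* ℂˣ // a ∈ Qs N lam ∧ b ∈ Qs N lam} := by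
    intro a b
    rcases isEmpty_or_nonempty {p : CP G // (QuotientGroup.mk p.1.1 : G ⧸ N) = a ∧
      (QuotientGroup.mk p.1.2 : G ⧸ N) = b} with he | ⟨⟨⟨⟨x, y⟩, hxy⟩, hx, hy⟩⟩
    · rw [Nat.card_of_isEmpty]; exact Nat.zero_le _
    · have hx' : (QuotientGroup.mk x : G ⧸ N) = a := hx
      have hy' : (QuotientGroup.mk y : G ⧸ N) = b := hy
      subst hx'
      subst hy'
      refine (fibre_le N hab x y hxy).trans (le_of_eq ?_)
      congr 1
      apply Nat.card_congr
      refine Equiv.subtypeEquivRight fun lam => ?_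
      rw [mk_mem_Qs hab, mk_mem_Qs hab]
  let f : CP G → CP (G ⧸ N) := fun p => ⟨(QuotientGroup.mk p.1.1, QuotientGroup.mk p.1.2), by
    have := p.2
    change (QuotientGroup.mk p.1.1 : G ⧸ N) * QuotientGroup.mk p.1.2 =
      QuotientGroup.mk p.1.2 * QuotientGroup.mk p.1.1
    rw [← QuotientGroup.mk_mul, ← QuotientGroup.mk_mul, this.eq]⟩
  have h1 : Nat.card (CP G) = ∑ c : CP (G ⧸ N), Nat.card {p : CP G // f p = c} := by
    rw [← Nat.card_sigma]
    exact Nat.card_congr (Equiv.sigmaFiberEquiv f).symm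
  have h2 : ∀ c : CP (G ⧸ N), Nat.card {p : CP G // f p = c} ≤
      Nat.card N * Nat.card {lam : N →* ℂˣ // c.1.1 ∈ Qs N lam ∧ c.1.2 ∈ Qs N lam} := by
    intro c
    have h3 : Nat.card {p : CP G // f p = c} = Nat.card {p : CP G //
        (QuotientGroup.mk p.1.1 : G ⧸ N) = c.1.1 ∧ (QuotientGroup.mk p.1.2 : G ⧸ N) = c.1.2} := by
      apply Nat.card_congr
      refine Equiv.subtypeEquivRight fun p => ?_
      rw [Subtype.ext_iff, Prod.ext_iff]
    rw [h3]
    exact hfib c.1.1 c.1.2
  -- exchange the order of summation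
  have h3 : ∑ c : CP (G ⧸ N), Nat.card {lam : N →* ℂˣ // c.1.1 ∈ Qs N lam ∧ c.1.2 ∈ Qs N lam} =
      ∑ lam : N →* ℂˣ, Nat.card (CP (Qs N lam)) := by
    rw [← Nat.card_sigma, ← Nat.card_sigma]
    apply Nat.card_congr
    exact
      { toFun := fun z => ⟨z.2.1, ⟨(⟨z.1.1.1, z.2.2.1⟩, ⟨z.1.1.2, z.2.2.2⟩), Subtype.ext z.1.2⟩⟩
        invFun := fun z => ⟨⟨(z.2.1.1.1, z.2.1.2.1), congrArg Subtype.val z.2.2⟩,
          ⟨z.1, z.2.1.1.2, z.2.1.2.2⟩⟩
        left_inv := fun z => rfl
        right_inv := fun z => rfl }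
  have h4 : Nat.card (CP G) ≤ Nat.card N * ∑ lam : N →* ℂˣ, Nat.card (CP (Qs N lam)) := by
    rw [h1, ← h3, Finset.mul_sum]
    exact Finset.sum_le_sum fun c _ => h2 c
  have h5 : ∀ (X : Type _) [Group X] [Finite X], Nat.card (CP X) = Nat.card (ConjClasses X) * Nat.card X :=
    fun X _ _ => card_comm_eq_card_conjClasses_mul_card X
  rw [h5 G, Subgroup.card_eq_card_quotient_mul_card_subgroup N] at h4
  have hpos : 0 < Nat.card N := Nat.card_pos
  refine Nat.le_of_mul_le_mul_right ?_ hpos
  calc Nat.card (ConjClasses G) * Nat.card (G ⧸ N) * Nat.card N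
      = Nat.card (ConjClasses G) * (Nat.card (G ⧸ N) * Nat.card N) := by ring
    _ ≤ _ := h4
    _ = _ := by
      rw [mul_comm]
      congr 1
      refine Finset.sum_congr rfl fun lam _ => ?_
      exact card_comm_eq_card_conjClasses_mul_card _

end Cfsg.Agent.H540.Dual
end

-- part: H540/Swap
section
/-!
# Class numbers: subgroups of index two

* `index_two` : `2 |K| k(G) = |K| k(K) + 3 ∑_{x ∉ K} |C_K(x)|` for `|G : K| = 2`.
* `swap_bound` : if moreover `N₁, N₂ ⊴ K` meet trivially and are swapped by the elements outside `K`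
  then `2 k(G) ≤ k(K) + 3 |K : N₁ N₂| k(N₂)`.
-/

set_option autoImplicit false

namespace Cfsg.Agent.H540.Swap

open Cfsg.Agent.H540.ClassNum

variable {G : Type*} [Group G]

theorem cent_top_of_not_mem [Finite G] (K : Subgroup G) (hK : K.index = 2) {x : G} (hx : x ∉ K) :
    cent x (⊤ : Subgroup G) = 2 * cent x K := by
  rw [cent_top_eq x K, mul_comm]
  congr 1
  have h1 : K.relIndex (Subgroup.centralizer {x}) ∣ 2 := by
    have : K.Normal := Subgroup.normal_of_index_eq_two hK
    rw [← hK]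
    exact Subgroup.relIndex_dvd_index_of_normal K _
  rcases (Nat.dvd_prime Nat.prime_two).1 h1 with h | h
  · exfalso
    rw [Subgroup.relIndex_eq_one] at h
    exact hx (h (Subgroup.mem_centralizer_singleton_iff.2 rfl))
  · exact h

theorem index_two [Finite G] (K : Subgroup G) (hK : K.index = 2) [Fintype {x : G // x ∉ K}] :
    2 * (Nat.card K * Nat.card (ConjClasses G)) =
      Nat.card K * Nat.card (ConjClasses K) + 3 * ∑ x : {x : G // x ∉ K}, cent (x : G) K := by
  classical
  have := Fintype.ofFinite G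
  have := Fintype.ofFinite K
  have h1 : Nat.card (ConjClasses G) * Nat.card G =
      ∑ x : K, cent (x : G) (⊤ : Subgroup G) + ∑ x : {x : G // x ∉ K}, cent (x : G) (⊤ : Subgroup G) := by
    rw [card_conjClasses_mul_card]
    have e := Fintype.sum_subtype_add_sum_subtype (fun x : G => x ∈ K) (fun x : G => cent x (⊤ : Subgroup G))
    rw [← e]
    congr!
  have h2 : ∑ x : {x : G // x ∉ K}, cent (x : G) (⊤ : Subgroup G) =
      2 * ∑ x : {x : G // x ∉ K}, cent (x : G) K := by
    rw [Finset.mul_sum]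
    exact Finset.sum_congr rfl fun x _ => cent_top_of_not_mem K hK x.2
  have h3 : ∀ x : G, cent x (⊤ : Subgroup G) = cent x K + Nat.card {y : G // y ∉ K ∧ Commute x y} := by
    intro x
    unfold cent
    rw [← Nat.card_sum]
    apply Nat.card_congr
    exact
      { toFun := fun y => if h : (y : G) ∈ K then Sum.inl ⟨y.1, h, y.2.2⟩ else Sum.inr ⟨y.1, h, y.2.2⟩
        invFun := fun s => match s with
          | Sum.inl y => ⟨y.1, Subgroup.mem_top _, y.2.2⟩
          | Sum.inr y => ⟨y.1, Subgroup.mem_top _, y.2.2⟩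
        left_inv := fun y => by
          by_cases h : (y : G) ∈ K
          · simp [h]
          · simp [h]
        right_inv := fun s => by
          rcases s with y | y
          · simp [y.2.1]
          · simp [y.2.1] }
  have h4 : ∑ x : K, Nat.card {y : G // y ∉ K ∧ Commute (x : G) y} =
      ∑ x : {x : G // x ∉ K}, cent (x : G) K := by
    have h5 : Nat.card (Σ x : K, {y : G // y ∉ K ∧ Commute (x : G) y}) =
        Nat.card (Σ x : {x : G // x ∉ K}, {y : G // y ∈ K ∧ Commute (x : G) y}) := by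
      apply Nat.card_congr
      exact
        { toFun := fun p => ⟨⟨p.2.1, p.2.2.1⟩, ⟨p.1.1, p.1.2, p.2.2.2.symm⟩⟩
          invFun := fun p => ⟨⟨p.2.1, p.2.2.1⟩, ⟨p.1.1, p.1.2, p.2.2.2.symm⟩⟩
          left_inv := fun p => rfl
          right_inv := fun p => rfl }
    rw [Nat.card_sigma, Nat.card_sigma] at h5
    exact h5
  have h6 : ∑ x : K, cent (x : G) (⊤ : Subgroup G) =
      Nat.card (ConjClasses K) * Nat.card K + ∑ x : {x : G // x ∉ K}, cent (x : G) K := by
    rw [card_conjClasses_subgroup_mul_card, ← h4, ← Finset.sum_add_distrib]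
    exact Finset.sum_congr rfl fun x _ => h3 x
  have h7 : Nat.card G = 2 * Nat.card K := by rw [← Subgroup.index_mul_card K, hK]
  rw [h2, h6, h7] at h1
  calc 2 * (Nat.card K * Nat.card (ConjClasses G)) = Nat.card (ConjClasses G) * (2 * Nat.card K) := by ring
    _ = _ := h1
    _ = _ := by ring

section SwapSec

variable [Finite G] (K N₁ N₂ : Subgroup G)

/-- `|C_L(x)| ≤ |C_{N₂}(x²)|` for `L = N₁ N₂`. -/
theorem cent_sup_le (hcomm : ∀ a ∈ N₁, ∀ b ∈ N₂, a * b = b * a) (hdisj : N₁ ⊓ N₂ = ⊥)
    {x : G} (h12 : ∀ a ∈ N₁, x⁻¹ * a * x ∈ N₂) (h21 : ∀ a ∈ N₂, x⁻¹ * a * x ∈ N₁) :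
    cent x (N₁ ⊔ N₂) ≤ cent (x * x) N₂ := by
  classical
  have hdec : ∀ c ∈ N₁ ⊔ N₂, ∃ a ∈ N₁, ∃ b ∈ N₂, c = a * b := by
    intro c hc
    have hmem : c ∈ Subgroup.closure ((N₁ : Set G) ∪ N₂) := by
      rwa [← Subgroup.sup_eq_closure]
    refine Subgroup.closure_induction (p := fun c _ => ∃ a ∈ N₁, ∃ b ∈ N₂, c = a * b) ?_ ?_ ?_ ?_ hmem
    · rintro y (hy | hy)
      · exact ⟨y, hy, 1, N₂.one_mem, (mul_one y).symm⟩
      · exact ⟨1, N₁.one_mem, y, hy, (one_mul y).symm⟩
    · exact ⟨1, N₁.one_mem, 1, N₂.one_mem, (mul_one _).symm⟩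
    · rintro y z _ _ ⟨a, ha, b, hb, rfl⟩ ⟨a', ha', b', hb', rfl⟩
      refine ⟨a * a', N₁.mul_mem ha ha', b * b', N₂.mul_mem hb hb', ?_⟩
      calc a * b * (a' * b') = a * (b * a') * b' := by group
        _ = a * (a' * b) * b' := by rw [hcomm a' ha' b hb]
        _ = _ := by group
    · rintro y _ ⟨a, ha, b, hb, rfl⟩
      refine ⟨a⁻¹, N₁.inv_mem ha, b⁻¹, N₂.inv_mem hb, ?_⟩
      rw [mul_inv_rev, hcomm _ (N₁.inv_mem ha) _ (N₂.inv_mem hb)]
  have huniq : ∀ a ∈ N₁, ∀ b ∈ N₂, ∀ a' ∈ N₁, ∀ b' ∈ N₂, a * b = a' * b' → a = a' ∧ b = b' := by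
    intro a ha b hb a' ha' b' hb' h
    have h1 : a'⁻¹ * a = b' * b⁻¹ := by
      calc a'⁻¹ * a = a'⁻¹ * (a * b) * b⁻¹ := by group
        _ = a'⁻¹ * (a' * b') * b⁻¹ := by rw [h]
        _ = _ := by group
    have h2 : a'⁻¹ * a ∈ N₁ ⊓ N₂ := ⟨N₁.mul_mem (N₁.inv_mem ha') ha, h1 ▸ N₂.mul_mem hb' (N₂.inv_mem hb)⟩
    rw [hdisj, Subgroup.mem_bot] at h2
    have h3 : a = a' := (inv_mul_eq_one.1 h2).symm
    refine ⟨h3, ?_⟩
    rw [h3] at h
    exact mul_left_cancel h
  -- the key relation
  have key : ∀ a ∈ N₁, ∀ b ∈ N₂, Commute x (a * b) → x⁻¹ * a * x = b ∧ x⁻¹ * b * x = a := by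
    intro a ha b hb hc
    have h1 : x⁻¹ * (a * b) * x = a * b := by
      have := hc.eq
      calc x⁻¹ * (a * b) * x = x⁻¹ * ((a * b) * x) := by group
        _ = x⁻¹ * (x * (a * b)) := by rw [this]
        _ = _ := by group
    have h2 : (x⁻¹ * b * x) * (x⁻¹ * a * x) = a * b := by
      rw [← h1, hcomm a ha b hb]; group
    obtain ⟨e1, e2⟩ := huniq _ (h21 b hb) _ (h12 a ha) a ha b hb h2
    exact ⟨e2, e1⟩
  unfold cent
  choose! f hf g hg hfg using hdec
  refine Nat.card_le_card_of_injective (fun c => ⟨g c.1, hg c.1 c.2.1, ?_⟩) ?_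
  · have h1 := key _ (hf c.1 c.2.1) _ (hg c.1 c.2.1) (by rw [← hfg c.1 c.2.1]; exact c.2.2)
    have h2 : (x * x)⁻¹ * g c.1 * (x * x) = g c.1 := by
      calc (x * x)⁻¹ * g c.1 * (x * x) = x⁻¹ * (x⁻¹ * g c.1 * x) * x := by group
        _ = x⁻¹ * f c.1 * x := by rw [h1.2]
        _ = g c.1 := h1.1
    change x * x * g c.1 = g c.1 * (x * x)
    calc x * x * g c.1 = x * x * ((x * x)⁻¹ * g c.1 * (x * x)) := by rw [h2]
      _ = _ := by group
  · intro c c' h
    have h0 : g c.1 = g c'.1 := congrArg Subtype.val h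
    have h1 := key _ (hf c.1 c.2.1) _ (hg c.1 c.2.1) (by rw [← hfg c.1 c.2.1]; exact c.2.2)
    have h1' := key _ (hf c'.1 c'.2.1) _ (hg c'.1 c'.2.1) (by rw [← hfg c'.1 c'.2.1]; exact c'.2.2)
    apply Subtype.ext
    rw [hfg c.1 c.2.1, hfg c'.1 c'.2.1, ← h1.2, ← h1'.2, h0]

theorem card_compl (hK : K.index = 2) : Nat.card {x : G // x ∉ K} = Nat.card K := by
  have h1 : Nat.card G = Nat.card K + Nat.card {x : G // x ∉ K} := by
    classical
    rw [← Nat.card_congr (Equiv.sumCompl (fun x : G => x ∈ K)), Nat.card_sum]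
  have h2 : Nat.card G = 2 * Nat.card K := by rw [← Subgroup.index_mul_card K, hK]
  omega

/-- for `n₂ ∈ N₂`: `|N₁| #{x ∉ K : x² ∈ C(n₂)} ≤ |K| |C_{N₂}(n₂)|`. -/
theorem card_sq_le (hK : K.index = 2) (h1K : N₁ ≤ K)
    (hcomm : ∀ a ∈ N₁, ∀ b ∈ N₂, a * b = b * a)
    (h12 : ∀ x ∉ K, ∀ a ∈ N₁, x⁻¹ * a * x ∈ N₂) {n : G} (hn : n ∈ N₂) :
    Nat.card N₁ * Nat.card {x : G // x ∉ K ∧ Commute (x * x) n} ≤ Nat.card K * cent n N₂ := by
  classical
  have := Fintype.ofFinite {x : G // x ∉ K}
  have h1 : Nat.card N₁ * Nat.card {x : G // x ∉ K ∧ Commute (x * x) n} ≤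
      Nat.card (Σ x : {x : G // x ∉ K}, {m : N₁ // Commute ((x.1 * m) * (x.1 * m)) n}) := by
    rw [← Nat.card_prod]
    refine Nat.card_le_card_of_injective (fun p => ⟨⟨p.2.1 * (p.1 : G)⁻¹, fun h => p.2.2.1 (by
            have := K.mul_mem h (h1K p.1.2)
            rwa [inv_mul_cancel_right] at this)⟩, ⟨p.1, by
            have := p.2.2.2
            rwa [inv_mul_cancel_right]⟩⟩) ?_
    intro p p' h
    have e1 : p.2.1 * (p.1 : G)⁻¹ = p'.2.1 * (p'.1 : G)⁻¹ := congrArg (fun s : (Σ x : {x : G // x ∉ K}, {m : N₁ // Commute ((x.1 * m) * (x.1 * m)) n}) => s.1.1) h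
    have e2 : p.1 = p'.1 := congrArg (fun s : (Σ x : {x : G // x ∉ K}, {m : N₁ // Commute ((x.1 * m) * (x.1 * m)) n}) => s.2.1) h
    rw [e2] at e1
    exact Prod.ext e2 (Subtype.ext (mul_right_cancel e1))
  refine h1.trans ?_
  rw [Nat.card_sigma]
  have h2 : ∀ x : {x : G // x ∉ K}, Nat.card {m : N₁ // Commute ((x.1 * m) * (x.1 * m)) n} ≤ cent n N₂ := by
    intro x
    rcases isEmpty_or_nonempty {m : N₁ // Commute ((x.1 * m) * (x.1 * m)) n} with he | ⟨⟨m₀, hm₀⟩⟩
    · rw [Nat.card_of_isEmpty]; exact Nat.zero_le _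
    · -- `(x m)² = x² m^x m`
      have e : ∀ m : N₁, (x.1 * m) * (x.1 * m) = (x.1 * x.1) * (x.1⁻¹ * m * x.1) * m := fun m => by group
      have hc : ∀ m : N₁, Commute ((x.1 * m) * (x.1 * m)) n → Commute ((x.1 * x.1) * (x.1⁻¹ * m * x.1)) n := by
        intro m hm
        rw [e] at hm
        have h3 : Commute (m : G) n := hcomm m m.2 n hn
        have h4 := hm.mul_left h3.inv_left
        rwa [mul_inv_cancel_right] at h4
      unfold cent
      refine Nat.card_le_card_of_injective
        (fun m => ⟨(x.1⁻¹ * (m₀ : G) * x.1)⁻¹ * (x.1⁻¹ * (m.1 : G) * x.1), ?_, ?_⟩) ?_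
      · exact N₂.mul_mem (N₂.inv_mem (h12 x.1 x.2 m₀ m₀.2)) (h12 x.1 x.2 m.1 m.1.2)
      · have h5 := ((hc m₀ hm₀).inv_left.mul_left (hc m.1 m.2)).symm
        have h6 : ((x.1 * x.1) * (x.1⁻¹ * (m₀ : G) * x.1))⁻¹ * ((x.1 * x.1) * (x.1⁻¹ * (m.1 : G) * x.1)) =
          (x.1⁻¹ * (m₀ : G) * x.1)⁻¹ * (x.1⁻¹ * (m.1 : G) * x.1) := by group
        rwa [h6] at h5
      · intro m m' h
        have h7 := congrArg Subtype.val h
        have h8 := mul_left_cancel h7
        have h9 := mul_left_cancel (mul_right_cancel h8)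
        exact Subtype.ext (Subtype.ext h9)
  calc ∑ x : {x : G // x ∉ K}, Nat.card {m : N₁ // Commute ((x.1 * m) * (x.1 * m)) n}
      ≤ ∑ _x : {x : G // x ∉ K}, cent n N₂ := Finset.sum_le_sum fun x _ => h2 x
    _ = Nat.card K * cent n N₂ := by
      rw [Finset.sum_const, Finset.card_univ, ← Nat.card_eq_fintype_card, card_compl K hK, smul_eq_mul]

/-- **The swap bound**: `2 k(G) ≤ k(K) + 3 |K : N₁ N₂| k(N₂)`. -/
theorem swap_bound (hK : K.index = 2) (h1K : N₁ ≤ K) (h2K : N₂ ≤ K)
    (hn1 : ∀ x ∈ K, ∀ a ∈ N₁, x * a * x⁻¹ ∈ N₁) (hn2 : ∀ x ∈ K, ∀ a ∈ N₂, x * a * x⁻¹ ∈ N₂)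
    (hdisj : N₁ ⊓ N₂ = ⊥) (h12 : ∀ x ∉ K, ∀ a ∈ N₁, x⁻¹ * a * x ∈ N₂)
    (h21 : ∀ x ∉ K, ∀ a ∈ N₂, x⁻¹ * a * x ∈ N₁) :
    2 * Nat.card (ConjClasses G) ≤
      Nat.card (ConjClasses K) + 3 * ((N₁ ⊔ N₂).relIndex K * Nat.card (ConjClasses N₂)) := by
  classical
  have := Fintype.ofFinite G
  have := Fintype.ofFinite N₂
  have := Fintype.ofFinite {x : G // x ∉ K}
  have hcomm : ∀ a ∈ N₁, ∀ b ∈ N₂, a * b = b * a := by
    intro a ha b hb
    have h1 : a * b * a⁻¹ * b⁻¹ ∈ N₁ ⊓ N₂ := by
      refine ⟨?_, ?_⟩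
      · have h2 := hn1 b (h2K hb) a⁻¹ (N₁.inv_mem ha)
        have : a * b * a⁻¹ * b⁻¹ = a * (b * a⁻¹ * b⁻¹) := by group
        rw [this]
        exact N₁.mul_mem ha h2
      · exact N₂.mul_mem (hn2 a (h1K ha) b hb) (N₂.inv_mem hb)
    rw [hdisj, Subgroup.mem_bot] at h1
    calc a * b = (a * b * a⁻¹ * b⁻¹) * (b * a) := by group
      _ = b * a := by rw [h1, one_mul]
  set L := N₁ ⊔ N₂ with hL
  have hLK : L ≤ K := sup_le h1K h2K
  set r := L.relIndex K with hr
  have hr0 : r ≠ 0 := Subgroup.index_ne_zero_of_finite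
  -- `|C_K(x)| ≤ r |C_L(x)|`
  have hCK : ∀ x : G, cent x K ≤ r * cent x L := by
    intro x
    rw [cent_eq_card, cent_eq_card]
    have h1 : Nat.card (K ⊓ Subgroup.centralizer {x} : Subgroup G) =
        Nat.card (L ⊓ Subgroup.centralizer {x} : Subgroup G) *
          L.relIndex (K ⊓ Subgroup.centralizer {x}) := by
      have h2 : L ⊓ (K ⊓ Subgroup.centralizer {x}) = L ⊓ Subgroup.centralizer {x} := by
        rw [← inf_assoc, inf_eq_left.2 hLK]
      rw [← Subgroup.inf_relIndex_right L (K ⊓ Subgroup.centralizer {x}), h2,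
        ← Subgroup.relIndex_bot_left, ← Subgroup.relIndex_bot_left,
        Subgroup.relIndex_mul_relIndex _ _ _ bot_le]
      rw [← h2]; exact inf_le_right
    rw [h1, mul_comm]
    refine Nat.mul_le_mul_right _ ?_
    exact Subgroup.relIndex_le_of_le_right inf_le_left hr0
  -- the sum over the complement
  have hS : Nat.card N₁ * ∑ x : {x : G // x ∉ K}, cent (x : G) K ≤
      Nat.card N₁ * (Nat.card K * (r * Nat.card (ConjClasses N₂))) := by
    have hcardN : Nat.card N₁ = Nat.card N₂ := by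
      obtain ⟨x, hx⟩ : ∃ x, x ∉ K := by
        by_contra hcon
        push Not at hcon
        have : K = ⊤ := (Subgroup.eq_top_iff' K).2 hcon
        rw [this, Subgroup.index_top] at hK
        omega
      refine le_antisymm ?_ ?_
      · refine Nat.card_le_card_of_injective (fun a => ⟨x⁻¹ * a * x, h12 x hx a a.2⟩) ?_
        intro a b h
        exact Subtype.ext (mul_left_cancel (mul_right_cancel (congrArg Subtype.val h)))
      · refine Nat.card_le_card_of_injective (fun a => ⟨x⁻¹ * a * x, h21 x hx a a.2⟩) ?_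
        intro a b h
        exact Subtype.ext (mul_left_cancel (mul_right_cancel (congrArg Subtype.val h)))
    calc Nat.card N₁ * ∑ x : {x : G // x ∉ K}, cent (x : G) K
        ≤ Nat.card N₁ * ∑ x : {x : G // x ∉ K}, r * cent (x.1 * x.1) N₂ := by
          refine Nat.mul_le_mul_left _ (Finset.sum_le_sum fun x _ => (hCK x.1).trans ?_)
          exact Nat.mul_le_mul_left _ (cent_sup_le N₁ N₂ hcomm hdisj (h12 x.1 x.2) (h21 x.1 x.2))
      _ = r * ∑ n : N₂, Nat.card N₁ * Nat.card {x : G // x ∉ K ∧ Commute (x * x) (n : G)} := by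
          rw [← Finset.mul_sum, ← Finset.mul_sum, ← mul_assoc, mul_comm (Nat.card N₁) r, mul_assoc]
          congr 2
          have h5 : Nat.card (Σ x : {x : G // x ∉ K}, {y : G // y ∈ N₂ ∧ Commute (x.1 * x.1) y}) =
              Nat.card (Σ n : N₂, {x : G // x ∉ K ∧ Commute (x * x) (n : G)}) := by
            apply Nat.card_congr
            exact
              { toFun := fun p => ⟨⟨p.2.1, p.2.2.1⟩, ⟨p.1.1, p.1.2, p.2.2.2⟩⟩
                invFun := fun p => ⟨⟨p.2.1, p.2.2.1⟩, ⟨p.1.1, p.1.2, p.2.2.2⟩⟩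
                left_inv := fun p => rfl
                right_inv := fun p => rfl }
          rw [Nat.card_sigma, Nat.card_sigma] at h5
          exact h5
      _ ≤ r * ∑ n : N₂, Nat.card K * cent (n : G) N₂ := by
          refine Nat.mul_le_mul_left _ (Finset.sum_le_sum fun n _ => ?_)
          exact card_sq_le K N₁ N₂ hK h1K hcomm h12 n.2
      _ = Nat.card N₁ * (Nat.card K * (r * Nat.card (ConjClasses N₂))) := by
          rw [← Finset.mul_sum, ← card_conjClasses_subgroup_mul_card, hcardN]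
          ring
  have hS' := Nat.le_of_mul_le_mul_left hS Nat.card_pos
  have hpos : 0 < Nat.card K := Nat.card_pos
  refine Nat.le_of_mul_le_mul_left ?_ hpos
  have h0 := index_two K hK
  calc Nat.card K * (2 * Nat.card (ConjClasses G)) = 2 * (Nat.card K * Nat.card (ConjClasses G)) := by ring
    _ = _ := h0
    _ ≤ Nat.card K * Nat.card (ConjClasses K) + 3 * (Nat.card K * (r * Nat.card (ConjClasses N₂))) := by
        refine Nat.add_le_add_left (Nat.mul_le_mul_left _ hS') _
    _ = _ := by ring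

end SwapSec

end Cfsg.Agent.H540.Swap
end

-- part: H540/Blocks
section
/-!
# Block systems as invariant equivalence relations

Sizes of classes, composition of block systems, extension of a relation from one block of a system
of blocks, and the class number bound for groups with blocks of size two.
-/

set_option autoImplicit false

namespace Cfsg.Agent.H540.Blocks

open MulAction Cfsg.Agent.H539.BlockRed Cfsg.Agent.H540.ClassNum

section Basic

variable {G : Type*} [Group G] {α : Type*} [MulAction G α]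

/-- invariance of an equivalence relation -/
def Inv (G : Type*) [Group G] {α : Type*} [MulAction G α] (r : Setoid α) : Prop :=
  ∀ (g : G) (x y : α), r x y → r (g • x) (g • y)

/-- the class of `q` -/
abbrev Cls {α : Type*} (r : Setoid α) (q : Quotient r) : Type _ := {x : α // Quotient.mk r x = q}

theorem card_cls_eq [IsPretransitive G α] {r : Setoid α} (hr : Inv G r) (q q' : Quotient r) :
    Nat.card (Cls r q) = Nat.card (Cls r q') := by
  obtain ⟨x, rfl⟩ := Quotient.exists_rep q
  obtain ⟨y, rfl⟩ := Quotient.exists_rep q'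
  obtain ⟨g, hg⟩ := exists_smul_eq G x y
  apply Nat.card_congr
  exact
    { toFun := fun z => ⟨g • z.1, by
        rw [← hg]
        exact Quotient.sound (hr g _ _ (Quotient.exact z.2))⟩
      invFun := fun z => ⟨g⁻¹ • z.1, by
        have h1 : r (g⁻¹ • z.1) (g⁻¹ • y) := hr g⁻¹ _ _ (Quotient.exact z.2)
        have h2 : g⁻¹ • y = x := by rw [← hg, inv_smul_smul]
        rw [h2] at h1
        exact Quotient.sound h1⟩
      left_inv := fun z => Subtype.ext (inv_smul_smul g z.1)
      right_inv := fun z => Subtype.ext (smul_inv_smul g z.1) }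

theorem card_eq_mul [Finite α] [IsPretransitive G α] {r : Setoid α} (hr : Inv G r) (q : Quotient r) :
    Nat.card α = Nat.card (Quotient r) * Nat.card (Cls r q) := by
  classical
  have := Fintype.ofFinite (Quotient r)
  have h1 : Nat.card α = ∑ q' : Quotient r, Nat.card (Cls r q') := by
    rw [← Nat.card_sigma]
    exact Nat.card_congr (Equiv.sigmaFiberEquiv (Quotient.mk r)).symm
  rw [h1, Finset.sum_congr rfl (fun q' _ => card_cls_eq hr q' q), Finset.sum_const,
    Finset.card_univ, ← Nat.card_eq_fintype_card, smul_eq_mul]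

theorem two_le_cls [Finite α] [IsPretransitive G α] {r : Setoid α} (hr : Inv G r) (h : r ≠ ⊥)
    (q : Quotient r) : 2 ≤ Nat.card (Cls r q) := by
  by_contra hlt
  apply h
  rw [eq_bot_iff]
  intro x y hxy
  have h1 : Nat.card (Cls r (Quotient.mk r y)) ≤ 1 := by
    rw [card_cls_eq hr _ q]; omega
  have h2 : Subsingleton (Cls r (Quotient.mk r y)) := (Finite.card_le_one_iff_subsingleton).1 h1
  have h3 := h2.elim (⟨x, Quotient.sound hxy⟩ : Cls r (Quotient.mk r y)) ⟨y, rfl⟩
  exact congrArg Subtype.val h3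

theorem two_le_quot [Finite α] [Nonempty α] {r : Setoid α} (h : r ≠ ⊤) :
    2 ≤ Nat.card (Quotient r) := by
  by_contra hlt
  apply h
  rw [eq_top_iff]
  intro x y _
  have h1 : Nat.card (Quotient r) ≤ 1 := by omega
  have h2 : Subsingleton (Quotient r) := (Finite.card_le_one_iff_subsingleton).1 h1
  exact Quotient.exact (h2.elim (Quotient.mk r x) (Quotient.mk r y))

/-- the action on the classes is transitive -/
theorem quot_pretransitive [IsPretransitive G α] (r : Setoid α) (hr : Inv G r) :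
    IsPretransitive (quotHom r hr).range (Quotient r) := by
  refine ⟨fun q q' => ?_⟩
  obtain ⟨x, rfl⟩ := Quotient.exists_rep q
  obtain ⟨y, rfl⟩ := Quotient.exists_rep q'
  obtain ⟨g, hg⟩ := exists_smul_eq G x y
  refine ⟨⟨quotHom r hr g, g, rfl⟩, ?_⟩
  change quotHom r hr g (Quotient.mk r x) = Quotient.mk r y
  exact congrArg (Quotient.mk r) hg

/-- pull back of an invariant relation on the classes -/
theorem inv_comap {r : Setoid α} (hr : Inv G r) {r' : Setoid (Quotient r)}
    (hr' : Inv (quotHom r hr).range r') : Inv G (Setoid.comap (Quotient.mk r) r') := by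
  intro g x y hxy
  have h1 := hr' ⟨quotHom r hr g, g, rfl⟩ _ _ hxy
  exact h1

theorem card_quot_comap {r : Setoid α} {r' : Setoid (Quotient r)} :
    Nat.card (Quotient (Setoid.comap (Quotient.mk r) r')) = Nat.card (Quotient r') := by
  refine Nat.card_congr (Equiv.ofBijective
    (Quotient.map' (s₁ := Setoid.comap (Quotient.mk r) r') (s₂ := r') (Quotient.mk r) (fun a b h => h)) ⟨?_, ?_⟩)
  · intro a b
    refine Quotient.inductionOn₂ a b fun x y h => ?_
    have h1 : r' (Quotient.mk r x) (Quotient.mk r y) := Quotient.exact h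
    exact Quotient.sound h1
  · intro b
    refine Quotient.inductionOn b fun q => ?_
    refine Quotient.inductionOn q fun x => ?_
    exact ⟨Quotient.mk _ x, rfl⟩

/-- **Composition of block systems**: if the action on the classes of `r` is not primitive, there is
a coarser invariant relation with larger classes. -/
theorem exists_coarser [Finite α] [IsPretransitive G α] {r : Setoid α} (hr : Inv G r) (hbot : r ≠ ⊥)
    (h2 : 2 ≤ Nat.card (Quotient r))
    (hprim : ¬ IsPreprimitive (quotHom r hr).range (Quotient r)) (q₀ : Quotient r) :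
    ∃ r'' : Setoid α, Inv G r'' ∧ r'' ≠ ⊥ ∧ r'' ≠ ⊤ ∧
      (∀ q : Quotient r'', 2 * Nat.card (Cls r q₀) ≤ Nat.card (Cls r'' q)) := by
  have hpt := quot_pretransitive r hr
  rcases exists_setoid (G := (quotHom r hr).range) (α := Quotient r) hprim with h | ⟨r', hr', hb', ht'⟩
  · exfalso
    have hsub : Subsingleton (Quotient r) := by
      refine ⟨fun a b => ?_⟩
      obtain ⟨g, hg⟩ := exists_smul_eq (quotHom r hr).range a b
      rw [h g, one_smul] at hg
      exact hg
    have := (Finite.card_le_one_iff_subsingleton (α := Quotient r)).2 hsub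
    omega
  · have hr'' : Inv G (Setoid.comap (Quotient.mk r) r') := inv_comap hr hr'
    obtain ⟨x₀, hx₀⟩ := Quotient.exists_rep q₀
    refine ⟨Setoid.comap (Quotient.mk r) r', hr'', ?_, ?_, ?_⟩
    · intro hb
      apply hbot
      rw [eq_bot_iff]
      intro x y hxy
      have h1 : (Setoid.comap (Quotient.mk r) r') x y := by
        change r' (Quotient.mk r x) (Quotient.mk r y)
        rw [Quotient.sound hxy]
      rw [hb] at h1
      exact h1
    · intro ht
      apply ht'
      rw [eq_top_iff]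
      intro a b _
      obtain ⟨x, rfl⟩ := Quotient.exists_rep a
      obtain ⟨y, rfl⟩ := Quotient.exists_rep b
      have h1 : (Setoid.comap (Quotient.mk r) r') x y := by rw [ht]; trivial
      exact h1
    · intro q
      have e1 := card_eq_mul hr'' q
      have e2 := card_eq_mul hr q₀
      rw [card_quot_comap] at e1
      have e3 := card_eq_mul (G := (quotHom r hr).range) hr' (Quotient.mk r' q₀)
      have e4 := two_le_cls (G := (quotHom r hr).range) hr' hb' (Quotient.mk r' q₀)
      have hpos : 0 < Nat.card (Quotient r') := by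
        have : Nonempty (Quotient r') := ⟨Quotient.mk r' q₀⟩
        exact Nat.card_pos
      rw [e3] at e2
      rw [e2, mul_assoc] at e1
      have e5 := Nat.eq_of_mul_eq_mul_left hpos e1
      rw [← e5]
      exact Nat.mul_le_mul_right _ e4

end Basic

section Ext

variable {G : Type*} [Group G] {α : Type*} [MulAction G α]

/-- an element moving a point of a block into the block preserves the block. -/
theorem mem_of_inv {r : Setoid α} (hr : Inv G r) {q : Quotient r} {g : G} {x : α}
    (hx : Quotient.mk r x = q) (hgx : Quotient.mk r (g • x) = q) {y : α} (hy : Quotient.mk r y = q) :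
    Quotient.mk r (g • y) = q := by
  rw [← hgx]
  exact Quotient.sound (hr g _ _ (Quotient.exact (hy.trans hx.symm)))

/-- Let `r` be an invariant relation, `q` a class, and `r₁` a relation on `q` that is invariant
under every element preserving `q`. -/
def extRel (G : Type*) [Group G] {α : Type*} [MulAction G α] (r : Setoid α) (hr : Inv G r)
    (q : Quotient r) (r₁ : Setoid (Cls r q))
    (hr₁ : ∀ (g : G) (x y : Cls r q) (hx : Quotient.mk r (g • x.1) = q)
      (hy : Quotient.mk r (g • y.1) = q), r₁ x y → r₁ ⟨g • x.1, hx⟩ ⟨g • y.1, hy⟩)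
    [IsPretransitive G α] : Setoid α where
  r x y := ∃ (g : G) (hx : Quotient.mk r (g • x) = q) (hy : Quotient.mk r (g • y) = q),
    r₁ ⟨g • x, hx⟩ ⟨g • y, hy⟩
  iseqv := by
    refine ⟨fun x => ?_, ?_, ?_⟩
    · obtain ⟨x₀, hx₀⟩ := Quotient.exists_rep q
      obtain ⟨g, hg⟩ := exists_smul_eq G x x₀
      exact ⟨g, by rw [hg, hx₀], by rw [hg, hx₀], r₁.refl _⟩
    · rintro x y ⟨g, hx, hy, h⟩
      exact ⟨g, hy, hx, r₁.symm h⟩
    · rintro x y z ⟨g, hx, hy, h⟩ ⟨k, hy', hz, h'⟩
      have e : ∀ w : α, k • w = (k * g⁻¹) • g • w := fun w => by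
        rw [smul_smul, inv_mul_cancel_right]
      have h1 : Quotient.mk r ((k * g⁻¹) • g • x) = q := by
        refine mem_of_inv hr hy (g := k * g⁻¹) ?_ hx
        rw [← e]; exact hy'
      have h2 : Quotient.mk r ((k * g⁻¹) • g • y) = q := by rw [← e]; exact hy'
      have h3 := hr₁ (k * g⁻¹) ⟨g • x, hx⟩ ⟨g • y, hy⟩ h1 h2 h
      refine ⟨k, by rw [e]; exact h1, hz, ?_⟩
      refine r₁.trans ?_ h'
      have e1 : (⟨(k * g⁻¹) • g • x, h1⟩ : Cls r q) = ⟨k • x, by rw [e]; exact h1⟩ :=
        Subtype.ext (e x).symm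
      have e2 : (⟨(k * g⁻¹) • g • y, h2⟩ : Cls r q) = ⟨k • y, hy'⟩ := Subtype.ext (e y).symm
      rw [← e1, ← e2]
      exact h3

variable [IsPretransitive G α]

theorem inv_extRel (r : Setoid α) (hr : Inv G r)
    (q : Quotient r) (r₁ : Setoid (Cls r q))
    (hr₁ : ∀ (g : G) (x y : Cls r q) (hx : Quotient.mk r (g • x.1) = q)
      (hy : Quotient.mk r (g • y.1) = q), r₁ x y → r₁ ⟨g • x.1, hx⟩ ⟨g • y.1, hy⟩) :
    Inv G (extRel G r hr q r₁ hr₁) := by
  rintro g x y ⟨k, hx, hy, h⟩
  have e : ∀ w : α, (k * g⁻¹) • g • w = k • w := fun w => by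
    rw [smul_smul, inv_mul_cancel_right]
  refine ⟨k * g⁻¹, by rw [e]; exact hx, by rw [e]; exact hy, ?_⟩
  have e1 : (⟨(k * g⁻¹) • g • x, by rw [e]; exact hx⟩ : Cls r q) = ⟨k • x, hx⟩ := Subtype.ext (e x)
  have e2 : (⟨(k * g⁻¹) • g • y, by rw [e]; exact hy⟩ : Cls r q) = ⟨k • y, hy⟩ := Subtype.ext (e y)
  rw [e1, e2]
  exact h

/-- inside the block `q` the extended relation is `r₁`. -/
theorem extRel_iff (r : Setoid α) (hr : Inv G r)
    (q : Quotient r) (r₁ : Setoid (Cls r q))
    (hr₁ : ∀ (g : G) (x y : Cls r q) (hx : Quotient.mk r (g • x.1) = q)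
      (hy : Quotient.mk r (g • y.1) = q), r₁ x y → r₁ ⟨g • x.1, hx⟩ ⟨g • y.1, hy⟩)
    (x y : Cls r q) : (extRel G r hr q r₁ hr₁) x.1 y.1 ↔ r₁ x y := by
  constructor
  · rintro ⟨g, hx, hy, h⟩
    have h1 : Quotient.mk r (g⁻¹ • (⟨g • x.1, hx⟩ : Cls r q).1) = q := by
      change Quotient.mk r (g⁻¹ • g • x.1) = q
      rw [inv_smul_smul]; exact x.2
    have h2 : Quotient.mk r (g⁻¹ • (⟨g • y.1, hy⟩ : Cls r q).1) = q := by
      change Quotient.mk r (g⁻¹ • g • y.1) = q
      rw [inv_smul_smul]; exact y.2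
    have h3 := hr₁ g⁻¹ ⟨g • x.1, hx⟩ ⟨g • y.1, hy⟩ h1 h2 h
    have e1 : (⟨g⁻¹ • (⟨g • x.1, hx⟩ : Cls r q).1, h1⟩ : Cls r q) = x := Subtype.ext (inv_smul_smul _ _)
    have e2 : (⟨g⁻¹ • (⟨g • y.1, hy⟩ : Cls r q).1, h2⟩ : Cls r q) = y := Subtype.ext (inv_smul_smul _ _)
    rwa [e1, e2] at h3
  · intro h
    refine ⟨1, by rw [one_smul]; exact x.2, by rw [one_smul]; exact y.2, ?_⟩
    have e1 : (⟨(1 : G) • x.1, by rw [one_smul]; exact x.2⟩ : Cls r q) = x := Subtype.ext (one_smul _ _)
    have e2 : (⟨(1 : G) • y.1, by rw [one_smul]; exact y.2⟩ : Cls r q) = y := Subtype.ext (one_smul _ _)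
    rw [e1, e2]
    exact h

/-- the extended relation is finer than `r`. -/
theorem extRel_le (r : Setoid α) (hr : Inv G r)
    (q : Quotient r) (r₁ : Setoid (Cls r q))
    (hr₁ : ∀ (g : G) (x y : Cls r q) (hx : Quotient.mk r (g • x.1) = q)
      (hy : Quotient.mk r (g • y.1) = q), r₁ x y → r₁ ⟨g • x.1, hx⟩ ⟨g • y.1, hy⟩)
    {x y : α} (h : (extRel G r hr q r₁ hr₁) x y) : r x y := by
  obtain ⟨g, hx, hy, _⟩ := h
  have h1 : r (g • x) (g • y) := Quotient.exact (hx.trans hy.symm)
  have h2 := hr g⁻¹ _ _ h1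
  rwa [inv_smul_smul, inv_smul_smul] at h2

/-- the classes of the extended relation in the block `q` are the classes of `r₁`. -/
theorem card_cls_extRel (r : Setoid α) (hr : Inv G r)
    (q : Quotient r) (r₁ : Setoid (Cls r q))
    (hr₁ : ∀ (g : G) (x y : Cls r q) (hx : Quotient.mk r (g • x.1) = q)
      (hy : Quotient.mk r (g • y.1) = q), r₁ x y → r₁ ⟨g • x.1, hx⟩ ⟨g • y.1, hy⟩)
    (x : Cls r q) :
    Nat.card (Cls (extRel G r hr q r₁ hr₁) (Quotient.mk _ x.1)) = Nat.card (Cls r₁ (Quotient.mk r₁ x)) := by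
  apply Nat.card_congr
  exact
    { toFun := fun y => ⟨⟨y.1, by
          have h1 := Quotient.exact y.2
          have h2 := extRel_le r hr q r₁ hr₁ h1
          exact (Quotient.sound h2).trans x.2⟩, by
          have h1 := Quotient.exact y.2
          have h2 := extRel_le r hr q r₁ hr₁ h1
          exact Quotient.sound ((extRel_iff r hr q r₁ hr₁ ⟨y.1, (Quotient.sound h2).trans x.2⟩ x).1 h1)⟩
      invFun := fun y => ⟨y.1.1, Quotient.sound ((extRel_iff r hr q r₁ hr₁ y.1 x).2 (Quotient.exact y.2))⟩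
      left_inv := fun y => rfl
      right_inv := fun y => rfl }

end Ext

end Cfsg.Agent.H540.Blocks
end

-- part: H540/PermRed
section
/-!
# Class numbers of permutation groups of order prime to `p`: reduction steps
-/

set_option autoImplicit false

namespace Cfsg.Agent.H540.PermRed

open MulAction Cfsg.Agent.H539.BlockRed Cfsg.Agent.H540.ClassNum Cfsg.Agent.H540.Blocks

/-- the square of the bound -/
def sq : ℕ → ℕ
  | 0 => 1
  | 1 => 1
  | 2 => 4
  | (n+3) => 3 ^ (n+2)

theorem sq_three {n : ℕ} (h : 3 ≤ n) : sq n = 3 ^ (n - 1) := by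
  obtain ⟨k, rfl⟩ := Nat.exists_eq_add_of_le' h
  rfl

theorem sq_mul_le {a b : ℕ} (ha : 1 ≤ a) (hb : 1 ≤ b) : sq a * sq b ≤ sq (a + b) := by
  have key : ∀ a b : ℕ, 1 ≤ a → 1 ≤ b → a ≤ b → sq a * sq b ≤ sq (a + b) := by
    intro a b ha hb hab
    rcases Nat.lt_or_ge b 3 with hb3 | hb3
    · interval_cases b <;> interval_cases a <;> decide
    · rw [sq_three hb3, sq_three (by omega : 3 ≤ a + b)]
      rcases Nat.lt_or_ge a 3 with ha3 | ha3
      · interval_cases a
        · change 1 * _ ≤ _
          rw [one_mul]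
          exact Nat.pow_le_pow_right (by norm_num) (by omega)
        · change 4 * _ ≤ _
          have : 2 + b - 1 = (b - 1) + 2 := by omega
          rw [this, pow_add]
          linarith only [Nat.pow_pos (n := b - 1) (show 0 < 3 by norm_num)]
      · rw [sq_three ha3, ← pow_add]
        exact Nat.pow_le_pow_right (by norm_num) (by omega)
  rcases le_total a b with h | h
  · exact key a b ha hb h
  · rw [mul_comm, add_comm]
    exact key b a hb ha h

/-- all permutation groups of degree `n` and order prime to `p` have `k² ≤ sq n`. -/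
def PB (p n : ℕ) : Prop :=
  ∀ S : Subgroup (Equiv.Perm (Fin n)), ¬ p ∣ Nat.card S → Nat.card (ConjClasses S) ^ 2 ≤ sq n

theorem PB.of_injective {p n : ℕ} (h : PB p n) {G : Type*} [Group G] {α : Type*} [Finite α]
    (hα : Nat.card α = n) (f : G →* Equiv.Perm α) (hf : Function.Injective f)
    (hp : ¬ p ∣ Nat.card G) : Nat.card (ConjClasses G) ^ 2 ≤ sq n := by
  have := Fintype.ofFinite α
  let e : α ≃ Fin n := Fintype.equivFinOfCardEq (by rw [← Nat.card_eq_fintype_card]; exact hα)
  let g : G →* Equiv.Perm (Fin n) := (e.permCongrHom).toMonoidHom.comp f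
  have hg : Function.Injective g := (e.permCongrHom).injective.comp hf
  rw [card_conjClasses_congr (MonoidHom.ofInjective hg)]
  refine h g.range ?_
  rwa [← Nat.card_congr (MonoidHom.ofInjective hg).toEquiv]

/-- quotients and subgroups of the group -/
theorem not_dvd_range {p : ℕ} {G H : Type*} [Group G] [Group H] [Finite G]
    (hp : ¬ p ∣ Nat.card G) (f : G →* H) : ¬ p ∣ Nat.card f.range := fun h =>
  hp (h.trans (Subgroup.card_range_dvd f))

theorem not_dvd_sub {p : ℕ} {G : Type*} [Group G] [Finite G]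
    (hp : ¬ p ∣ Nat.card G) (M : Subgroup G) : ¬ p ∣ Nat.card M := fun h =>
  hp (h.trans (Subgroup.card_subgroup_dvd_card M))

theorem PB.range {p n : ℕ} (h : PB p n) {G : Type*} [Group G] [Finite G] {α : Type*} [Finite α]
    (hα : Nat.card α = n) (f : G →* Equiv.Perm α)
    (hp : ¬ p ∣ Nat.card G) : Nat.card (ConjClasses f.range) ^ 2 ≤ sq n :=
  h.of_injective hα f.range.subtype Subtype.coe_injective (not_dvd_range hp f)

/-- the intransitive case -/
theorem intransitive {p : ℕ} {G : Type*} [Group G] [Finite G] {α : Type*} [Finite α]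
    [MulAction G α] [FaithfulSMul G α] (hp : ¬ p ∣ Nat.card G) (x₀ : α)
    (hG : ¬ IsPretransitive G α) (ih : ∀ m, m < Nat.card α → PB p m) :
    Nat.card (ConjClasses G) ^ 2 ≤ sq (Nat.card α) := by
  classical
  let P : α → Prop := fun x => x ∈ orbit G x₀
  have hP : ∀ (g : G) (x : α), P (toPermHom G α g x) ↔ P x := by
    intro g x
    change g • x ∈ orbit G x₀ ↔ x ∈ orbit G x₀
    constructor
    · rintro ⟨k, hk⟩
      refine ⟨g⁻¹ * k, ?_⟩
      have hk' : k • x₀ = g • x := hk
      change (g⁻¹ * k) • x₀ = x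
      rw [mul_smul, hk', inv_smul_smul]
    · rintro ⟨k, hk⟩
      refine ⟨g * k, ?_⟩
      have hk' : k • x₀ = x := hk
      change (g * k) • x₀ = g • x
      rw [mul_smul, hk']
  have hP' : ∀ (g : G) (x : α), ¬ P (toPermHom G α g x) ↔ ¬ P x := fun g x => not_congr (hP g x)
  let ρ := Cfsg.Agent.H553.PermClass.resHom (toPermHom G α) P hP
  let ρ' := Cfsg.Agent.H553.PermClass.resHom (toPermHom G α) (fun x => ¬ P x) hP'
  have hcard : Nat.card {x // P x} + Nat.card {x // ¬ P x} = Nat.card α := by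
    rw [← Nat.card_sum]
    exact Nat.card_congr (Equiv.sumCompl P)
  have h1 : 1 ≤ Nat.card {x // P x} := by
    have : Nonempty {x // P x} := ⟨⟨x₀, mem_orbit_self x₀⟩⟩
    exact Nat.card_pos
  have h2 : 1 ≤ Nat.card {x // ¬ P x} := by
    by_contra h0
    apply hG
    have h0' : Nat.card {x // ¬ P x} = 0 := by omega
    have hem : IsEmpty {x // ¬ P x} := by
      rcases Nat.card_eq_zero.1 h0' with h | h
      · exact h
      · exact absurd (inferInstance : Finite {x // ¬ P x}) (not_finite_iff_infinite.2 h)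
    have hall : ∀ x : α, x ∈ orbit G x₀ := by
      intro x
      by_contra hx
      exact hem.false ⟨x, hx⟩
    refine ⟨fun x y => ?_⟩
    obtain ⟨g, hg⟩ := hall x
    obtain ⟨k, hk⟩ := hall y
    refine ⟨k * g⁻¹, ?_⟩
    have hg' : g • x₀ = x := hg
    have hk' : k • x₀ = y := hk
    rw [← hg', mul_smul, inv_smul_smul, hk']
  have hk1 : Nat.card (ConjClasses ρ.range) ^ 2 ≤ sq (Nat.card {x // P x}) :=
    (ih _ (by omega)).range rfl ρ hp
  have hk2 : Nat.card (ConjClasses ρ.ker) ^ 2 ≤ sq (Nat.card {x // ¬ P x}) := by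
    refine (ih _ (by omega)).of_injective rfl (ρ'.comp ρ.ker.subtype) ?_ (not_dvd_sub hp _)
    rw [injective_iff_map_eq_one]
    intro g hg
    apply Subtype.ext
    rw [Subgroup.coe_one]
    apply FaithfulSMul.eq_of_smul_eq_smul (α := α)
    intro x
    rw [one_smul]
    by_cases hx : P x
    · have h3 : ρ g.1 = 1 := g.2
      exact congrArg (fun e : Equiv.Perm {x // P x} => ((e ⟨x, hx⟩ : _) : α)) h3
    · exact congrArg (fun e : Equiv.Perm {x // ¬ P x} => ((e ⟨x, hx⟩ : _) : α)) hg
  calc Nat.card (ConjClasses G) ^ 2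
      ≤ (Nat.card (ConjClasses ρ.ker) * Nat.card (ConjClasses ρ.range)) ^ 2 :=
        Nat.pow_le_pow_left (le_ker_mul_range ρ) 2
    _ = Nat.card (ConjClasses ρ.range) ^ 2 * Nat.card (ConjClasses ρ.ker) ^ 2 := by ring
    _ ≤ sq (Nat.card {x // P x}) * sq (Nat.card {x // ¬ P x}) := Nat.mul_le_mul hk1 hk2
    _ ≤ sq (Nat.card {x // P x} + Nat.card {x // ¬ P x}) := sq_mul_le h1 h2
    _ = _ := by rw [hcard]

/-- faithful action of the kernel on the union of the classes -/
theorem fib_faithful {G : Type*} [Group G] {α : Type*} [MulAction G α] [FaithfulSMul G α]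
    (r : Setoid α) (hr : Inv G r) (g : (quotHom r hr).ker) (hg : ∀ q, fibHom r hr q g = 1) :
    g = 1 := by
  apply Subtype.ext
  apply FaithfulSMul.eq_of_smul_eq_smul (α := α)
  intro x
  have h1 := congrArg (fun σ => ((σ : Equiv.Perm _) ⟨x, rfl⟩ : {y : α // Quotient.mk r y = Quotient.mk r x}).1)
    (hg (Quotient.mk r x))
  simpa only [fibHom, _root_.OneMemClass.coe_one, _root_.one_smul, _root_.MonoidHom.coe_mk, _root_.OneHom.coe_mk, _root_.Equiv.coe_fn_mk, _root_.Equiv.Perm.coe_one, _root_.id_eq] using h1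

/-- many large blocks -/
theorem large_blocks {p : ℕ} {G : Type*} [Group G] [Finite G] {α : Type*} [Finite α]
    [MulAction G α] [FaithfulSMul G α] [IsPretransitive G α] (hp : ¬ p ∣ Nat.card G)
    (r : Setoid α) (hr : Inv G r) (q₀ : Quotient r) (hs : 3 ≤ Nat.card (Cls r q₀))
    (hm : 3 ≤ Nat.card (Quotient r)) (ih : ∀ m, m < Nat.card α → PB p m) :
    Nat.card (ConjClasses G) ^ 2 ≤ 3 ^ (Nat.card α - 1) := by
  classical
  have hn := card_eq_mul hr q₀
  set s := Nat.card (Cls r q₀) with hsdef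
  set m := Nat.card (Quotient r) with hmdef
  have hsn : s < Nat.card α := by rw [hn]; nlinarith only [hs, hm]
  have hmn : m < Nat.card α := by rw [hn]; nlinarith only [hs, hn, hsn]
  have := Fintype.ofFinite (Quotient r)
  have hker : Nat.card (ConjClasses (quotHom r hr).ker) ≤
      ∏ _q : Quotient r, Nat.sqrt (3 ^ (s - 1)) := by
    refine family (fun q => (fibHom r hr q).rangeRestrict) (fun _ => Nat.sqrt (3 ^ (s - 1))) ?_ ?_
    · intro q M
      have h1 : Nat.card (Cls r q) = s := card_cls_eq hr q q₀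
      have h2 := (ih s hsn).of_injective (G := M) (α := Cls r q) h1
        ((fibHom r hr q).range.subtype.comp M.subtype)
        (Subtype.coe_injective.comp Subtype.coe_injective)
        (not_dvd_sub (not_dvd_range (not_dvd_sub hp _) _) _)
      rw [sq_three hs] at h2
      rw [Nat.le_sqrt']
      exact h2
    · intro g hg
      refine fib_faithful r hr g fun q => ?_
      have h1 := congrArg Subtype.val (hg q)
      exact h1
  rw [Finset.prod_const, Finset.card_univ, ← Nat.card_eq_fintype_card, ← hmdef] at hker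
  have hker2 : Nat.card (ConjClasses (quotHom r hr).ker) ^ 2 ≤ 3 ^ ((s - 1) * m) := by
    calc Nat.card (ConjClasses (quotHom r hr).ker) ^ 2 ≤ ((Nat.sqrt (3 ^ (s - 1))) ^ m) ^ 2 :=
          Nat.pow_le_pow_left hker 2
      _ = ((Nat.sqrt (3 ^ (s - 1))) ^ 2) ^ m := by rw [← pow_mul, ← pow_mul, mul_comm]
      _ ≤ (3 ^ (s - 1)) ^ m := Nat.pow_le_pow_left (Nat.sqrt_le' _) m
      _ = _ := by rw [← pow_mul]
  have hrange : Nat.card (ConjClasses (quotHom r hr).range) ^ 2 ≤ 3 ^ (m - 1) := by
    have h1 := (ih m hmn).range (α := Quotient r) rfl (quotHom r hr) hp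
    rwa [sq_three hm] at h1
  calc Nat.card (ConjClasses G) ^ 2
      ≤ (Nat.card (ConjClasses (quotHom r hr).ker) * Nat.card (ConjClasses (quotHom r hr).range)) ^ 2 :=
        Nat.pow_le_pow_left (le_ker_mul_range _) 2
    _ = Nat.card (ConjClasses (quotHom r hr).ker) ^ 2 *
        Nat.card (ConjClasses (quotHom r hr).range) ^ 2 := by ring
    _ ≤ 3 ^ ((s - 1) * m) * 3 ^ (m - 1) := Nat.mul_le_mul hker2 hrange
    _ = 3 ^ (Nat.card α - 1) := by
        rw [← pow_add, hn]
        congr 1
        have h3 : s * m = (s - 1) * m + m := by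
          obtain ⟨t, ht⟩ := Nat.exists_eq_add_of_le' (show 1 ≤ s by omega)
          rw [ht, Nat.add_sub_cancel]; ring
        rw [mul_comm m s]
        omega

section Two

variable {G : Type*} [Group G] [Finite G] {α : Type*} [Finite α]
    [MulAction G α] [FaithfulSMul G α]

theorem perm_sq {β : Type*} [Finite β] (hβ : Nat.card β = 2) (σ : Equiv.Perm β) : σ * σ = 1 := by
  classical
  have := Fintype.ofFinite β
  have h1 : Nat.card (Equiv.Perm β) = 2 := by
    rw [Nat.card_eq_fintype_card, Fintype.card_perm, ← Nat.card_eq_fintype_card, hβ]; rfl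
  have h2 : σ ^ Nat.card (Equiv.Perm β) = 1 := pow_card_eq_one'
  rwa [h1, pow_two] at h2

theorem ker_sq (r : Setoid α) (hr : Inv G r) (hs : ∀ q : Quotient r, Nat.card (Cls r q) = 2)
    (x : (quotHom r hr).ker) : x * x = 1 := by
  refine fib_faithful r hr _ fun q => ?_
  rw [map_mul]
  exact perm_sq (hs q) _

theorem card_ker_le (r : Setoid α) (hr : Inv G r) (hs : ∀ q : Quotient r, Nat.card (Cls r q) = 2) :
    Nat.card (quotHom r hr).ker ≤ 2 ^ Nat.card (Quotient r) := by
  classical
  have := Fintype.ofFinite (Quotient r)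
  have hinj : Function.Injective (fun (x : (quotHom r hr).ker) (q : Quotient r) => fibHom r hr q x) := by
    intro x y hxy
    have h1 : x * y⁻¹ = 1 := by
      refine fib_faithful r hr _ fun q => ?_
      rw [map_mul, map_inv, mul_inv_eq_one]
      exact congrFun hxy q
    exact mul_inv_eq_one.1 h1
  have h2 := Nat.card_le_card_of_injective _ hinj
  rw [Nat.card_pi] at h2
  refine h2.trans (le_of_eq ?_)
  have h3 : ∀ q : Quotient r, Nat.card (Equiv.Perm (Cls r q)) = 2 := by
    intro q
    have := Fintype.ofFinite (Cls r q)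
    rw [Nat.card_eq_fintype_card, Fintype.card_perm, ← Nat.card_eq_fintype_card, hs]; rfl
  rw [Finset.prod_congr rfl (fun q _ => h3 q), Finset.prod_const, Finset.card_univ,
    ← Nat.card_eq_fintype_card]

theorem blocks_two (r : Setoid α) (hr : Inv G r)
    (hs : ∀ q : Quotient r, Nat.card (Cls r q) = 2)
    (hprim : IsPreprimitive (quotHom r hr).range (Quotient r)) :
    Nat.card (ConjClasses G) ≤ 2 * Nat.card (ConjClasses (quotHom r hr).range) ∨
    2 * (Nat.card (quotHom r hr).range * Nat.card (ConjClasses G)) ≤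
      2 ^ Nat.card (Quotient r) * (Nat.card (quotHom r hr).range *
        Nat.card (ConjClasses (quotHom r hr).range) + 1) := by
  classical
  set K : Subgroup G := (quotHom r hr).ker with hK
  have hKn : K.Normal := by rw [hK]; infer_instance
  have hsq : ∀ x ∈ K, x * x = 1 := by
    intro x hx
    exact congrArg Subtype.val (ker_sq r hr hs ⟨x, hx⟩)
  have hab : ∀ a ∈ K, ∀ b ∈ K, a * b = b * a := by
    intro a ha b hb
    have h1 := hsq _ ha
    have h2 := hsq _ hb
    have h3 := hsq _ (K.mul_mem ha hb)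
    have e1 : a⁻¹ = a := inv_eq_of_mul_eq_one_left h1
    have e2 : b⁻¹ = b := inv_eq_of_mul_eq_one_left h2
    have e3 : (a * b)⁻¹ = a * b := inv_eq_of_mul_eq_one_left h3
    rw [mul_inv_rev, e1, e2] at e3
    exact e3.symm
  by_cases hC : Subgroup.centralizer (K : Set G) ≤ K
  · right
    have : Fact (Nat.Prime 2) := ⟨Nat.prime_two⟩
    have hpg : IsPGroup 2 K := by
      intro x
      refine ⟨1, ?_⟩
      rw [pow_one, pow_two]
      exact Subtype.ext (hsq _ x.2)
    have h1 := HalfBound.half_bound K 2 hpg hab hC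
    have e := QuotientGroup.quotientKerEquivRange (quotHom r hr)
    have e1 : Nat.card (G ⧸ K) = Nat.card (quotHom r hr).range := Nat.card_congr e.toEquiv
    have e2 : Nat.card (ConjClasses (G ⧸ K)) = Nat.card (ConjClasses (quotHom r hr).range) :=
      card_conjClasses_congr e
    rw [e1, e2] at h1
    exact h1.trans (Nat.mul_le_mul_right _ (card_ker_le r hr hs))
  · left
    -- the centralizer is transitive on the classes
    set C : Subgroup G := Subgroup.centralizer (K : Set G) with hCdef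
    have hCn : C.Normal := by
      rw [hCdef]; infer_instance
    let C' : Subgroup (quotHom r hr).range := C.map (quotHom r hr).rangeRestrict
    have hC'n : C'.Normal := hCn.map _ (quotHom r hr).rangeRestrict_surjective
    have htr : IsPretransitive C' (Quotient r) := by
      apply IsQuasiPreprimitive.isPretransitive_of_normal
      intro hfix
      apply hC
      intro c hc
      rw [hK, MonoidHom.mem_ker]
      ext q
      have h1 : q ∈ fixedPoints C' (Quotient r) := by rw [hfix]; trivial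
      have h2 := h1 ⟨(quotHom r hr).rangeRestrict c, Subgroup.mem_map_of_mem _ hc⟩
      exact h2
    have hcard : Nat.card K ≤ 2 := by
      rcases isEmpty_or_nonempty (Quotient r) with hem | ⟨⟨q₀⟩⟩
      · have : Subsingleton K := by
          refine ⟨fun x y => ?_⟩
          have h1 : x * y⁻¹ = 1 := fib_faithful r hr _ fun q => (hem.false q).elim
          exact mul_inv_eq_one.1 h1
        have := (Finite.card_le_one_iff_subsingleton (α := K)).2 this
        omega
      · have hinj : Function.Injective (fibHom r hr q₀) := by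
          rw [injective_iff_map_eq_one]
          intro x hx
          apply Subtype.ext
          rw [Subgroup.coe_one]
          apply FaithfulSMul.eq_of_smul_eq_smul (α := α)
          intro y
          rw [one_smul]
          obtain ⟨⟨_, ⟨c, hc, rfl⟩⟩, hcq⟩ := exists_smul_eq C' (Quotient.mk r y) q₀
          have hcq' : Quotient.mk r (c • y) = q₀ := hcq
          have h3 : x.1 • (c • y) = c • y := by
            have := congrArg (fun σ : Equiv.Perm (Cls r q₀) => (σ ⟨c • y, hcq'⟩).1) hx
            simpa only [fibHom, _root_.MonoidHom.coe_mk, _root_.OneHom.coe_mk, _root_.Equiv.coe_fn_mk, _root_.Equiv.Perm.coe_one, _root_.id_eq] using this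
          have h4 : x.1 * c = c * x.1 := (Subgroup.mem_centralizer_iff.1 hc) x.1 x.2
          rw [smul_smul, h4, mul_smul] at h3
          exact smul_left_cancel c h3
        have h1 := Nat.card_le_card_of_injective _ hinj
        have := Fintype.ofFinite (Cls r q₀)
        have h2 : Nat.card (Equiv.Perm (Cls r q₀)) = 2 := by
          rw [Nat.card_eq_fintype_card, Fintype.card_perm, ← Nat.card_eq_fintype_card, hs]; rfl
        rwa [h2] at h1
    calc Nat.card (ConjClasses G) ≤ Nat.card (ConjClasses K) * Nat.card (ConjClasses (quotHom r hr).range) :=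
          le_ker_mul_range (quotHom r hr)
      _ ≤ 2 * Nat.card (ConjClasses (quotHom r hr).range) :=
          Nat.mul_le_mul_right _ ((card_conjClasses_le_card).trans hcard)

end Two

end Cfsg.Agent.H540.PermRed
end

-- part: H540/PermTwo
section
/-!
# Class numbers of permutation groups with two blocks
-/

set_option autoImplicit false

namespace Cfsg.Agent.H540.PermTwo

open MulAction Cfsg.Agent.H539.BlockRed Cfsg.Agent.H540.ClassNum Cfsg.Agent.H540.Blocks
  Cfsg.Agent.H540.PermRed

section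

variable {G : Type*} [Group G] {α : Type*} [MulAction G α]

/-- the elements fixing all classes and fixing the class `q` pointwise -/
def Nq (r : Setoid α) (hr : Inv G r) (q : Quotient r) : Subgroup G where
  carrier := {g | g ∈ (quotHom r hr).ker ∧ ∀ x, Quotient.mk r x = q → g • x = x}
  one_mem' := ⟨one_mem _, fun x _ => one_smul _ x⟩
  mul_mem' := by
    rintro a b ⟨ha, ha'⟩ ⟨hb, hb'⟩
    refine ⟨mul_mem ha hb, fun x hx => ?_⟩
    rw [mul_smul, hb' x hx, ha' x hx]
  inv_mem' := by
    rintro a ⟨ha, ha'⟩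
    refine ⟨inv_mem ha, fun x hx => ?_⟩
    rw [inv_smul_eq_iff, ha' x hx]

theorem quotHom_mk' (r : Setoid α) (hr : Inv G r) (g : G) (x : α) :
    quotHom r hr g (Quotient.mk r x) = Quotient.mk r (g • x) := rfl

theorem conj_Nq {r : Setoid α} {hr : Inv G r} {q q' : Quotient r} (x : G)
    (hq : quotHom r hr x q = q') {a : G} (ha : a ∈ Nq r hr q) : x * a * x⁻¹ ∈ Nq r hr q' := by
  refine ⟨(inferInstance : (quotHom r hr).ker.Normal).conj_mem a ha.1 x, fun y hy => ?_⟩
  have h1 : Quotient.mk r (x⁻¹ • y) = q := by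
    have h2 : quotHom r hr x (Quotient.mk r (x⁻¹ • y)) = quotHom r hr x q := by
      rw [quotHom_mk', smul_inv_smul, hy, hq]
    exact (quotHom r hr x).injective h2
  rw [mul_smul, mul_smul, ha.2 _ h1, smul_inv_smul]

theorem ker_fibHom_equiv (r : Setoid α) (hr : Inv G r) (q : Quotient r) :
    Nonempty ((fibHom r hr q).ker ≃* Nq r hr q) := by
  refine ⟨MulEquiv.mk' (Equiv.mk (fun x => ⟨x.1.1, x.1.2, fun y hy => ?_⟩)
    (fun x => ⟨⟨x.1, x.2.1⟩, ?_⟩) (fun x => rfl) (fun x => rfl)) ?_⟩
  · have h1 : fibHom r hr q x.1 = 1 := x.2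
    have := congrArg (fun σ : Equiv.Perm (Cls r q) => (σ ⟨y, hy⟩).1) h1
    simpa only [fibHom, _root_.MonoidHom.coe_mk, _root_.OneHom.coe_mk, _root_.Equiv.coe_fn_mk, _root_.Equiv.Perm.coe_one, _root_.id_eq] using this
  · rw [MonoidHom.mem_ker]
    ext y
    have := x.2.2 y.1 y.2
    simpa only [fibHom, _root_.MonoidHom.coe_mk, _root_.OneHom.coe_mk, _root_.Equiv.coe_fn_mk, _root_.Equiv.Perm.coe_one, _root_.id_eq] using this
  · intro x y
    rfl

end

section

variable {G : Type*} [Group G] [Finite G] {α : Type*} [Finite α]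
    [MulAction G α] [FaithfulSMul G α] [IsPretransitive G α]

theorem two_classes {p : ℕ} (hp : ¬ p ∣ Nat.card G)
    (r : Setoid α) (hr : Inv G r) (hm : Nat.card (Quotient r) = 2) (q₁ : Quotient r)
    (hPB : PB p (Nat.card (Cls r q₁))) :
    ∃ κ ν ρ : ℕ, κ ≤ ν ∧ κ ^ 2 ≤ PermRed.sq (Nat.card (Cls r q₁)) ∧
      ρ * ν ≤ Nat.card (fibHom r hr q₁).range ∧
      Nat.card (ConjClasses G) ≤ 2 * (κ * Nat.card (ConjClasses (fibHom r hr q₁).range)) ∧
      2 * Nat.card (ConjClasses G) ≤ κ * Nat.card (ConjClasses (fibHom r hr q₁).range) + 3 * (ρ * κ) := by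
  classical
  -- the other class
  obtain ⟨q₂, hq₂⟩ : ∃ q₂ : Quotient r, q₂ ≠ q₁ := by
    have := (Finite.one_lt_card_iff_nontrivial (α := Quotient r)).1 (by omega)
    exact exists_ne q₁
  have hall : ∀ q : Quotient r, q = q₁ ∨ q = q₂ := by
    intro q
    have h1 := (Nat.card_eq_two_iff' q₁).1 hm
    obtain ⟨z, _, hz⟩ := h1
    by_cases hq : q = q₁
    · exact Or.inl hq
    · right
      rw [hz q hq, hz q₂ hq₂]
  set K : Subgroup G := (quotHom r hr).ker with hKdef
  have hKn : K.Normal := by rw [hKdef]; infer_instance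
  have hK2 : ∀ x : G, x ∉ K → quotHom r hr x q₁ = q₂ ∧ quotHom r hr x q₂ = q₁ := by
    intro x hx
    rcases hall (quotHom r hr x q₁) with h1 | h1
    · exfalso
      apply hx
      rw [hKdef, MonoidHom.mem_ker]
      ext q
      rw [Equiv.Perm.one_apply]
      rcases hall q with h2 | h2
      · rw [h2, h1]
      · rw [h2]
        rcases hall (quotHom r hr x q₂) with h3 | h3
        · exact absurd ((quotHom r hr x).injective (h3.trans h1.symm)) hq₂
        · exact h3
    · refine ⟨h1, ?_⟩
      rcases hall (quotHom r hr x q₂) with h3 | h3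
      · exact h3
      · exact absurd ((quotHom r hr x).injective (h3.trans h1.symm)) hq₂
  have hKq : ∀ x ∈ K, ∀ q, quotHom r hr x q = q := by
    intro x hx q
    have h1 : quotHom r hr x = 1 := hx
    rw [h1]; rfl
  have hKi : K.index = 2 := by
    have h1 : Nat.card (Equiv.Perm (Quotient r)) = 2 := by
      have := Fintype.ofFinite (Quotient r)
      rw [Nat.card_eq_fintype_card, Fintype.card_perm, ← Nat.card_eq_fintype_card, hm]; rfl
    have h2 : K.index = Nat.card (quotHom r hr).range := by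
      rw [hKdef]; exact Subgroup.index_ker _
    have h3 : Nat.card (quotHom r hr).range ∣ 2 := by
      rw [← h1]; exact Subgroup.card_subgroup_dvd_card _
    rcases (Nat.dvd_prime Nat.prime_two).1 h3 with h4 | h4
    · exfalso
      have htop : K = ⊤ := by
        rw [← Subgroup.index_eq_one, h2, h4]
      obtain ⟨x₁, hx₁⟩ := Quotient.exists_rep q₁
      obtain ⟨x₂, hx₂⟩ := Quotient.exists_rep q₂
      obtain ⟨g, hg⟩ := exists_smul_eq G x₁ x₂
      have h5 := hKq g (by rw [htop]; trivial) q₁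
      rw [← hx₁, quotHom_mk', hg, hx₂, hx₁] at h5
      exact hq₂ h5
    · rw [h2, h4]
  set N₁ : Subgroup G := Nq r hr q₂ with hN₁
  set N₂ : Subgroup G := Nq r hr q₁ with hN₂
  have h1K : N₁ ≤ K := fun x hx => hx.1
  have h2K : N₂ ≤ K := fun x hx => hx.1
  have hn1 : ∀ x ∈ K, ∀ a ∈ N₁, x * a * x⁻¹ ∈ N₁ := fun x hx a ha => conj_Nq x (hKq x hx _) ha
  have hn2 : ∀ x ∈ K, ∀ a ∈ N₂, x * a * x⁻¹ ∈ N₂ := fun x hx a ha => conj_Nq x (hKq x hx _) ha
  have hdisj : N₁ ⊓ N₂ = ⊥ := by
    rw [eq_bot_iff]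
    rintro g ⟨h1, h2⟩
    rw [Subgroup.mem_bot]
    apply FaithfulSMul.eq_of_smul_eq_smul (α := α)
    intro x
    rw [one_smul]
    rcases hall (Quotient.mk r x) with h3 | h3
    · exact h2.2 x h3
    · exact h1.2 x h3
  have h12 : ∀ x ∉ K, ∀ a ∈ N₁, x⁻¹ * a * x ∈ N₂ := by
    intro x hx a ha
    have hx' : x⁻¹ ∉ K := fun h => hx (by simpa using inv_mem h)
    have := conj_Nq x⁻¹ (hK2 x⁻¹ hx').2 ha
    rwa [inv_inv] at this
  have h21 : ∀ x ∉ K, ∀ a ∈ N₂, x⁻¹ * a * x ∈ N₁ := by
    intro x hx a ha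
    have hx' : x⁻¹ ∉ K := fun h => hx (by simpa using inv_mem h)
    have := conj_Nq x⁻¹ (hK2 x⁻¹ hx').1 ha
    rwa [inv_inv] at this
  have hsw := Swap.swap_bound K N₁ N₂ hKi h1K h2K hn1 hn2 hdisj h12 h21
  -- an element outside
  obtain ⟨x₀, hx₀⟩ : ∃ x, x ∉ K := by
    by_contra hcon
    push Not at hcon
    have : K = ⊤ := by rw [eq_top_iff]; exact fun x _ => hcon x
    rw [this, Subgroup.index_top] at hKi
    omega
  have hcardN : Nat.card N₁ = Nat.card N₂ := by
    apply le_antisymm
    · refine Nat.card_le_card_of_injective (fun a : N₁ => (⟨x₀⁻¹ * a.1 * x₀, h12 x₀ hx₀ _ a.2⟩ : N₂)) ?_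
      intro a b hab
      have := congrArg Subtype.val hab
      simpa only [_root_.mul_left_inj, _root_.mul_right_inj, _root_.SetLike.coe_eq_coe] using this
    · refine Nat.card_le_card_of_injective (fun a : N₂ => (⟨x₀⁻¹ * a.1 * x₀, h21 x₀ hx₀ _ a.2⟩ : N₁)) ?_
      intro a b hab
      have := congrArg Subtype.val hab
      simpa only [_root_.mul_left_inj, _root_.mul_right_inj, _root_.SetLike.coe_eq_coe] using this
  obtain ⟨e⟩ := ker_fibHom_equiv r hr q₁
  set X := (fibHom r hr q₁).range with hX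
  have hkK : Nat.card (ConjClasses K) ≤ Nat.card (ConjClasses N₂) * Nat.card (ConjClasses X) := by
    have h1 := le_ker_mul_range (fibHom r hr q₁)
    rwa [card_conjClasses_congr e] at h1
  have hcK : Nat.card K = Nat.card N₂ * Nat.card X := by
    have h1 := Subgroup.card_mul_index (fibHom r hr q₁).ker
    rw [Subgroup.index_ker, Nat.card_congr e.toEquiv] at h1
    exact h1.symm
  have hrel : (N₁ ⊔ N₂).relIndex K * Nat.card N₂ ≤ Nat.card X := by
    have hle : N₁ ⊔ N₂ ≤ K := sup_le h1K h2K
    have h1 : Nat.card N₁ * Nat.card N₂ ≤ Nat.card (N₁ ⊔ N₂ : Subgroup G) := by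
      rw [← Nat.card_prod]
      refine Nat.card_le_card_of_injective (fun x : N₁ × N₂ => (⟨x.1.1 * x.2.1,
        mul_mem (le_sup_left (a := N₁) x.1.2) (le_sup_right (a := N₁) x.2.2)⟩ : (N₁ ⊔ N₂ : Subgroup G))) ?_
      intro x y hxy
      have h2 : x.1.1 * x.2.1 = y.1.1 * y.2.1 := congrArg Subtype.val hxy
      exact Subgroup.mul_injective_of_disjoint (disjoint_iff.2 hdisj) h2
    have h2 : (N₁ ⊔ N₂).relIndex K * Nat.card (N₁ ⊔ N₂ : Subgroup G) = Nat.card K := by
      have e1 := Subgroup.relIndex_mul_relIndex ⊥ (N₁ ⊔ N₂) K bot_le hle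
      rw [Subgroup.relIndex_bot_left, Subgroup.relIndex_bot_left, mul_comm] at e1
      exact e1
    have h3 : (N₁ ⊔ N₂).relIndex K * (Nat.card N₂ * Nat.card N₂) ≤ Nat.card N₂ * Nat.card X := by
      rw [← hcK, ← h2]
      apply Nat.mul_le_mul_left
      rw [hcardN] at h1
      exact h1
    have hpos : 0 < Nat.card N₂ := Nat.card_pos
    have h4 : Nat.card N₂ * ((N₁ ⊔ N₂).relIndex K * Nat.card N₂) ≤ Nat.card N₂ * Nat.card X := by
      calc _ = (N₁ ⊔ N₂).relIndex K * (Nat.card N₂ * Nat.card N₂) := by ring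
        _ ≤ _ := h3
    exact Nat.le_of_mul_le_mul_left h4 hpos
  refine ⟨Nat.card (ConjClasses N₂), Nat.card N₂, (N₁ ⊔ N₂).relIndex K, card_conjClasses_le_card, ?_,
    hrel, ?_, ?_⟩
  · -- `N₂` acts faithfully on the other class
    have h1 : Nat.card (Cls r q₂) = Nat.card (Cls r q₁) := card_cls_eq hr q₂ q₁
    let f : N₂ →* Equiv.Perm (Cls r q₂) := (fibHom r hr q₂).comp (Subgroup.inclusion h2K)
    refine hPB.of_injective h1 f ?_ (not_dvd_sub hp _)
    rw [injective_iff_map_eq_one]
    intro g hg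
    apply Subtype.ext
    rw [Subgroup.coe_one]
    apply FaithfulSMul.eq_of_smul_eq_smul (α := α)
    intro x
    rw [one_smul]
    rcases hall (Quotient.mk r x) with h3 | h3
    · exact g.2.2 x h3
    · have := congrArg (fun σ : Equiv.Perm (Cls r q₂) => (σ ⟨x, h3⟩).1) hg
      simpa only [f, fibHom, _root_.MonoidHom.coe_comp, _root_.MonoidHom.coe_mk, _root_.OneHom.coe_mk, _root_.Function.comp_apply, _root_.Subgroup.coe_inclusion, _root_.Equiv.coe_fn_mk, _root_.Equiv.Perm.coe_one, _root_.id_eq] using this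
  · have h1 : Nat.card (ConjClasses G) ≤ 2 * Nat.card (ConjClasses K) := by
      have := le_index_mul' K
      rwa [hKi] at this
    exact h1.trans (Nat.mul_le_mul_left _ hkK)
  · exact hsw.trans (Nat.add_le_add_right hkK _)

theorem two_classes_bound {p : ℕ} (hp : ¬ p ∣ Nat.card G)
    (r : Setoid α) (hr : Inv G r) (hm : Nat.card (Quotient r) = 2) (q₁ : Quotient r)
    (hs : 3 ≤ Nat.card (Cls r q₁))
    (hPB : PB p (Nat.card (Cls r q₁)))
    (hX : 4 * Nat.card (ConjClasses (fibHom r hr q₁).range) ^ 2 ≤ 3 ^ Nat.card (Cls r q₁) ∨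
      (Nat.card (Cls r q₁) = 3 ∧ Nat.card (ConjClasses (fibHom r hr q₁).range) ≤ 3) ∨
      (Nat.card (Cls r q₁) = 4 ∧ Nat.card (ConjClasses (fibHom r hr q₁).range) ≤ 5) ∨
      (Nat.card (Cls r q₁) = 8 ∧ Nat.card (ConjClasses (fibHom r hr q₁).range) ≤ 41)) :
    Nat.card (ConjClasses G) ^ 2 ≤ 3 ^ (2 * Nat.card (Cls r q₁) - 1) := by
  obtain ⟨κ, ν, ρ, hκν, hκ, hρ, hG1, hG2⟩ := two_classes hp r hr hm q₁ hPB
  have hXc : Nat.card (fibHom r hr q₁).range ≤ (Nat.card (Cls r q₁)).factorial := by
    have h1 := Subgroup.card_le_card_group (fibHom r hr q₁).range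
    have := Fintype.ofFinite (Cls r q₁)
    classical
    rwa [Nat.card_eq_fintype_card (α := Equiv.Perm (Cls r q₁)), Fintype.card_perm,
      ← Nat.card_eq_fintype_card] at h1
  generalize Nat.card (fibHom r hr q₁).range = cX at *
  generalize Nat.card (ConjClasses (fibHom r hr q₁).range) = kX at *
  generalize Nat.card (ConjClasses G) = k at *
  generalize Nat.card (Cls r q₁) = s at *
  rw [sq_three hs] at hκ
  rcases hX with h | ⟨rfl, h⟩ | ⟨rfl, h⟩ | ⟨rfl, h⟩
  · calc k ^ 2 ≤ (2 * (κ * kX)) ^ 2 := Nat.pow_le_pow_left hG1 2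
      _ = κ ^ 2 * (4 * kX ^ 2) := by ring
      _ ≤ 3 ^ (s - 1) * 3 ^ s := Nat.mul_le_mul hκ h
      _ = 3 ^ (2 * s - 1) := by
        rw [← pow_add]; congr 1; omega
  · have hκ3 : κ ≤ 3 := by
      by_contra hcon
      push Not at hcon
      have : 4 ^ 2 ≤ κ ^ 2 := Nat.pow_le_pow_left hcon 2
      norm_num at hκ this
      omega
    have hc6 : cX ≤ 6 := hXc
    have hk : k ≤ 15 := by
      interval_cases κ
      · omega
      · omega
      · omega
      · have h3 : ρ * 3 ≤ 6 := (Nat.mul_le_mul_left ρ hκν).trans (hρ.trans hc6)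
        omega
    calc k ^ 2 ≤ 15 ^ 2 := Nat.pow_le_pow_left hk 2
      _ ≤ _ := by norm_num
  · have hκ5 : κ ≤ 5 := by
      by_contra hcon
      push Not at hcon
      have : 6 ^ 2 ≤ κ ^ 2 := Nat.pow_le_pow_left hcon 2
      norm_num at hκ this
      omega
    have hc24 : cX ≤ 24 := hXc
    have hk : k ≤ 46 := by
      interval_cases κ
      · omega
      · omega
      · omega
      · omega
      · omega
      · have h3 : ρ * 5 ≤ 24 := (Nat.mul_le_mul_left ρ hκν).trans (hρ.trans hc24)
        omega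
    calc k ^ 2 ≤ 46 ^ 2 := Nat.pow_le_pow_left hk 2
      _ ≤ _ := by norm_num
  · have hκ46 : κ ≤ 46 := by
      by_contra hcon
      push Not at hcon
      have : 47 ^ 2 ≤ κ ^ 2 := Nat.pow_le_pow_left hcon 2
      norm_num at hκ this
      omega
    have hk : k ≤ 3772 := by
      calc k ≤ 2 * (κ * kX) := hG1
        _ ≤ 2 * (46 * 41) := Nat.mul_le_mul_left _ (Nat.mul_le_mul hκ46 h)
        _ = 3772 := by norm_num
    calc k ^ 2 ≤ 3772 ^ 2 := Nat.pow_le_pow_left hk 2
      _ ≤ _ := by norm_num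

end

end Cfsg.Agent.H540.PermTwo
end

-- part: H540/PermStep
section
/-!
# Class numbers of permutation groups of order prime to `p`: the induction step
-/

set_option autoImplicit false

namespace Cfsg.Agent.H540.PermStep

open MulAction Cfsg.Agent.H539.BlockRed Cfsg.Agent.H540.ClassNum Cfsg.Agent.H540.Blocks
  Cfsg.Agent.H540.PermRed Cfsg.Agent.H540.PermTwo

/-- the square of the bound for primitive groups -/
def pr (m : ℕ) : ℕ :=
  if m ≤ 2 then 4 else if m = 3 then 9 else if m = 4 then 25 else if m = 5 then 49 else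
    if m = 6 then 121 else 2 ^ m

theorem pr_large {m : ℕ} (h : 7 ≤ m) : pr m = 2 ^ m := by
  unfold pr
  rw [if_neg (by omega), if_neg (by omega), if_neg (by omega), if_neg (by omega), if_neg (by omega)]

/-- all primitive permutation groups of degree `m` and order prime to `p` have `k² ≤ pr m`. -/
def Prim (p m : ℕ) : Prop :=
  ∀ S : Subgroup (Equiv.Perm (Fin m)), IsPreprimitive S (Fin m) → ¬ p ∣ Nat.card S →
    Nat.card (ConjClasses S) ^ 2 ≤ pr m

/-- transport of primitive groups -/
theorem Prim.of_subgroup {p m : ℕ} (h : Prim p m) {α : Type*} [Finite α] (hα : Nat.card α = m)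
    (S : Subgroup (Equiv.Perm α)) (hS : IsPreprimitive S α) (hp : ¬ p ∣ Nat.card S) :
    Nat.card (ConjClasses S) ^ 2 ≤ pr m := by
  have := Fintype.ofFinite α
  let e : α ≃ Fin m := Fintype.equivFinOfCardEq (by rw [← Nat.card_eq_fintype_card]; exact hα)
  let g : S →* Equiv.Perm (Fin m) := (e.permCongrHom).toMonoidHom.comp S.subtype
  have hg : Function.Injective g := (e.permCongrHom).injective.comp Subtype.coe_injective
  rw [card_conjClasses_congr (MonoidHom.ofInjective hg)]
  refine h g.range ?_ ?_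
  · let φ : S → g.range := fun s => g.rangeRestrict s
    have hφ : Function.Surjective φ := g.rangeRestrict_surjective
    let f : α →ₑ[φ] Fin m :=
      { toFun := e
        map_smul' := by
          intro s x
          change e (s.1 x) = (e.permCongrHom s.1) (e x)
          simp [Equiv.permCongrHom] }
    exact IsPreprimitive.of_surjective (f := f) e.surjective
  · rwa [← Nat.card_congr (MonoidHom.ofInjective hg).toEquiv]

theorem pow_aux {m : ℕ} (h : 3 ≤ m) : 64 * 8 ^ m ≤ 49 * 9 ^ m := by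
  induction m, h using Nat.le_induction with
  | base => norm_num
  | succ m hm ih =>
    rw [pow_succ, pow_succ]
    omega

theorem pow_aux2 {m : ℕ} (h : 3 ≤ m) : 16 * 2 ^ m ≤ 9 ^ m := by
  induction m, h using Nat.le_induction with
  | base => norm_num
  | succ m hm ih =>
    rw [pow_succ, pow_succ]
    omega

theorem pow_aux3 {m : ℕ} (h : 4 ≤ m) : 4 * 2 ^ m ≤ 3 ^ m := by
  induction m, h using Nat.le_induction with
  | base => norm_num
  | succ m hm ih =>
    rw [pow_succ, pow_succ]
    omega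

/-- arithmetic for blocks of size two -/
theorem arith_two {m c kY k : ℕ} (hm : 2 ≤ m) (hc : m ≤ c) (hkc : kY ≤ c) (hk0 : 1 ≤ kY)
    (hY : kY ^ 2 ≤ pr m)
    (h : k ≤ 2 * kY ∨ 2 * (c * k) ≤ 2 ^ m * (c * kY + 1)) :
    (m = 2 ∧ k ≤ 5) ∨ (m = 4 ∧ k ≤ 41) ∨ (m ≠ 2 ∧ m ≠ 4 ∧ 4 * k ^ 2 ≤ 9 ^ m) := by
  -- small values
  have hsm : ∀ a b : ℕ, a ^ 2 < (b + 1) ^ 2 → a ≤ b := by
    intro a b hab
    by_contra hcon
    push Not at hcon
    have h1 : b + 1 ≤ a := hcon
    have := Nat.pow_le_pow_left h1 2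
    omega
  rcases Nat.lt_or_ge m 7 with h7 | h7
  · interval_cases m
    · left
      refine ⟨rfl, ?_⟩
      have h2 : kY ≤ 2 := hsm _ _ (by norm_num [pr] at hY ⊢; omega)
      rcases h with h | h
      · omega
      · have e : c * kY ≤ c * 2 := Nat.mul_le_mul_left _ h2
        by_contra hcon
        push Not at hcon
        have e2 : c * 6 ≤ c * k := Nat.mul_le_mul_left _ hcon
        omega
    · right; right
      refine ⟨by norm_num, by norm_num, ?_⟩
      have h2 : kY ≤ 3 := hsm _ _ (by norm_num [pr] at hY ⊢; omega)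
      have hk : k ≤ 13 := by
        rcases h with h | h
        · omega
        · have e : c * kY ≤ c * 3 := Nat.mul_le_mul_left _ h2
          by_contra hcon
          push Not at hcon
          have e2 : c * 14 ≤ c * k := Nat.mul_le_mul_left _ hcon
          omega
      have := Nat.pow_le_pow_left hk 2
      norm_num at this ⊢
      omega
    · right; left
      refine ⟨rfl, ?_⟩
      have h2 : kY ≤ 5 := hsm _ _ (by norm_num [pr] at hY ⊢; omega)
      rcases h with h | h
      · omega
      · by_contra hcon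
        push Not at hcon
        have e2 : c * 42 ≤ c * k := Nat.mul_le_mul_left _ hcon
        rcases Nat.lt_or_ge kY 5 with h5 | h5
        · have e : c * kY ≤ c * 4 := Nat.mul_le_mul_left _ (by omega)
          omega
        · have e : c * kY ≤ c * 5 := Nat.mul_le_mul_left _ h2
          omega
    · right; right
      refine ⟨by norm_num, by norm_num, ?_⟩
      have h2 : kY ≤ 7 := hsm _ _ (by norm_num [pr] at hY ⊢; omega)
      have hk : k ≤ 115 := by
        rcases h with h | h
        · omega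
        · have e : c * kY ≤ c * 7 := Nat.mul_le_mul_left _ h2
          by_contra hcon
          push Not at hcon
          have e2 : c * 116 ≤ c * k := Nat.mul_le_mul_left _ hcon
          omega
      have := Nat.pow_le_pow_left hk 2
      norm_num at this ⊢
      omega
    · right; right
      refine ⟨by norm_num, by norm_num, ?_⟩
      have h2 : kY ≤ 11 := hsm _ _ (by norm_num [pr] at hY ⊢; omega)
      have hk : k ≤ 357 := by
        rcases h with h | h
        · omega
        · have e : c * kY ≤ c * 11 := Nat.mul_le_mul_left _ h2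
          by_contra hcon
          push Not at hcon
          have e2 : c * 358 ≤ c * k := Nat.mul_le_mul_left _ hcon
          omega
      have := Nat.pow_le_pow_left hk 2
      norm_num at this ⊢
      omega
  · right; right
    refine ⟨by omega, by omega, ?_⟩
    rw [pr_large h7] at hY
    rcases h with h | h
    · calc 4 * k ^ 2 ≤ 4 * (2 * kY) ^ 2 := Nat.mul_le_mul_left _ (Nat.pow_le_pow_left h 2)
        _ = 16 * kY ^ 2 := by ring
        _ ≤ 16 * 2 ^ m := Nat.mul_le_mul_left _ hY
        _ ≤ 9 ^ m := pow_aux2 (by omega)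
    · obtain ⟨t, ht⟩ : ∃ t, 2 ^ m = 2 * t := ⟨2 ^ (m - 1), by
        rw [← pow_succ']; congr 1; omega⟩
      rw [ht] at h
      have h1 : c * k ≤ t * (c * kY + 1) := by linarith only [h]
      -- `7 k ≤ t (7 kY + 1)`
      have h2 : 7 * k ≤ t * (7 * kY + 1) := by
        by_contra hcon
        push Not at hcon
        have hlt : t * kY < k := by linarith only [hcon]
        obtain ⟨d, hd⟩ := Nat.exists_eq_add_of_lt hlt
        have h3 : c * (d + 1) ≤ t := by
          have : c * k = c * (t * kY) + c * (d + 1) := by rw [hd]; ring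
          linarith only [h, this]
        have h4 : 7 * (d + 1) ≤ c * (d + 1) := Nat.mul_le_mul_right _ (by omega)
        have : 7 * k = t * (7 * kY) + 7 * (d + 1) := by rw [hd]; ring
        linarith only [hcon, hd, h3, h4]
      have h3 : 49 * (4 * k ^ 2) ≤ 49 * 9 ^ m := by
        calc 49 * (4 * k ^ 2) = 4 * (7 * k) ^ 2 := by ring
          _ ≤ 4 * (t * (7 * kY + 1)) ^ 2 := Nat.mul_le_mul_left _ (Nat.pow_le_pow_left h2 2)
          _ = (2 ^ m) ^ 2 * (7 * kY + 1) ^ 2 := by rw [ht]; ring
          _ ≤ (2 ^ m) ^ 2 * (64 * kY ^ 2) := by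
            apply Nat.mul_le_mul_left
            nlinarith only [hk0]
          _ ≤ (2 ^ m) ^ 2 * (64 * 2 ^ m) :=
            Nat.mul_le_mul_left _ (Nat.mul_le_mul_left _ hY)
          _ = 64 * 8 ^ m := by
            have e8 : (8 : ℕ) ^ m = (2 ^ m) ^ 2 * 2 ^ m := by
              rw [show (8 : ℕ) = 2 ^ 3 by norm_num, ← pow_mul, ← pow_mul, ← pow_add]
              congr 1; omega
            rw [e8]; ring
          _ ≤ 49 * 9 ^ m := pow_aux (by omega)
      omega

section Main

variable {G : Type*} [Group G] [Finite G] {α : Type*} [Finite α]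
    [MulAction G α] [FaithfulSMul G α] [IsPretransitive G α]

omit [Finite G] [FaithfulSMul G α] in
theorem card_le_range (r : Setoid α) (hr : Inv G r) (q : Quotient r) :
    Nat.card (Quotient r) ≤ Nat.card (quotHom r hr).range := by
  have := quot_pretransitive r hr
  have h1 : Function.Surjective (fun g : (quotHom r hr).range => g • q) :=
    fun q' => exists_smul_eq _ q q'
  exact Nat.card_le_card_of_surjective _ h1

/-- the bound for a transitive group with blocks of size two and primitive action on the blocks. -/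
theorem blocks_two_bound {p : ℕ} (hp : ¬ p ∣ Nat.card G) (r : Setoid α) (hr : Inv G r)
    (hs : ∀ q : Quotient r, Nat.card (Cls r q) = 2)
    (hprim : IsPreprimitive (quotHom r hr).range (Quotient r)) (hm : 2 ≤ Nat.card (Quotient r))
    (hP : Prim p (Nat.card (Quotient r))) :
    (Nat.card (Quotient r) = 2 ∧ Nat.card (ConjClasses G) ≤ 5) ∨
    (Nat.card (Quotient r) = 4 ∧ Nat.card (ConjClasses G) ≤ 41) ∨
    (Nat.card (Quotient r) ≠ 2 ∧ Nat.card (Quotient r) ≠ 4 ∧
      4 * Nat.card (ConjClasses G) ^ 2 ≤ 9 ^ Nat.card (Quotient r)) := by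
  have : Nontrivial (Quotient r) := (Finite.one_lt_card_iff_nontrivial (α := Quotient r)).1 (by omega)
  obtain ⟨q₀⟩ : Nonempty (Quotient r) := inferInstance
  exact arith_two hm (card_le_range r hr q₀) card_conjClasses_le_card card_conjClasses_pos
    (hP.of_subgroup rfl _ hprim (not_dvd_range hp _)) (blocks_two r hr hs hprim)

omit [Finite G] [Finite α] [FaithfulSMul G α] [IsPretransitive G α] in
/-- with two classes the kernel is transitive on each class. -/
theorem mem_ker_of_two (r : Setoid α) (hr : Inv G r) (hm : Nat.card (Quotient r) = 2)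
    {q : Quotient r} {g : G} {x : α} (hx : Quotient.mk r x = q) (hgx : Quotient.mk r (g • x) = q) :
    g ∈ (quotHom r hr).ker := by
  have hall : ∀ q' q'' : Quotient r, q' ≠ q → q'' ≠ q → q' = q'' := by
    intro q' q'' h' h''
    obtain ⟨z, _, hz⟩ := (Nat.card_eq_two_iff' q).1 hm
    rw [hz q' h', hz q'' h'']
  have h1 : quotHom r hr g q = q := by
    conv_lhs => rw [← hx]
    rw [quotHom_mk', hgx]
  rw [MonoidHom.mem_ker]
  ext q'
  rw [Equiv.Perm.one_apply]
  by_cases hq' : q' = q
  · rw [hq', h1]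
  · refine hall _ _ ?_ hq'
    intro h2
    apply hq'
    apply (quotHom r hr g).injective
    rw [h2, h1]

omit [Finite G] [Finite α] [FaithfulSMul G α] in
theorem fib_pretransitive (r : Setoid α) (hr : Inv G r) (hm : Nat.card (Quotient r) = 2)
    (q : Quotient r) : IsPretransitive (fibHom r hr q).range (Cls r q) := by
  refine ⟨fun x y => ?_⟩
  obtain ⟨g, hg⟩ := exists_smul_eq G x.1 y.1
  have hgK : g ∈ (quotHom r hr).ker :=
    mem_ker_of_two r hr hm x.2 (by rw [hg]; exact y.2)
  refine ⟨⟨fibHom r hr q ⟨g, hgK⟩, ⟨_, rfl⟩⟩, ?_⟩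
  apply Subtype.ext
  exact hg

omit [Finite G] [FaithfulSMul G α] in
/-- extension of a block system from one of two blocks -/
theorem exists_ext (r : Setoid α) (hr : Inv G r) (hm : Nat.card (Quotient r) = 2)
    (q : Quotient r) (r₁ : Setoid (Cls r q)) (hr₁ : _root_.Cfsg.Agent.H540.Blocks.Inv (fibHom r hr q).range r₁)
    (h2 : 2 ≤ Nat.card (Quotient r₁)) (h3 : ∀ q' : Quotient r₁, 3 ≤ Nat.card (Cls r₁ q')) :
    ∃ r' : Setoid α, Inv G r' ∧ 3 ≤ Nat.card (Quotient r') ∧
      ∃ q' : Quotient r', 3 ≤ Nat.card (Cls r' q') := by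
  have hinv : ∀ (g : G) (x y : Cls r q) (hx : Quotient.mk r (g • x.1) = q)
      (hy : Quotient.mk r (g • y.1) = q), r₁ x y → r₁ ⟨g • x.1, hx⟩ ⟨g • y.1, hy⟩ := by
    intro g x y hx hy hxy
    have hgK : g ∈ (quotHom r hr).ker := mem_ker_of_two r hr hm x.2 hx
    have h4 := hr₁ ⟨fibHom r hr q ⟨g, hgK⟩, ⟨_, rfl⟩⟩ x y hxy
    exact h4
  have hpt := fib_pretransitive r hr hm q
  obtain ⟨x, hx⟩ : ∃ x : Cls r q, True := by
    obtain ⟨x, hx⟩ := Quotient.exists_rep q
    exact ⟨⟨x, hx⟩, trivial⟩
  have e1 := card_eq_mul (inv_extRel r hr q r₁ hinv) (Quotient.mk _ x.1)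
  rw [card_cls_extRel r hr q r₁ hinv x] at e1
  have e2 := card_eq_mul hr q
  have e3 := card_eq_mul (G := (fibHom r hr q).range) hr₁ (Quotient.mk r₁ x)
  have h5 := h3 (Quotient.mk r₁ x)
  refine ⟨extRel G r hr q r₁ hinv, inv_extRel r hr q r₁ hinv, ?_, Quotient.mk _ x.1, ?_⟩
  · rw [hm, e3, e1] at e2
    have h6 : Nat.card (Quotient (extRel G r hr q r₁ hinv)) = 2 * Nat.card (Quotient r₁) := by
      have h7 : 0 < Nat.card (Cls r₁ (Quotient.mk r₁ x)) := by omega
      apply Nat.eq_of_mul_eq_mul_right h7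
      rw [e2]; ring
    omega
  · rw [card_cls_extRel r hr q r₁ hinv x]
    exact h5

/-- the transitive imprimitive case -/
theorem imprimitive {p : ℕ} (hp : ¬ p ∣ Nat.card G) (h3 : 3 ≤ Nat.card α)
    (ih : ∀ m, m < Nat.card α → PB p m) (hprim : ∀ m, m < Nat.card α → Prim p m)
    (himp : ¬ IsPreprimitive G α) : Nat.card (ConjClasses G) ^ 2 ≤ 3 ^ (Nat.card α - 1) := by
  classical
  by_contra hcon
  -- no system with at least three blocks of size at least three
  have hA : ∀ r : Setoid α, Inv G r → 3 ≤ Nat.card (Quotient r) →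
      ∀ q : Quotient r, Nat.card (Cls r q) ≤ 2 := by
    intro r hr hm q
    by_contra hc
    exact hcon (large_blocks hp r hr q (by omega) hm ih)
  -- no system with two blocks of size at least three
  have hB : ∀ r : Setoid α, Inv G r → Nat.card (Quotient r) = 2 →
      ∀ q : Quotient r, Nat.card (Cls r q) ≤ 2 := by
    intro r hr hm q
    by_contra hc
    push Not at hc
    have hn := card_eq_mul hr q
    rw [hm] at hn
    apply hcon
    rw [hn]
    have hpt := fib_pretransitive r hr hm q
    have hqα : Nat.card (Cls r q) < Nat.card α := by omega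
    refine two_classes_bound hp r hr hm q (by omega) (ih _ hqα) ?_
    have hpX : ¬ p ∣ Nat.card (fibHom r hr q).range := not_dvd_range (not_dvd_sub hp _) _
    have hsm : ∀ a b : ℕ, a ^ 2 < (b + 1) ^ 2 → a ≤ b := by
      intro a b hab
      by_contra hcon
      push Not at hcon
      have h1 : b + 1 ≤ a := hcon
      have := Nat.pow_le_pow_left h1 2
      omega
    by_cases hXp : IsPreprimitive (fibHom r hr q).range (Cls r q)
    · have h1 := (hprim _ hqα).of_subgroup rfl _ hXp hpX
      have hs3 : 3 ≤ Nat.card (Cls r q) := hc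
      generalize Nat.card (ConjClasses (fibHom r hr q).range) = kX at *
      generalize Nat.card (Cls r q) = s at *
      rcases Nat.lt_or_ge s 7 with h7 | h7
      · interval_cases s
        · right; left
          exact ⟨rfl, hsm _ _ (by norm_num [pr] at h1 ⊢; omega)⟩
        · right; right; left
          exact ⟨rfl, hsm _ _ (by norm_num [pr] at h1 ⊢; omega)⟩
        · left
          norm_num [pr] at h1 ⊢
          omega
        · left
          norm_num [pr] at h1 ⊢
          omega
      · left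
        rw [pr_large h7] at h1
        exact (Nat.mul_le_mul_left _ h1).trans (pow_aux3 (by omega))
    · rcases exists_setoid (G := (fibHom r hr q).range) (α := Cls r q) hXp with h | ⟨r₁, hr₁, hb₁, ht₁⟩
      · -- trivial group
        exfalso
        have hsub : Subsingleton (Cls r q) := by
          refine ⟨fun a b => ?_⟩
          obtain ⟨g, hg⟩ := exists_smul_eq (fibHom r hr q).range a b
          rw [h g, one_smul] at hg
          exact hg
        have := (Finite.card_le_one_iff_subsingleton (α := Cls r q)).2 hsub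
        omega
      · have hne : Nonempty (Cls r q) := by
          obtain ⟨x, hx⟩ := Quotient.exists_rep q
          exact ⟨⟨x, hx⟩⟩
        -- no coarse relation on the block
        have hno : ∀ r₂ : Setoid (Cls r q), _root_.Cfsg.Agent.H540.Blocks.Inv (fibHom r hr q).range r₂ →
            r₂ ≠ ⊤ → ∃ q', Nat.card (Cls r₂ q') ≤ 2 := by
          intro r₂ hr₂ ht₂
          by_contra hcon2
          push Not at hcon2
          obtain ⟨r', hr', h4, q', h5⟩ := exists_ext r hr hm q r₂ hr₂ (two_le_quot ht₂)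
            (fun q' => hcon2 q')
          have := hA r' hr' h4 q'
          omega
        have hcls2 : ∀ q' : Quotient r₁, Nat.card (Cls r₁ q') = 2 := by
          obtain ⟨q'', hq''⟩ := hno r₁ hr₁ ht₁
          intro q'
          have h4 := two_le_cls (G := (fibHom r hr q).range) hr₁ hb₁ q'
          have h5 := card_cls_eq (G := (fibHom r hr q).range) hr₁ q' q''
          omega
        have h2q := two_le_quot ht₁
        obtain ⟨x₀⟩ := hne
        have hprim2 : IsPreprimitive (quotHom r₁ hr₁).range (Quotient r₁) := by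
          by_contra hnp
          obtain ⟨r₂, hr₂, hb₂, ht₂, hc₂⟩ := exists_coarser (G := (fibHom r hr q).range) hr₁ hb₁ h2q hnp
            (Quotient.mk r₁ x₀)
          obtain ⟨q'', hq''⟩ := hno r₂ hr₂ ht₂
          have h4 := hc₂ q''
          rw [hcls2] at h4
          omega
        have hn₁ := card_eq_mul (G := (fibHom r hr q).range) hr₁ (Quotient.mk r₁ x₀)
        rw [hcls2] at hn₁
        have h6 := blocks_two_bound (G := (fibHom r hr q).range) hpX r₁ hr₁ hcls2 hprim2 h2q
          (hprim _ (by omega))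
        rcases h6 with ⟨h7, h8⟩ | ⟨h7, h8⟩ | ⟨h7, h7', h8⟩
        · right; right; left
          exact ⟨by omega, h8⟩
        · right; right; right
          exact ⟨by omega, h8⟩
        · left
          rw [hn₁, mul_comm (Nat.card (Quotient r₁)) 2, pow_mul]
          exact h8
  -- all nontrivial systems have blocks of size two
  have hC : ∀ r : Setoid α, Inv G r → r ≠ ⊥ → r ≠ ⊤ → ∀ q : Quotient r, Nat.card (Cls r q) = 2 := by
    intro r hr hb ht q
    have : Nonempty α := by
      by_contra hne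
      rw [not_nonempty_iff] at hne
      have := Nat.card_eq_zero.2 (Or.inl hne)
      omega
    have h1 := two_le_cls hr hb q
    have h2 := two_le_quot ht
    rcases Nat.lt_or_ge (Nat.card (Quotient r)) 3 with h4 | h4
    · have := hB r hr (by omega) q
      omega
    · have := hA r hr h4 q
      omega
  rcases exists_setoid (G := G) (α := α) himp with h | ⟨r, hr, hb, ht⟩
  · have hsub : Subsingleton α := by
      refine ⟨fun a b => ?_⟩
      obtain ⟨g, hg⟩ := exists_smul_eq G a b
      rw [h g, one_smul] at hg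
      exact hg
    have := (Finite.card_le_one_iff_subsingleton (α := α)).2 hsub
    omega
  · have hne : Nonempty α := by
      by_contra hne
      rw [not_nonempty_iff] at hne
      have := Nat.card_eq_zero.2 (Or.inl hne)
      omega
    obtain ⟨x₀⟩ := hne
    have : Nonempty α := ⟨x₀⟩
    have h2q := two_le_quot ht
    have hcls := hC r hr hb ht
    have hprim2 : IsPreprimitive (quotHom r hr).range (Quotient r) := by
      by_contra hnp
      obtain ⟨r₂, hr₂, hb₂, ht₂, hc₂⟩ := exists_coarser (G := G) hr hb h2q hnp (Quotient.mk r x₀)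
      have h4 := hc₂ (Quotient.mk r₂ x₀)
      rw [hcls, hC r₂ hr₂ hb₂ ht₂] at h4
      omega
    have hn := card_eq_mul hr (Quotient.mk r x₀)
    rw [hcls] at hn
    have h6 := blocks_two_bound hp r hr hcls hprim2 h2q (hprim _ (by omega))
    apply hcon
    have e : (3 : ℕ) ^ (Nat.card α - 1) * 3 = 9 ^ Nat.card (Quotient r) := by
      rw [← pow_succ, show (9 : ℕ) = 3 ^ 2 by norm_num, ← pow_mul]
      congr 1
      omega
    rcases h6 with ⟨h7, h8⟩ | ⟨h7, h8⟩ | ⟨h7, h7', h8⟩
    · rw [h7] at e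
      have e' : 3 ^ (Nat.card α - 1) * 3 = 81 := e.trans (by norm_num)
      have := Nat.pow_le_pow_left h8 2
      omega
    · rw [h7] at e
      have e' : 3 ^ (Nat.card α - 1) * 3 = 6561 := e.trans (by norm_num)
      have := Nat.pow_le_pow_left h8 2
      omega
    · omega

end Main

theorem pr_le_sq {n : ℕ} (h : 3 ≤ n) : pr n ≤ PermRed.sq n := by
  rw [sq_three h]
  rcases Nat.lt_or_ge n 7 with h7 | h7
  · interval_cases n <;> norm_num [pr]
  · rw [pr_large h7]
    have key : ∀ m, 7 ≤ m → 2 ^ m * 3 ≤ 3 ^ m := by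
      intro m hm
      induction m, hm using Nat.le_induction with
      | base => norm_num
      | succ m hm ih => rw [pow_succ, pow_succ]; omega
    have h1 := key n h7
    have h2 : (3 : ℕ) ^ n = 3 ^ (n - 1) * 3 := by
      rw [← pow_succ]; congr 1; omega
    omega

/-- **The induction step.** -/
theorem step {p n : ℕ} (ih : ∀ m, m < n → PB p m) (hprim : ∀ m, m ≤ n → Prim p m) : PB p n := by
  intro S hp
  rcases Nat.lt_or_ge n 3 with hn | hn
  · have h1 : Nat.card (ConjClasses S) ≤ n.factorial := by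
      have h2 := Subgroup.card_le_card_group S
      rw [Nat.card_eq_fintype_card (α := Equiv.Perm (Fin n)), Fintype.card_perm, Fintype.card_fin] at h2
      exact card_conjClasses_le_card.trans h2
    have h3 := Nat.pow_le_pow_left h1 2
    interval_cases n <;> exact h3.trans (by decide)
  · have hcard : Nat.card (Fin n) = n := by rw [Nat.card_eq_fintype_card, Fintype.card_fin]
    by_cases hS : IsPreprimitive S (Fin n)
    · exact (hprim n le_rfl S hS hp).trans (pr_le_sq hn)
    · by_cases hT : IsPretransitive S (Fin n)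
      · have h1 := imprimitive (G := S) (α := Fin n) hp (by rw [hcard]; exact hn)
          (by rw [hcard]; exact ih) (by rw [hcard]; exact fun m hm => hprim m hm.le) hS
        rw [hcard] at h1
        rwa [sq_three hn]
      · have h1 := intransitive (G := S) (α := Fin n) hp ⟨0, by omega⟩ hT (by rw [hcard]; exact ih)
        rwa [hcard] at h1

end Cfsg.Agent.H540.PermStep
end

-- part: H540/LinB
section
/-!
# Class numbers of linear groups over prime fields, and affine groups
-/

set_option autoImplicit false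

namespace Cfsg.Agent.H540.LinB

open Cfsg.Agent.H540.ClassNum Cfsg.Agent.H540.HalfBound Cfsg.Agent.H540.Dual
  Cfsg.Agent.H540.PermRed

/-- all subgroups of `GL_d(q)` of order prime to `p` have at most `κ` classes -/
def KB (p q d κ : ℕ) : Prop :=
  ∀ X : Subgroup (GL (Fin d) (ZMod q)), ¬ p ∣ Nat.card X → Nat.card (ConjClasses X) ≤ κ

theorem KB.of_injective {p q d κ : ℕ} [Fact q.Prime] (h : KB p q d κ) {X : Type*} [Group X]
    {V : Type*} [CommGroup V] (hpow : ∀ x : V, x ^ q = 1) (hc : Nat.card V = q ^ d)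
    (f : X →* MulAut V) (hf : Function.Injective f) (hp : ¬ p ∣ Nat.card X) :
    Nat.card (ConjClasses X) ≤ κ := by
  obtain ⟨e⟩ := Lib.ElemAbGL.mulAut_equiv_GL q d hpow hc
  let g : X →* GL (Fin d) (ZMod q) := e.toMonoidHom.comp f
  have hg : Function.Injective g := e.injective.comp hf
  rw [card_conjClasses_congr (MonoidHom.ofInjective hg)]
  refine h g.range ?_
  rwa [← Nat.card_congr (MonoidHom.ofInjective hg).toEquiv]

section Stab

variable {V : Type*} [CommGroup V] [Finite V] {X : Type*} [Group X]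

/-- the permutation action on characters -/
def dualHom (f : X →* MulAut V) : X →* Equiv.Perm (V →* ℂˣ) where
  toFun x :=
    { toFun := fun lam => lam.comp (f x⁻¹ : V →* V)
      invFun := fun lam => lam.comp (f x : V →* V)
      left_inv := fun lam => by
        ext v
        change (lam (f x⁻¹ (f x v)) : ℂ) = lam v
        rw [← MulAut.mul_apply, ← map_mul, inv_mul_cancel, map_one, MulAut.one_apply]
      right_inv := fun lam => by
        ext v
        change (lam (f x (f x⁻¹ v)) : ℂ) = lam v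
        rw [← MulAut.mul_apply, ← map_mul, mul_inv_cancel, map_one, MulAut.one_apply] }
  map_one' := by
    ext lam v
    change (lam (f (1 : X)⁻¹ v) : ℂ) = lam v
    rw [inv_one, map_one, MulAut.one_apply]
  map_mul' x y := by
    ext lam v
    change (lam (f (x * y)⁻¹ v) : ℂ) = lam (f y⁻¹ (f x⁻¹ v))
    rw [mul_inv_rev, map_mul, MulAut.mul_apply]

omit [Finite V] in
theorem dualHom_apply (f : X →* MulAut V) (x : X) (lam : V →* ℂˣ) (v : V) :
    dualHom f x lam v = lam (f x⁻¹ v) := rfl

/-- the stabilizer of a character -/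
def stab (f : X →* MulAut V) (lam : V →* ℂˣ) : Subgroup X where
  carrier := {x | ∀ v, lam (f x v) = lam v}
  one_mem' := fun v => by rw [map_one]; rfl
  mul_mem' := by
    intro a b ha hb n
    rw [map_mul, MulAut.mul_apply, ha, hb]
  inv_mem' := by
    intro a ha n
    have h1 := ha (f a⁻¹ n)
    rw [← MulAut.mul_apply, ← map_mul, mul_inv_cancel, map_one, MulAut.one_apply] at h1
    exact h1.symm

omit [Finite V] in
theorem mem_stab {f : X →* MulAut V} {lam : V →* ℂˣ} {x : X} :
    x ∈ stab f lam ↔ ∀ v, lam (f x v) = lam v := Iff.rfl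

instance : Finite (V →* ℂˣ) := by
  have h1 : Nat.card (V →* ℂˣ) = Nat.card V := CommGroup.card_monoidHom_of_hasEnoughRootsOfUnity V ℂ
  have h2 : 0 < Nat.card V := Nat.card_pos
  exact (Nat.card_pos_iff.1 (h1 ▸ h2)).2

theorem card_char : Nat.card (V →* ℂˣ) = Nat.card V :=
  CommGroup.card_monoidHom_of_hasEnoughRootsOfUnity V ℂ

/-- the orbit of a nontrivial character has at most `|V| - 1` elements. -/
theorem index_stab_le (f : X →* MulAut V) (lam : V →* ℂˣ) (hlam : lam ≠ 1) :
    (stab f lam).index ≤ Nat.card V - 1 := by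
  classical
  have h1 : Nat.card {mu : V →* ℂˣ // mu ≠ 1} = Nat.card V - 1 := by
    rw [← card_char (V := V)]
    have := Fintype.ofFinite (V →* ℂˣ)
    rw [Nat.card_eq_fintype_card, Nat.card_eq_fintype_card, Fintype.card_subtype_compl,
      Fintype.card_subtype_eq]
  rw [← h1, Subgroup.index_eq_card]
  refine Nat.card_le_card_of_injective (fun c : X ⧸ stab f lam => Quotient.liftOn' c
    (fun x => (⟨dualHom f x lam, ?_⟩ : {mu : V →* ℂˣ // mu ≠ 1})) ?_) ?_
  · intro h
    apply hlam
    ext v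
    have h2 := DFunLike.congr_fun h (f x v)
    rw [dualHom_apply, ← MulAut.mul_apply, ← map_mul, inv_mul_cancel, map_one, MulAut.one_apply] at h2
    rw [h2]; rfl
  · intro x y hxy
    rw [QuotientGroup.leftRel_apply] at hxy
    apply Subtype.ext
    ext v
    change (lam (f x⁻¹ v) : ℂ) = lam (f y⁻¹ v)
    have h2 := hxy (f y⁻¹ v)
    rw [← MulAut.mul_apply, ← map_mul] at h2
    rw [← h2]
    congr 3
    group
  · intro c c'
    refine Quotient.inductionOn₂' c c' fun x y h => ?_
    have h1 : dualHom f x lam = dualHom f y lam := congrArg Subtype.val h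
    apply Quotient.sound'
    rw [QuotientGroup.leftRel_apply]
    intro v
    have h2 := DFunLike.congr_fun h1 (f y v)
    rw [dualHom_apply, dualHom_apply, ← MulAut.mul_apply, ← map_mul, ← MulAut.mul_apply, ← map_mul,
      inv_mul_cancel, map_one, MulAut.one_apply] at h2
    exact h2

omit [Finite V] in
/-- the kernel of a nontrivial character of an elementary abelian group -/
theorem card_ker_char {q d : ℕ} [hq : Fact q.Prime] (hpow : ∀ x : V, x ^ q = 1)
    (hc : Nat.card V = q ^ (d + 1)) (lam : V →* ℂˣ) (hlam : lam ≠ 1) :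
    Nat.card lam.ker = q ^ d := by
  have h1 : lam.ker.index = q := by
    rw [Subgroup.index_ker]
    -- the range is contained in the `q`-th roots of unity
    have h2 : lam.range ≤ rootsOfUnity q ℂ := by
      rintro _ ⟨v, rfl⟩
      rw [mem_rootsOfUnity, ← map_pow, hpow, map_one]
    have : NeZero q := ⟨hq.out.ne_zero⟩
    have h3 : Nat.card lam.range ∣ Nat.card (rootsOfUnity q ℂ) := Subgroup.card_dvd_of_le h2
    rw [Complex.card_rootsOfUnity] at h3
    rcases (Nat.dvd_prime hq.out).1 h3 with h4 | h4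
    · exfalso
      apply hlam
      have h5 := Subgroup.eq_bot_of_card_eq _ h4
      exact MonoidHom.range_eq_bot_iff.1 h5
    · exact h4
  have h2 := Subgroup.card_mul_index lam.ker
  rw [h1, hc, pow_succ] at h2
  exact Nat.eq_of_mul_eq_mul_right hq.out.pos h2

/-- the restriction of automorphisms fixing a character to its kernel. -/
def resKer (f : X →* MulAut V) (lam : V →* ℂˣ) : stab f lam →* MulAut lam.ker where
  toFun x :=
    { toFun := fun v => ⟨f x.1 v.1, by
        rw [MonoidHom.mem_ker, x.2 v.1]; exact v.2⟩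
      invFun := fun v => ⟨f x.1⁻¹ v.1, by
        rw [MonoidHom.mem_ker, (stab f lam).inv_mem x.2 v.1]; exact v.2⟩
      left_inv := fun v => by
        apply Subtype.ext
        change f x.1⁻¹ (f x.1 v.1) = v.1
        rw [← MulAut.mul_apply, ← map_mul, inv_mul_cancel, map_one, MulAut.one_apply]
      right_inv := fun v => by
        apply Subtype.ext
        change f x.1 (f x.1⁻¹ v.1) = v.1
        rw [← MulAut.mul_apply, ← map_mul, mul_inv_cancel, map_one, MulAut.one_apply]
      map_mul' := fun v w => by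
        apply Subtype.ext
        change f x.1 (v.1 * w.1) = _
        rw [map_mul]; rfl }
  map_one' := by
    ext v
    change f 1 v.1 = v.1
    rw [map_one, MulAut.one_apply]
  map_mul' x y := by
    ext v
    change f (x.1 * y.1) v.1 = f x.1 (f y.1 v.1)
    rw [map_mul, MulAut.mul_apply]

theorem card_ker_resKer_le [Finite X] (f : X →* MulAut V) (hf : Function.Injective f)
    (lam : V →* ℂˣ) (hprime : (lam.ker.index).Prime) :
    Nat.card (resKer f lam).ker ≤ Nat.card lam.ker := by
  -- an element outside the kernel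
  obtain ⟨v₀, hv₀⟩ : ∃ v₀, v₀ ∉ lam.ker := by
    by_contra hcon
    push Not at hcon
    have : lam.ker = ⊤ := by rw [eq_top_iff]; exact fun x _ => hcon x
    rw [this, Subgroup.index_top] at hprime
    exact Nat.not_prime_one hprime
  -- the kernel and `v₀` generate
  have hgen : ∀ H : Subgroup V, lam.ker ≤ H → v₀ ∈ H → H = ⊤ := by
    intro H hH hv
    have h1 : H.index ∣ lam.ker.index := Subgroup.index_dvd_of_le hH
    rcases (Nat.dvd_prime hprime).1 h1 with h2 | h2
    · exact Subgroup.index_eq_one.1 h2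
    · exfalso
      apply hv₀
      have h3 : lam.ker = H := by
        apply Subgroup.eq_of_le_of_card_ge hH
        have e1 := Subgroup.card_mul_index lam.ker
        have e2 := Subgroup.card_mul_index H
        rw [h2] at e2
        have e3 : 0 < lam.ker.index := hprime.pos
        exact le_of_eq (Nat.eq_of_mul_eq_mul_right e3 (e2.trans e1.symm))
      rw [h3]; exact hv
  refine Nat.card_le_card_of_injective (fun x => (⟨f x.1.1 v₀ * v₀⁻¹, ?_⟩ : lam.ker)) ?_
  · rw [MonoidHom.mem_ker, map_mul, x.1.2 v₀, map_inv, mul_inv_cancel]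
  · intro x y hxy
    have h1 : f x.1.1 v₀ * v₀⁻¹ = f y.1.1 v₀ * v₀⁻¹ := congrArg Subtype.val hxy
    have h2 : f x.1.1 v₀ = f y.1.1 v₀ := mul_right_cancel h1
    apply Subtype.ext
    apply Subtype.ext
    apply hf
    let H : Subgroup V := MonoidHom.eqLocus (f x.1.1 : V →* V) (f y.1.1 : V →* V)
    have h3 : H = ⊤ := by
      apply hgen
      · intro v hv
        have e1 : resKer f lam x.1 = 1 := x.2
        have e2 : resKer f lam y.1 = 1 := y.2
        have e3 := congrArg Subtype.val (DFunLike.congr_fun e1 (⟨v, hv⟩ : lam.ker))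
        have e4 := congrArg Subtype.val (DFunLike.congr_fun e2 (⟨v, hv⟩ : lam.ker))
        have e3' : f x.1.1 v = v := e3
        have e4' : f y.1.1 v = v := e4
        change f x.1.1 v = f y.1.1 v
        rw [e3', e4']
      · exact h2
    ext v
    have : v ∈ H := by rw [h3]; trivial
    exact this

/-- **Stabilizers of characters.** -/
theorem KB.stab_le {p q d κ : ℕ} [hq : Fact q.Prime] (h : KB p q d κ) [Finite X]
    (hpow : ∀ x : V, x ^ q = 1)
    (hc : Nat.card V = q ^ (d + 1)) (f : X →* MulAut V) (hf : Function.Injective f)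
    (lam : V →* ℂˣ) (hlam : lam ≠ 1) (hp : ¬ p ∣ Nat.card X) :
    Nat.card (ConjClasses (stab f lam)) ≤ q ^ d * κ := by
  have h0 := card_ker_char hpow hc lam hlam
  have hidx : lam.ker.index = q := by
    have h2 := Subgroup.card_mul_index lam.ker
    rw [h0, hc, pow_succ] at h2
    exact Nat.eq_of_mul_eq_mul_left (pow_pos hq.out.pos d) h2
  have h1 := card_ker_resKer_le f hf lam (hidx ▸ hq.out)
  rw [h0] at h1
  have h2 : Nat.card (ConjClasses (resKer f lam).range) ≤ κ := by
    refine h.of_injective (V := lam.ker) (fun x => ?_) h0 (resKer f lam).range.subtype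
      Subtype.coe_injective (not_dvd_range (not_dvd_sub hp _) _)
    apply Subtype.ext
    exact hpow x.1
  exact (le_ker_mul_range (resKer f lam)).trans
    (Nat.mul_le_mul (card_conjClasses_le_card.trans h1) h2)

end Stab

end Cfsg.Agent.H540.LinB
end

-- part: H540/LinC
section
/-!
# Orbits on characters
-/

set_option autoImplicit false

namespace Cfsg.Agent.H540.LinC

open Cfsg.Agent.H540.ClassNum Cfsg.Agent.H540.HalfBound Cfsg.Agent.H540.Dual
  Cfsg.Agent.H540.PermRed Cfsg.Agent.H540.LinB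

variable {V : Type*} [CommGroup V] [Finite V] {X : Type*} [Group X]

/-- irreducibility -/
def Irr (f : X →* MulAut V) : Prop :=
  ∀ W : Subgroup V, (∀ x, ∀ v ∈ W, f x v ∈ W) → W = ⊥ ∨ W = ⊤

omit [Finite V] in
theorem char_pow {q : ℕ} (hpow : ∀ x : V, x ^ q = 1) (lam : V →* ℂˣ) (v : V) :
    lam v ∈ rootsOfUnity q ℂ := by
  rw [mem_rootsOfUnity, ← map_pow, hpow, map_one]

/-- **the orbits of an irreducible group on the nontrivial characters have at least `d + 1`
elements.** -/
theorem succ_le_index {q d : ℕ} [hq : Fact q.Prime] [Finite X] (hpow : ∀ x : V, x ^ q = 1)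
    (hc : Nat.card V = q ^ d) (hd : 2 ≤ d) (f : X →* MulAut V) (hirr : Irr f)
    (lam : V →* ℂˣ) (hlam : lam ≠ 1) : d + 1 ≤ (stab f lam).index := by
  classical
  have : NeZero q := ⟨hq.out.ne_zero⟩
  have := Fintype.ofFinite (X ⧸ stab f lam)
  -- the family of the characters of the orbit
  let mu : (X ⧸ stab f lam) → (V →* ℂˣ) := fun c => Quotient.liftOn' c
    (fun x => dualHom f x lam) (by
      intro x y hxy
      rw [QuotientGroup.leftRel_apply] at hxy
      ext v
      change (lam (f x⁻¹ v) : ℂ) = lam (f y⁻¹ v)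
      have h2 := hxy (f y⁻¹ v)
      rw [← MulAut.mul_apply, ← map_mul] at h2
      rw [← h2]
      congr 3
      group)
  have hmu : ∀ (x : X) (c : X ⧸ stab f lam) (v : V), mu c (f x v) = mu (x⁻¹ • c) v := by
    intro x c v
    refine Quotient.inductionOn' c fun y => ?_
    change lam (f y⁻¹ (f x v)) = lam (f (x⁻¹ * y)⁻¹ v)
    rw [← MulAut.mul_apply, ← map_mul, mul_inv_rev, inv_inv]
  let c₀ : X ⧸ stab f lam := QuotientGroup.mk 1
  have hc₀ : mu c₀ = lam := by
    ext v
    change (lam (f (1 : X)⁻¹ v) : ℂ) = lam v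
    rw [inv_one, map_one, MulAut.one_apply]
  -- the common kernel is trivial
  have hW : ∀ v : V, (∀ c, mu c v = 1) → v = 1 := by
    let W : Subgroup V :=
      { carrier := {v | ∀ c, mu c v = 1}
        one_mem' := fun c => map_one _
        mul_mem' := fun {a b} ha hb c => by rw [map_mul, ha c, hb c, mul_one]
        inv_mem' := fun {a} ha c => by rw [map_inv, ha c, inv_one] }
    have h1 := hirr W (fun x v hv c => by rw [hmu]; exact hv _)
    rcases h1 with h1 | h1
    · intro v hv
      have h2 : v ∈ W := hv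
      rw [h1] at h2
      exact h2
    · exfalso
      apply hlam
      ext v
      have h2 : v ∈ W := by rw [h1]; trivial
      have h3 : mu c₀ v = 1 := h2 c₀
      rw [hc₀] at h3
      rw [h3]; rfl
  -- the product of the orbit is trivial
  have hP : ∀ v : V, ∏ c, mu c v = 1 := by
    let P : V →* ℂˣ :=
      { toFun := fun v => ∏ c, mu c v
        map_one' := by simp
        map_mul' := fun a b => by simp [Finset.prod_mul_distrib] }
    have hPinv : ∀ x v, P (f x v) = P v := by
      intro x v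
      change ∏ c, mu c (f x v) = ∏ c, mu c v
      rw [Finset.prod_congr rfl (fun c _ => hmu x c v)]
      exact Fintype.prod_equiv (MulAction.toPerm x⁻¹) _ _ (fun c => rfl)
    have h1 := hirr P.ker (fun x v hv => by
      rw [MonoidHom.mem_ker, hPinv]; exact hv)
    rcases h1 with h1 | h1
    · exfalso
      have h2 : Function.Injective P := (MonoidHom.ker_eq_bot_iff P).1 h1
      have h3 : Function.Injective (fun v : V => (⟨P v, char_pow hpow P v⟩ : rootsOfUnity q ℂ)) := by
        intro a b hab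
        exact h2 (congrArg Subtype.val hab)
      have : Finite (rootsOfUnity q ℂ) := inferInstance
      have h4 := Nat.card_le_card_of_injective _ h3
      rw [Complex.card_rootsOfUnity, hc] at h4
      have h5 : q ^ 2 ≤ q ^ d := Nat.pow_le_pow_right hq.out.pos hd
      have h6 := hq.out.two_le
      nlinarith only [h4, h5, h6]
    · intro v
      have h2 : v ∈ P.ker := by rw [h1]; trivial
      exact h2
  -- injection
  have hinj : Function.Injective (fun (v : V) (c : {c : X ⧸ stab f lam // c ≠ c₀}) =>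
      (⟨mu c.1 v, char_pow hpow (mu c.1) v⟩ : rootsOfUnity q ℂ)) := by
    intro v w hvw
    have h1 : ∀ c, c ≠ c₀ → mu c (v * w⁻¹) = 1 := by
      intro c hc
      have h2 : mu c v = mu c w := congrArg Subtype.val (congrFun hvw ⟨c, hc⟩)
      rw [map_mul, map_inv, h2, mul_inv_cancel]
    have h3 := hP (v * w⁻¹)
    have h4 : mu c₀ (v * w⁻¹) = 1 := by
      rw [Finset.prod_eq_single c₀ (fun c _ hc => h1 c hc)
        (fun h => absurd (Finset.mem_univ _) h)] at h3
      exact h3
    have h5 : v * w⁻¹ = 1 := hW _ (fun c => by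
      by_cases hc : c = c₀
      · rw [hc, h4]
      · exact h1 c hc)
    exact mul_inv_eq_one.1 h5
  have : Finite (rootsOfUnity q ℂ) := inferInstance
  have h6 := Nat.card_le_card_of_injective _ hinj
  rw [Nat.card_fun, Complex.card_rootsOfUnity, hc] at h6
  have h7 : Nat.card {c : X ⧸ stab f lam // c ≠ c₀} = (stab f lam).index - 1 := by
    rw [Subgroup.index_eq_card, Nat.card_eq_fintype_card, Nat.card_eq_fintype_card,
      Fintype.card_subtype_compl, Fintype.card_subtype_eq]
  rw [h7] at h6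
  have h8 : d ≤ (stab f lam).index - 1 := (Nat.pow_le_pow_iff_right hq.out.one_lt).1 h6
  have h9 : 0 < (stab f lam).index := Nat.pos_of_ne_zero Subgroup.FiniteIndex.index_ne_zero
  omega

/-- the stabilizer of a character acts faithfully on a coset of the kernel. -/
theorem stab_PB {p q d : ℕ} [hq : Fact q.Prime] [Finite X] (hpow : ∀ x : V, x ^ q = 1)
    (hc : Nat.card V = q ^ (d + 1)) (f : X →* MulAut V) (hf : Function.Injective f)
    (lam : V →* ℂˣ) (hlam : lam ≠ 1) (hp : ¬ p ∣ Nat.card X) (hPB : PB p (q ^ d)) :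
    Nat.card (ConjClasses (stab f lam)) ^ 2 ≤ PermRed.sq (q ^ d) := by
  classical
  have h0 := card_ker_char hpow hc lam hlam
  obtain ⟨v₀, hv₀⟩ : ∃ v₀, lam v₀ ≠ 1 := by
    by_contra hcon
    push Not at hcon
    exact hlam (MonoidHom.ext hcon)
  let g : stab f lam →* Equiv.Perm {v : V // lam v = lam v₀} :=
    { toFun := fun x =>
        { toFun := fun v => ⟨f x.1 v.1, by rw [x.2 v.1, v.2]⟩
          invFun := fun v => ⟨f x.1⁻¹ v.1, by rw [(stab f lam).inv_mem x.2 v.1, v.2]⟩
          left_inv := fun v => by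
            apply Subtype.ext
            change f x.1⁻¹ (f x.1 v.1) = v.1
            rw [← MulAut.mul_apply, ← map_mul, inv_mul_cancel, map_one, MulAut.one_apply]
          right_inv := fun v => by
            apply Subtype.ext
            change f x.1 (f x.1⁻¹ v.1) = v.1
            rw [← MulAut.mul_apply, ← map_mul, mul_inv_cancel, map_one, MulAut.one_apply] }
      map_one' := by
        ext v
        change f 1 v.1 = v.1
        rw [map_one, MulAut.one_apply]
      map_mul' := fun x y => by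
        ext v
        change f (x.1 * y.1) v.1 = f x.1 (f y.1 v.1)
        rw [map_mul, MulAut.mul_apply] }
  have hcard : Nat.card {v : V // lam v = lam v₀} = q ^ d := by
    rw [← h0]
    apply Nat.card_congr
    exact
      { toFun := fun v => ⟨v.1 * v₀⁻¹, by
          rw [MonoidHom.mem_ker, map_mul, v.2, map_inv, mul_inv_cancel]⟩
        invFun := fun v => ⟨v.1 * v₀, by
          have : lam v.1 = 1 := v.2
          rw [map_mul, this, one_mul]⟩
        left_inv := fun v => Subtype.ext (inv_mul_cancel_right _ _)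
        right_inv := fun v => Subtype.ext (mul_inv_cancel_right _ _) }
  refine hPB.of_injective hcard g ?_ (not_dvd_sub hp _)
  rw [injective_iff_map_eq_one]
  intro x hx
  have hidx : (lam.ker.index).Prime := by
    have h2 := Subgroup.card_mul_index lam.ker
    rw [h0, hc, pow_succ] at h2
    rw [Nat.eq_of_mul_eq_mul_left (pow_pos hq.out.pos d) h2]
    exact hq.out
  have hv₀' : f x.1 v₀ = v₀ :=
    congrArg (fun σ : Equiv.Perm {v : V // lam v = lam v₀} => (σ ⟨v₀, rfl⟩).1) hx
  have hker : ∀ v ∈ lam.ker, f x.1 v = v := by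
    intro v hv
    have h3 : lam (v * v₀) = lam v₀ := by
      have : lam v = 1 := hv
      rw [map_mul, this, one_mul]
    have h4 : f x.1 (v * v₀) = v * v₀ :=
      congrArg (fun σ : Equiv.Perm {v : V // lam v = lam v₀} => (σ ⟨v * v₀, h3⟩).1) hx
    rw [map_mul, hv₀'] at h4
    exact mul_right_cancel h4
  apply Subtype.ext
  apply hf
  rw [Subgroup.coe_one, map_one]
  let H : Subgroup V := MonoidHom.eqLocus (f x.1 : V →* V) (MonoidHom.id V)
  have hH : H = ⊤ := by
    have h1 : lam.ker ≤ H := fun v hv => hker v hv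
    have h2 : v₀ ∈ H := hv₀'
    have h3 : H.index ∣ lam.ker.index := Subgroup.index_dvd_of_le h1
    rcases (Nat.dvd_prime hidx).1 h3 with h4 | h4
    · exact Subgroup.index_eq_one.1 h4
    · exfalso
      apply hv₀
      have h5 : lam.ker = H := by
        apply Subgroup.eq_of_le_of_card_ge h1
        have e1 := Subgroup.card_mul_index lam.ker
        have e2 := Subgroup.card_mul_index H
        rw [h4] at e2
        exact le_of_eq (Nat.eq_of_mul_eq_mul_right hidx.pos (e2.trans e1.symm))
      have h6 : v₀ ∈ lam.ker := by rw [h5]; exact h2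
      exact h6
  ext v
  have : v ∈ H := by rw [hH]; trivial
  exact this

/-- `X` acts faithfully on the characters. -/
theorem dualHom_injective (f : X →* MulAut V) (hf : Function.Injective f) :
    Function.Injective (dualHom f) := by
  rw [injective_iff_map_eq_one]
  intro x hx
  have h1 : f x⁻¹ = 1 := by
    ext v
    rw [MulAut.one_apply]
    apply (CommGroup.forall_apply_eq_apply_iff V (M := ℂ)).1
    intro lam
    have h2 := DFunLike.congr_fun (congrArg (fun σ : Equiv.Perm (V →* ℂˣ) => σ lam) hx) v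
    exact h2
  have h3 := hf (h1.trans (map_one f).symm)
  rw [inv_eq_one] at h3
  exact h3

end Cfsg.Agent.H540.LinC
end

-- part: H540/Affine
section
/-!
# Class numbers of affine primitive groups
-/

set_option autoImplicit false

namespace Cfsg.Agent.H540.Affine

open MulAction Cfsg.Agent.H540.ClassNum Cfsg.Agent.H540.HalfBound Cfsg.Agent.H540.Dual
  Cfsg.Agent.H540.PermRed Cfsg.Agent.H540.LinB Cfsg.Agent.H540.LinC Cfsg.Agent.H540.PermStep

section Setup

variable {G : Type*} [Group G] {α : Type*} [MulAction G α] [FaithfulSMul G α]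

theorem trans_of_normal (hprim : IsPreprimitive G α) (W : Subgroup G) [W.Normal] (hW : W ≠ ⊥) :
    IsPretransitive W α := by
  apply IsQuasiPreprimitive.isPretransitive_of_normal (G := G)
  intro hfix
  apply hW
  rw [eq_bot_iff]
  intro w hw
  rw [Subgroup.mem_bot]
  apply FaithfulSMul.eq_of_smul_eq_smul (α := α)
  intro x
  have h1 : x ∈ fixedPoints W α := by rw [hfix]; trivial
  rw [one_smul]
  exact h1 ⟨w, hw⟩

omit [FaithfulSMul G α] in
theorem card_le_of_trans [Finite G] (W : Subgroup G) (a : α) (hW : IsPretransitive W α) :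
    Nat.card α ≤ Nat.card W := by
  apply Nat.card_le_card_of_surjective (fun w : W => w • a)
  intro b
  exact exists_smul_eq W a b

/-- the structure of affine primitive groups. -/
theorem setup [Finite G] [Finite α] (hprim : IsPreprimitive G α)
    (N : Subgroup G) [hNn : N.Normal] (hN : N ≠ ⊥) (hab : ∀ a ∈ N, ∀ b ∈ N, a * b = b * a) (a : α) :
    ∃ q d : ℕ, q.Prime ∧ 1 ≤ d ∧ Nat.card α = q ^ d ∧ Nat.card N = q ^ d ∧ (∀ x ∈ N, x ^ q = 1) ∧
      Subgroup.centralizer (N : Set G) ≤ N ∧
      ∀ W : Subgroup G, W.Normal → W ≤ N → W = ⊥ ∨ W = N := by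
  have htN := trans_of_normal hprim N hN
  have hC : Nat.card (Subgroup.centralizer (N : Set G)) ≤ Nat.card α := by
    apply Nat.card_le_card_of_injective (fun c : Subgroup.centralizer (N : Set G) => c.1 • a)
    intro c c' hcc
    have hcc' : c.1 • a = c'.1 • a := hcc
    apply Subtype.ext
    apply FaithfulSMul.eq_of_smul_eq_smul (α := α)
    intro b
    obtain ⟨y, hy⟩ := exists_smul_eq N a b
    have hy' : y.1 • a = b := hy
    have h1 : y.1 * c.1 = c.1 * y.1 := (Subgroup.mem_centralizer_iff.1 c.2) y.1 y.2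
    have h2 : y.1 * c'.1 = c'.1 * y.1 := (Subgroup.mem_centralizer_iff.1 c'.2) y.1 y.2
    rw [← hy', smul_smul, smul_smul, ← h1, ← h2, mul_smul, mul_smul, hcc']
  have hNC : N ≤ Subgroup.centralizer (N : Set G) := by
    intro x hx
    rw [Subgroup.mem_centralizer_iff]
    intro y hy
    exact hab y hy x hx
  have h1 : Nat.card α ≤ Nat.card N := card_le_of_trans N a htN
  have h2 : Nat.card N ≤ Nat.card (Subgroup.centralizer (N : Set G)) := Subgroup.card_le_of_le hNC
  have hcard : Nat.card N = Nat.card α := by omega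
  have hCN : Subgroup.centralizer (N : Set G) ≤ N := by
    have h3 : N = Subgroup.centralizer (N : Set G) := by
      apply Subgroup.eq_of_le_of_card_ge hNC
      omega
    exact le_of_eq h3.symm
  have hmin : ∀ W : Subgroup G, W.Normal → W ≤ N → W = ⊥ ∨ W = N := by
    intro W hWn hWN
    by_cases hW : W = ⊥
    · exact Or.inl hW
    · right
      have h3 := card_le_of_trans W a (trans_of_normal hprim W hW)
      apply Subgroup.eq_of_le_of_card_ge hWN
      omega
  -- a prime divisor
  have hN1 : Nat.card N ≠ 1 := fun h => hN (Subgroup.eq_bot_of_card_eq _ h)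
  obtain ⟨q, hq, hqN⟩ := Nat.exists_prime_and_dvd hN1
  have : Fact q.Prime := ⟨hq⟩
  let W : Subgroup G :=
    { carrier := {x | x ∈ N ∧ x ^ q = 1}
      one_mem' := ⟨one_mem _, one_pow _⟩
      mul_mem' := by
        rintro x y ⟨hx, hx'⟩ ⟨hy, hy'⟩
        refine ⟨mul_mem hx hy, ?_⟩
        rw [Commute.mul_pow (hab x hx y hy), hx', hy', one_mul]
      inv_mem' := by
        rintro x ⟨hx, hx'⟩
        exact ⟨inv_mem hx, by rw [inv_pow, hx', inv_one]⟩ }
  have hWn : W.Normal := by
    refine ⟨fun x hx g => ⟨hNn.conj_mem x hx.1 g, ?_⟩⟩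
    rw [conj_pow, hx.2, mul_one, mul_inv_cancel]
  have hWN : W ≤ N := fun x hx => hx.1
  have hW : W = N := by
    rcases hmin W hWn hWN with h | h
    · exfalso
      obtain ⟨x, hx⟩ := exists_prime_orderOf_dvd_card' q hqN
      have h3 : (x : G) ∈ W := ⟨x.2, by
        rw [← Subgroup.coe_pow, ← hx, pow_orderOf_eq_one]; rfl⟩
      rw [h, Subgroup.mem_bot] at h3
      have h4 : x = 1 := Subtype.ext h3
      rw [h4, orderOf_one] at hx
      exact hq.one_lt.ne hx
    · exact h
  have hpow : ∀ x ∈ N, x ^ q = 1 := by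
    intro x hx
    rw [← hW] at hx
    exact hx.2
  have hpg : IsPGroup q N := by
    intro x
    refine ⟨1, ?_⟩
    rw [pow_one]
    exact Subtype.ext (hpow x x.2)
  obtain ⟨d, hd⟩ := IsPGroup.iff_card.1 hpg
  refine ⟨q, d, hq, ?_, hcard ▸ hd, hd, hpow, hCN, hmin⟩
  by_contra h0
  have h0' : d = 0 := by omega
  rw [h0', pow_zero] at hd
  exact hN1 hd

end Setup

section Bound

variable {G : Type*} [Group G] [Finite G] (N : Subgroup G) [N.Normal]

/-- the action of `G/N` on an abelian normal subgroup `N`. -/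
def act (hab : ∀ a ∈ N, ∀ b ∈ N, a * b = b * a) : G ⧸ N →* MulAut N :=
  QuotientGroup.lift N MulAut.conjNormal (by
    intro g hg
    ext n
    rw [MulAut.one_apply, MulAut.conjNormal_apply, hab g hg n n.2, mul_inv_cancel_right])

omit [Finite G] in
theorem act_mk (hab : ∀ a ∈ N, ∀ b ∈ N, a * b = b * a) (g : G) :
    act N hab (QuotientGroup.mk g) = MulAut.conjNormal g := rfl

omit [Finite G] in
theorem act_injective (hab : ∀ a ∈ N, ∀ b ∈ N, a * b = b * a)
    (hC : Subgroup.centralizer (N : Set G) ≤ N) : Function.Injective (act N hab) := by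
  rw [injective_iff_map_eq_one]
  intro q
  obtain ⟨g, rfl⟩ := QuotientGroup.mk_surjective q
  intro hg
  rw [act_mk] at hg
  rw [QuotientGroup.eq_one_iff]
  apply hC
  rw [Subgroup.mem_centralizer_iff]
  intro n hn
  have h1 := congrArg Subtype.val (DFunLike.congr_fun hg (⟨n, hn⟩ : N))
  rw [MulAut.conjNormal_apply, MulAut.one_apply] at h1
  have h2 : g * n * g⁻¹ = n := h1
  calc n * g = (g * n * g⁻¹) * g := by rw [h2]
    _ = g * n := by group

/-- `N` as a commutative group -/
abbrev comm (hab : ∀ a ∈ N, ∀ b ∈ N, a * b = b * a) : CommGroup N :=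
  { (inferInstance : Group N) with mul_comm := fun a b => Subtype.ext (hab a a.2 b b.2) }

omit [Finite G] in
theorem mem_Qs_iff (hab : ∀ a ∈ N, ∀ b ∈ N, a * b = b * a) (lam : N →* ℂˣ) (q : G ⧸ N) :
    q ∈ Qs N lam ↔ ∀ n : N, lam (act N hab q n) = lam n := by
  obtain ⟨g, rfl⟩ := QuotientGroup.mk_surjective q
  rw [mk_mem_Qs hab, mem_St]
  rfl

omit [Finite G] in
theorem irr_act (hab : ∀ a ∈ N, ∀ b ∈ N, a * b = b * a)
    (hmin : ∀ W : Subgroup G, W.Normal → W ≤ N → W = ⊥ ∨ W = N) :
    letI := comm N hab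
    Irr (act N hab) := by
  intro W hW
  have hn : (W.map N.subtype).Normal := by
    refine ⟨?_⟩
    rintro _ ⟨w, hw, rfl⟩ g
    refine ⟨MulAut.conjNormal g w, ?_, ?_⟩
    · exact hW (QuotientGroup.mk g) w hw
    · rw [Subgroup.coe_subtype, MulAut.conjNormal_apply]
  have hle : W.map N.subtype ≤ N := by
    rintro _ ⟨w, _, rfl⟩
    exact w.2
  rcases hmin _ hn hle with h | h
  · left
    rw [eq_bot_iff]
    intro w hw
    have h1 : (w : G) ∈ W.map N.subtype := ⟨w, hw, rfl⟩
    rw [h, Subgroup.mem_bot] at h1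
    exact Subtype.ext h1
  · right
    rw [eq_top_iff]
    intro w _
    have h1 : (w : G) ∈ W.map N.subtype := by rw [h]; exact w.2
    obtain ⟨w', hw', hww⟩ := h1
    have h2 : w' = w := Subtype.ext hww
    rwa [← h2]

/-- **The affine bound.** -/
theorem affine_le (hab : ∀ a ∈ N, ∀ b ∈ N, a * b = b * a) (s K K' : ℕ)
    (hK : Nat.card (ConjClasses (G ⧸ N)) ≤ K)
    (hK' : ∀ lam : N →* ℂˣ, lam ≠ 1 → Nat.card (ConjClasses (Qs N lam)) ≤ K')
    (hs : ∀ lam : N →* ℂˣ, lam ≠ 1 → s ≤ (Qs N lam).index) :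
    s * Nat.card (ConjClasses G) ≤ s * K + (Nat.card N - 1) * K' := by
  classical
  have hfin := finite_dual N hab
  have := Fintype.ofFinite (N →* ℂˣ)
  have h1 := dual_bound N hab
  have hpos : 0 < Nat.card (G ⧸ N) := Nat.card_pos
  refine Nat.le_of_mul_le_mul_right ?_ hpos
  have h2 : ∀ lam : N →* ℂˣ, s * (Nat.card (ConjClasses (Qs N lam)) * Nat.card (Qs N lam)) ≤
      (if lam = 1 then s * K else K') * Nat.card (G ⧸ N) := by
    intro lam
    split_ifs with h
    · subst h
      rw [Qs_one, card_conjClasses_congr (Subgroup.topEquiv (G := G ⧸ N)),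
        Nat.card_congr (Subgroup.topEquiv (G := G ⧸ N)).toEquiv, ← mul_assoc]
      exact Nat.mul_le_mul_right _ (Nat.mul_le_mul_left _ hK)
    · calc s * (Nat.card (ConjClasses (Qs N lam)) * Nat.card (Qs N lam))
          = Nat.card (ConjClasses (Qs N lam)) * (s * Nat.card (Qs N lam)) := by ring
        _ ≤ K' * ((Qs N lam).index * Nat.card (Qs N lam)) :=
            Nat.mul_le_mul (hK' lam h) (Nat.mul_le_mul_right _ (hs lam h))
        _ = _ := by rw [Subgroup.index_mul_card]
  calc s * Nat.card (ConjClasses G) * Nat.card (G ⧸ N)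
      = s * (Nat.card (ConjClasses G) * Nat.card (G ⧸ N)) := by ring
    _ ≤ s * ∑ lam : N →* ℂˣ, Nat.card (ConjClasses (Qs N lam)) * Nat.card (Qs N lam) :=
        Nat.mul_le_mul_left _ h1
    _ = ∑ lam : N →* ℂˣ, s * (Nat.card (ConjClasses (Qs N lam)) * Nat.card (Qs N lam)) :=
        Finset.mul_sum _ _ _
    _ ≤ ∑ lam : N →* ℂˣ, (if lam = 1 then s * K else K') * Nat.card (G ⧸ N) :=
        Finset.sum_le_sum fun lam _ => h2 lam
    _ = (∑ lam : N →* ℂˣ, (if lam = 1 then s * K else K')) * Nat.card (G ⧸ N) :=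
        (Finset.sum_mul _ _ _).symm
    _ = (s * K + (Nat.card N - 1) * K') * Nat.card (G ⧸ N) := by
        congr 1
        rw [Finset.sum_ite, Finset.sum_const, Finset.sum_const, smul_eq_mul, smul_eq_mul]
        have e1 : (Finset.univ.filter (fun lam : N →* ℂˣ => lam = 1)).card = 1 := by
          rw [Finset.card_eq_one]
          exact ⟨1, by ext; simp⟩
        have e2 : (Finset.univ.filter (fun lam : N →* ℂˣ => ¬ lam = 1)).card = Nat.card N - 1 := by
          have e3 := Finset.card_filter_add_card_filter_not (s := (Finset.univ : Finset (N →* ℂˣ)))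
            (fun lam : N →* ℂˣ => lam = 1)
          rw [e1, Finset.card_univ, ← Nat.card_eq_fintype_card, card_dual N hab] at e3
          omega
        rw [e1, e2, one_mul]

end Bound

end Cfsg.Agent.H540.Affine
end

-- part: H540/AffSmall
section
/-!
# Class numbers of small linear groups
-/

set_option autoImplicit false

namespace Cfsg.Agent.H540.AffSmall

open MulAction Cfsg.Agent.H540.ClassNum Cfsg.Agent.H540.HalfBound Cfsg.Agent.H540.Dual
  Cfsg.Agent.H540.PermRed Cfsg.Agent.H540.LinB Cfsg.Agent.H540.LinC Cfsg.Agent.H540.PermStep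
  Cfsg.Agent.H540.Affine Cfsg.Agent.H540.Blocks

/-- primitive groups of prime degree with an abelian normal subgroup -/
theorem prime_degree {G : Type*} [Group G] [Finite G] {α : Type*} [Finite α] [MulAction G α]
    [FaithfulSMul G α] (hprim : IsPreprimitive G α) (N : Subgroup G) [hNn : N.Normal] (hN : N ≠ ⊥)
    (hab : ∀ a ∈ N, ∀ b ∈ N, a * b = b * a) (hα : (Nat.card α).Prime) :
    Nat.card (ConjClasses G) ≤ Nat.card α := by
  classical
  have hne : Nonempty α := (Nat.card_pos_iff.1 hα.pos).1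
  obtain ⟨a⟩ := hne
  obtain ⟨q, d, hq, hd, hn, hNq, hpow, hC, hmin⟩ := setup hprim N hN hab a
  have hd1 : d = 1 := by
    by_contra hne
    have h2 : 2 ≤ d := by omega
    rw [hn] at hα
    exact Nat.Prime.not_prime_pow h2 hα
  subst hd1
  rw [pow_one] at hn hNq
  have : Fact q.Prime := ⟨hq⟩
  have hpg : IsPGroup q N := IsPGroup.of_card (n := 1) (by rw [pow_one]; exact hNq)
  have h1 := half_bound N q hpg hab hC
  rw [hNq] at h1
  have h2 := Nat.le_of_mul_le_mul_left h1 hq.pos
  -- the quotient has order at most `q - 1`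
  have h3 : Nat.card (G ⧸ N) ≤ q - 1 := by
    have hcyc : IsCyclic N := isCyclic_of_prime_card hNq
    obtain ⟨g, hg⟩ := hcyc.exists_generator
    have hg1 : g ≠ 1 := by
      rintro rfl
      have h4 : Nat.card N = 1 := by
        rw [Nat.card_eq_one_iff_unique]
        refine ⟨⟨fun x y => ?_⟩, ⟨1⟩⟩
        have hx := hg x
        have hy := hg y
        rw [Subgroup.zpowers_one_eq_bot, Subgroup.mem_bot] at hx hy
        rw [hx, hy]
      rw [hNq] at h4
      exact hq.one_lt.ne' h4
    have h4 : Nat.card {x : N // x ≠ 1} = q - 1 := by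
      have := Fintype.ofFinite N
      rw [Nat.card_eq_fintype_card, Fintype.card_subtype_compl, Fintype.card_subtype_eq,
        ← Nat.card_eq_fintype_card, hNq]
    rw [← h4]
    refine Nat.card_le_card_of_injective (fun x => (⟨act N hab x g, ?_⟩ : {x : N // x ≠ 1})) ?_
    · intro h5
      apply hg1
      exact (MulEquiv.map_eq_one_iff _).1 h5
    · intro x y hxy
      apply act_injective N hab hC
      have h5 : act N hab x g = act N hab y g := congrArg Subtype.val hxy
      ext v
      obtain ⟨k, hk⟩ := Subgroup.mem_zpowers_iff.1 (hg v)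
      rw [← hk, map_zpow, map_zpow, h5]
  have h5 : Nat.card (ConjClasses (G ⧸ N)) ≤ Nat.card (G ⧸ N) := card_conjClasses_le_card
  have h6 : 0 < Nat.card (G ⧸ N) := Nat.card_pos
  rw [hn]
  generalize Nat.card (G ⧸ N) = e at *
  generalize Nat.card (ConjClasses (G ⧸ N)) = kQ at *
  generalize Nat.card (ConjClasses G) = k at *
  -- `e k ≤ e kQ + (q - 1) ≤ e² + q - 1 ≤ e q`
  apply Nat.le_of_mul_le_mul_left _ h6
  refine h2.trans ?_
  obtain ⟨t, ht⟩ := Nat.exists_eq_add_of_le h3
  obtain ⟨u, hu⟩ := Nat.exists_eq_add_of_le h6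
  have hq1 : q = e + t + 1 := by omega
  have h7 : e * kQ ≤ e * e := Nat.mul_le_mul_left _ h5
  rw [hq1]
  have h8 : e * (e + t + 1) = e * e + e * t + e := by ring
  rw [h8, Nat.add_sub_cancel]
  have h9 : t ≤ e * t := Nat.le_mul_of_pos_left _ h6
  omega

/-- action on the nontrivial elements -/
def permNe {V : Type*} [Group V] {X : Type*} [Group X] (f : X →* MulAut V) :
    X →* Equiv.Perm {v : V // v ≠ 1} where
  toFun x :=
    { toFun := fun v => ⟨f x v.1, fun h => v.2 ((MulEquiv.map_eq_one_iff _).1 h)⟩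
      invFun := fun v => ⟨f x⁻¹ v.1, fun h => v.2 ((MulEquiv.map_eq_one_iff _).1 h)⟩
      left_inv := fun v => by
        apply Subtype.ext
        change f x⁻¹ (f x v.1) = v.1
        rw [← MulAut.mul_apply, ← map_mul, inv_mul_cancel, map_one, MulAut.one_apply]
      right_inv := fun v => by
        apply Subtype.ext
        change f x (f x⁻¹ v.1) = v.1
        rw [← MulAut.mul_apply, ← map_mul, mul_inv_cancel, map_one, MulAut.one_apply] }
  map_one' := by
    ext v
    change f 1 v.1 = v.1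
    rw [map_one, MulAut.one_apply]
  map_mul' x y := by
    ext v
    change f (x * y) v.1 = f x (f y v.1)
    rw [map_mul, MulAut.mul_apply]

theorem permNe_injective {V : Type*} [Group V] {X : Type*} [Group X] (f : X →* MulAut V)
    (hf : Function.Injective f) : Function.Injective (permNe f) := by
  rw [injective_iff_map_eq_one]
  intro x hx
  apply hf
  rw [map_one]
  ext v
  rw [MulAut.one_apply]
  by_cases hv : v = 1
  · rw [hv, map_one]
  · exact congrArg (fun σ : Equiv.Perm {v : V // v ≠ 1} => (σ ⟨v, hv⟩).1) hx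

theorem card_ne {V : Type*} [Group V] [Finite V] : Nat.card {v : V // v ≠ 1} = Nat.card V - 1 := by
  classical
  have := Fintype.ofFinite V
  rw [Nat.card_eq_fintype_card, Fintype.card_subtype_compl, Fintype.card_subtype_eq,
    ← Nat.card_eq_fintype_card]

/-- `GL(4,2) ≅ A₈`. -/
theorem KB_four {p : ℕ} (h : PB p 8) : KB p 2 4 46 := by
  intro X hX
  obtain ⟨e⟩ := H168.gl_equiv (F := ZMod 2) (ZMod.card 2)
  let g : X →* Equiv.Perm (Fin 8) := (alternatingGroup (Fin 8)).subtype.comp
    (e.toMonoidHom.comp X.subtype)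
  have hg : Function.Injective g :=
    Subtype.coe_injective.comp (e.injective.comp Subtype.coe_injective)
  have h1 := h.of_injective (α := Fin 8) (by rw [Nat.card_eq_fintype_card, Fintype.card_fin]) g hg hX
  by_contra hcon
  push Not at hcon
  have h2 : 47 ^ 2 ≤ Nat.card (ConjClasses X) ^ 2 := Nat.pow_le_pow_left hcon 2
  have h3 : PermRed.sq 8 = 2187 := by decide
  rw [h3] at h1
  omega

/-- the relation `w = v^{±1}` on the nontrivial elements -/
def pmRel (V : Type*) [CommGroup V] : Setoid {v : V // v ≠ 1} where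
  r v w := w.1 = v.1 ∨ w.1 = v.1⁻¹
  iseqv := by
    refine ⟨fun v => Or.inl rfl, ?_, ?_⟩
    · rintro v w (h | h)
      · exact Or.inl h.symm
      · right; rw [h, inv_inv]
    · rintro u v w (h | h) (h' | h')
      · left; rw [h', h]
      · right; rw [h', h]
      · right; rw [h', h]
      · left; rw [h', h, inv_inv]

/-- subgroups of `GL(2,3)` -/
theorem GL_two_three {p : ℕ} {V : Type*} [CommGroup V] [Finite V] {X : Type*} [Group X] [Finite X]
    (hpow : ∀ x : V, x ^ 3 = 1) (hc : Nat.card V = 9) (f : X →* MulAut V)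
    (hf : Function.Injective f) (hp : ¬ p ∣ Nat.card X) (hPB : PB p 4) :
    Nat.card (ConjClasses X) ≤ 10 := by
  classical
  let _ : MulAction X {v : V // v ≠ 1} := MulAction.compHom _ (permNe f)
  have hsmul : ∀ (x : X) (v : {v : V // v ≠ 1}), (x • v).1 = f x v.1 := fun x v => rfl
  have hinv : Inv X (pmRel V) := by
    rintro x v w (h | h)
    · left; rw [hsmul, hsmul, h]
    · right; rw [hsmul, hsmul, h, map_inv]
  have hsq : ∀ v : V, v ≠ 1 → v⁻¹ ≠ v := by
    intro v hv h
    apply hv
    have h1 : v * v = 1 := by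
      calc v * v = v * v⁻¹ := by rw [h]
        _ = 1 := mul_inv_cancel v
    have h2 := hpow v
    rw [pow_succ, pow_two, h1, one_mul] at h2
    exact h2
  -- the classes have two elements
  have hcls : ∀ q : Quotient (pmRel V), Nat.card (Cls (pmRel V) q) = 2 := by
    intro q
    obtain ⟨v, rfl⟩ := Quotient.exists_rep q
    have hv' : v.1⁻¹ ≠ 1 := fun h => v.2 (inv_eq_one.1 h)
    rw [Nat.card_eq_two_iff]
    refine ⟨⟨v, rfl⟩, ⟨⟨v.1⁻¹, hv'⟩, Quotient.sound (Or.inr (inv_inv _).symm)⟩, ?_, ?_⟩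
    · intro h
      have h1 := congrArg (fun z : Cls (pmRel V) (Quotient.mk (pmRel V) v) => z.1.1) h
      exact hsq v.1 v.2 h1.symm
    · rw [Set.eq_univ_iff_forall]
      rintro ⟨w, hw⟩
      rcases Quotient.exact hw with h | h
      · left
        exact Subtype.ext (Subtype.ext h.symm)
      · right
        apply Subtype.ext
        apply Subtype.ext
        change w.1 = v.1⁻¹
        rw [h, inv_inv]
  have h4 : Nat.card (Quotient (pmRel V)) = 4 := by
    have := Fintype.ofFinite (Quotient (pmRel V))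
    have h1 : Nat.card {v : V // v ≠ 1} = ∑ q : Quotient (pmRel V), Nat.card (Cls (pmRel V) q) := by
      rw [← Nat.card_sigma]
      exact Nat.card_congr (Equiv.sigmaFiberEquiv (Quotient.mk (pmRel V))).symm
    rw [card_ne, hc, Finset.sum_congr rfl (fun q _ => hcls q), Finset.sum_const, Finset.card_univ,
      ← Nat.card_eq_fintype_card, smul_eq_mul] at h1
    omega
  have hr : Nat.card (ConjClasses (H539.BlockRed.quotHom (pmRel V) hinv).range) ≤ 5 := by
    have h1 := hPB.range h4 (H539.BlockRed.quotHom (pmRel V) hinv) hp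
    by_contra hcon
    push Not at hcon
    have h2 : 6 ^ 2 ≤ Nat.card (ConjClasses (H539.BlockRed.quotHom (pmRel V) hinv).range) ^ 2 :=
      Nat.pow_le_pow_left hcon 2
    have h3 : PermRed.sq 4 = 27 := by decide
    rw [h3] at h1
    omega
  have hk : Nat.card (H539.BlockRed.quotHom (pmRel V) hinv).ker ≤ 2 := by
    -- a nontrivial element
    obtain ⟨v₀⟩ : Nonempty {v : V // v ≠ 1} := by
      apply (Nat.card_pos_iff.1 _).1
      rw [card_ne, hc]; norm_num
    have hker : ∀ x ∈ (H539.BlockRed.quotHom (pmRel V) hinv).ker, ∀ v : V, v ≠ 1 →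
        f x v = v ∨ f x v = v⁻¹ := by
      intro x hx v hv
      have h1 : H539.BlockRed.quotHom (pmRel V) hinv x = 1 := hx
      have h2 : Quotient.mk (pmRel V) (x • (⟨v, hv⟩ : {v : V // v ≠ 1})) = Quotient.mk (pmRel V) ⟨v, hv⟩ := by
        change H539.BlockRed.quotHom (pmRel V) hinv x (Quotient.mk (pmRel V) ⟨v, hv⟩) = _
        rw [h1]; rfl
      rcases Quotient.exact h2 with h | h
      · left; exact h.symm
      · right
        have h' : v = (f x v)⁻¹ := h
        rw [← inv_eq_iff_eq_inv] at h'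
        exact h'.symm
    rw [← hcls (Quotient.mk (pmRel V) v₀)]
    refine Nat.card_le_card_of_injective (fun x => (⟨x.1 • v₀, ?_⟩ :
      Cls (pmRel V) (Quotient.mk (pmRel V) v₀))) ?_
    · have h1 : H539.BlockRed.quotHom (pmRel V) hinv x.1 = 1 := x.2
      change H539.BlockRed.quotHom (pmRel V) hinv x.1 (Quotient.mk (pmRel V) v₀) = _
      rw [h1]; rfl
    · intro x y hxy
      have h1 : x.1 • v₀ = y.1 • v₀ := congrArg Subtype.val hxy
      have h2 : (y.1⁻¹ * x.1) • v₀ = v₀ := by rw [mul_smul, h1, inv_smul_smul]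
      have hz : y.1⁻¹ * x.1 ∈ (H539.BlockRed.quotHom (pmRel V) hinv).ker :=
        mul_mem (inv_mem y.2) x.2
      have h3 : f (y.1⁻¹ * x.1) v₀.1 = v₀.1 := congrArg Subtype.val h2
      have h4 : y.1⁻¹ * x.1 = 1 := by
        apply hf
        rw [map_one]
        ext w
        rw [MulAut.one_apply]
        generalize y.1⁻¹ * x.1 = z at *
        by_cases hw : w = 1
        · rw [hw, map_one]
        · by_cases hw2 : w * v₀.1 = 1
          · rw [mul_eq_one_iff_eq_inv] at hw2
            rw [hw2, map_inv, h3]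
          · rcases hker z hz w hw with h5 | h5
            · exact h5
            · rcases hker z hz (w * v₀.1) hw2 with h6 | h6
              · rw [map_mul, h3, h5] at h6
                have h7 : w⁻¹ = w := mul_right_cancel h6
                exact absurd h7 (hsq w hw)
              · rw [map_mul, h3, h5, mul_inv] at h6
                have h7 : v₀.1 = v₀.1⁻¹ := mul_left_cancel h6
                exact absurd h7.symm (hsq v₀.1 v₀.2)
      apply Subtype.ext
      have h5 := congrArg (fun z => y.1 * z) h4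
      simpa only [_root_.ne_eq, _root_.SetLike.coe_eq_coe, _root_.mul_inv_cancel_left, _root_.mul_one] using h5
  calc Nat.card (ConjClasses X) ≤ _ := le_ker_mul_range (H539.BlockRed.quotHom (pmRel V) hinv)
    _ ≤ 2 * 5 := Nat.mul_le_mul ((card_conjClasses_le_card).trans hk) hr

end Cfsg.Agent.H540.AffSmall
end

-- part: H540/AffEight
section
/-!
# Class numbers of irreducible subgroups of `GL(3,2)`
-/

set_option autoImplicit false

namespace Cfsg.Agent.H540.AffEight

open MulAction Cfsg.Agent.H540.ClassNum Cfsg.Agent.H540.HalfBound Cfsg.Agent.H540.Dual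
  Cfsg.Agent.H540.PermRed Cfsg.Agent.H540.LinB Cfsg.Agent.H540.LinC Cfsg.Agent.H540.PermStep
  Cfsg.Agent.H540.Affine Cfsg.Agent.H540.Blocks Cfsg.Agent.H540.AffSmall

theorem card_GL_three_two : Nat.card (GL (Fin 3) (ZMod 2)) = 168 := by
  rw [Matrix.card_GL_field, ZMod.card]
  decide

/-- the action on the group of characters -/
def dualAut {V : Type*} [CommGroup V] {X : Type*} [Group X] (f : X →* MulAut V) :
    X →* MulAut (V →* ℂˣ) where
  toFun x :=
    { toFun := fun lam => dualHom f x lam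
      invFun := fun lam => dualHom f x⁻¹ lam
      left_inv := fun lam => by
        change dualHom f x⁻¹ (dualHom f x lam) = lam
        rw [← Equiv.Perm.mul_apply, ← map_mul, inv_mul_cancel, map_one, Equiv.Perm.one_apply]
      right_inv := fun lam => by
        change dualHom f x (dualHom f x⁻¹ lam) = lam
        rw [← Equiv.Perm.mul_apply, ← map_mul, mul_inv_cancel, map_one, Equiv.Perm.one_apply]
      map_mul' := fun lam mu => rfl }
  map_one' := by
    apply MulEquiv.ext
    intro lam
    change dualHom f 1 lam = lam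
    rw [map_one, Equiv.Perm.one_apply]
  map_mul' x y := by
    apply MulEquiv.ext
    intro lam
    change dualHom f (x * y) lam = dualHom f x (dualHom f y lam)
    rw [map_mul, Equiv.Perm.mul_apply]

theorem dualAut_apply {V : Type*} [CommGroup V] {X : Type*} [Group X] (f : X →* MulAut V)
    (x : X) (lam : V →* ℂˣ) : dualAut f x lam = dualHom f x lam := rfl

theorem dualAut_injective {V : Type*} [CommGroup V] [Finite V] {X : Type*} [Group X]
    (f : X →* MulAut V) (hf : Function.Injective f) : Function.Injective (dualAut f) := by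
  intro x y hxy
  apply dualHom_injective f hf
  ext lam v
  have h1 := DFunLike.congr_fun hxy lam
  rw [dualAut_apply, dualAut_apply] at h1
  rw [h1]

/-- irreducible subgroups of `GL(3,2)` -/
theorem GL_three_two {V : Type*} [CommGroup V] [Finite V] {X : Type*} [Group X] [Finite X]
    (hpow : ∀ x : V, x ^ 2 = 1) (hc : Nat.card V = 8) (f : X →* MulAut V)
    (hf : Function.Injective f) (hirr : Irr f) :
    Nat.card (ConjClasses X) ≤ 8 := by
  classical
  have : Fact (Nat.Prime 2) := ⟨Nat.prime_two⟩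
  have : Fact (Nat.Prime 7) := ⟨by norm_num⟩
  have hc3 : Nat.card V = 2 ^ 3 := by rw [hc]; norm_num
  obtain ⟨e⟩ := Lib.ElemAbGL.mulAut_equiv_GL (V := V) 2 3 hpow hc3
  let g : X →* GL (Fin 3) (ZMod 2) := e.toMonoidHom.comp f
  have hg : Function.Injective g := e.injective.comp hf
  have h168 : Nat.card X ∣ 168 := by
    rw [← card_GL_three_two]
    exact Subgroup.card_dvd_of_injective g hg
  -- the action on the nontrivial characters
  let C := {lam : V →* ℂˣ // lam ≠ 1}
  have hC7 : Nat.card C = 7 := by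
    exact (card_ne (V := V →* ℂˣ)).trans (by rw [card_char, hc])
  let _ : MulAction X C := MulAction.compHom _ (permNe (V := V →* ℂˣ) (dualAut f))
  have hsm : ∀ (x : X) (lam : C), x • lam = permNe (V := V →* ℂˣ) (dualAut f) x lam := fun _ _ => rfl
  have hfaith : FaithfulSMul X C := by
    refine ⟨fun {x y} h => ?_⟩
    apply permNe_injective (V := V →* ℂˣ) (dualAut f) (dualAut_injective f hf)
    ext lam v
    rw [← hsm, ← hsm, h lam]
  have hstab : ∀ lam : C, stabilizer X lam = stab f lam.1 := by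
    intro lam
    ext x
    rw [mem_stabilizer_iff, mem_stab]
    constructor
    · intro h v
      have h1 : dualHom f x lam.1 = lam.1 := congrArg Subtype.val h
      have h2 := DFunLike.congr_fun h1 (f x v)
      rw [dualHom_apply, ← MulAut.mul_apply, ← map_mul, inv_mul_cancel, map_one, MulAut.one_apply] at h2
      exact h2.symm
    · intro h
      apply Subtype.ext
      change dualHom f x lam.1 = lam.1
      ext v
      have h2 := h (f x⁻¹ v)
      rw [← MulAut.mul_apply, ← map_mul, mul_inv_cancel, map_one, MulAut.one_apply] at h2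
      change (lam.1 (f x⁻¹ v) : ℂ) = lam.1 v
      rw [h2]
  have horb : ∀ lam : C, 4 ≤ Nat.card (orbit X lam) := by
    intro lam
    have h1 := succ_le_index (d := 3) hpow hc3 (by norm_num) f hirr lam.1 lam.2
    rw [← hstab lam, Subgroup.index_eq_card] at h1
    rwa [← Nat.card_congr (orbitEquivQuotientStabilizer X lam)] at h1
  have htr : IsPretransitive X C := by
    refine ⟨fun lam mu => ?_⟩
    by_contra hcon
    push Not at hcon
    have hdisj : Disjoint (orbit X lam) (orbit X mu) := by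
      rw [Set.disjoint_left]
      rintro z ⟨x, hx⟩ ⟨y, hy⟩
      apply hcon (y⁻¹ * x)
      have hx' : x • lam = z := hx
      have hy' : y • mu = z := hy
      rw [mul_smul, hx', ← hy', inv_smul_smul]
    have h1 := Set.ncard_union_eq hdisj (Set.toFinite _) (Set.toFinite _)
    have h2 : (orbit X lam ∪ orbit X mu).ncard ≤ 7 := by
      rw [← hC7]
      exact Set.ncard_le_card _
    rw [← Nat.card_coe_set_eq (orbit X lam), ← Nat.card_coe_set_eq (orbit X mu)] at h1
    have := horb lam
    have := horb mu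
    omega
  have hprime : (Nat.card C).Prime := by rw [hC7]; norm_num
  have hprim : IsPreprimitive X C := IsPreprimitive.of_prime_card hprime
  have h7 : 7 ∣ Nat.card X := by
    have hne : Nonempty C := (Nat.card_pos_iff.1 (by rw [hC7]; norm_num)).1
    obtain ⟨lam⟩ := hne
    rw [← hC7]
    have h1 := Subgroup.card_mul_index (stabilizer X lam)
    rw [index_stabilizer_of_transitive] at h1
    exact Dvd.intro_left _ h1
  -- a Sylow subgroup
  obtain ⟨P⟩ : Nonempty (Sylow 7 X) := inferInstance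
  have hP7 : Nat.card P = 7 := by
    have h1 : 7 ∣ Nat.card P := P.dvd_card_of_dvd_card h7
    obtain ⟨k, hk⟩ := IsPGroup.iff_card.1 P.isPGroup'
    have h2 : Nat.card P ∣ 168 := (Subgroup.card_subgroup_dvd_card _).trans h168
    rw [hk] at h1 h2 ⊢
    have hk0 : k ≠ 0 := by rintro rfl; norm_num at h1
    have hk2 : k < 2 := by
      by_contra hcon
      push Not at hcon
      have h3 : 7 ^ 2 ∣ 168 := (pow_dvd_pow 7 hcon).trans h2
      norm_num at h3
    have : k = 1 := by omega
    rw [this, pow_one]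
  have hPb : (P : Subgroup X) ≠ ⊥ := by
    intro h
    have h1 : Nat.card (P : Subgroup X) = 1 := by rw [h]; exact Subgroup.card_bot
    have h2 : Nat.card (P : Subgroup X) = 7 := hP7
    omega
  by_cases hn : (P : Subgroup X).Normal
  · -- normal Sylow subgroup
    have hcyc : IsCyclic (P : Subgroup X) := isCyclic_of_prime_card hP7
    have hab : ∀ a ∈ (P : Subgroup X), ∀ b ∈ (P : Subgroup X), a * b = b * a := by
      intro a ha b hb
      have h1 := (IsCyclic.commGroup (α := (P : Subgroup X))).mul_comm ⟨a, ha⟩ ⟨b, hb⟩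
      exact congrArg Subtype.val h1
    have h1 := prime_degree hprim (P : Subgroup X) hPb hab hprime
    rw [hC7] at h1
    omega
  · have hmod := card_sylow_modEq_one 7 X
    have hidx : Nat.card (Sylow 7 X) = (Subgroup.normalizer ((P : Subgroup X) : Set X)).index :=
      P.card_eq_index_normalizer
    have hNP : Nat.card (Subgroup.normalizer ((P : Subgroup X) : Set X)) * Nat.card (Sylow 7 X) = Nat.card X := by
      rw [hidx]; exact Subgroup.card_mul_index _
    have h7N : 7 ∣ Nat.card (Subgroup.normalizer ((P : Subgroup X) : Set X)) := by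
      have h1 := Subgroup.card_dvd_of_le (Subgroup.le_normalizer (H := (P : Subgroup X)))
      have h2 : Nat.card (P : Subgroup X) = 7 := hP7
      rwa [h2] at h1
    have hne1 : Nat.card (Sylow 7 X) ≠ 1 := by
      intro h1
      apply hn
      rw [h1] at hidx
      have h2 : Subgroup.normalizer ((P : Subgroup X) : Set X) = ⊤ := Subgroup.index_eq_one.1 hidx.symm
      exact Subgroup.normalizer_eq_top_iff.1 h2
    obtain ⟨t, ht⟩ := h7N
    rw [ht] at hNP
    generalize Nat.card (Sylow 7 X) = m at *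
    have hX : 7 * (t * m) ∣ 7 * 24 := by
      have : 7 * (t * m) = Nat.card X := by rw [← hNP]; ring
      rw [this]; exact h168
    have hX2 : t * m ∣ 24 := Nat.dvd_of_mul_dvd_mul_left (by norm_num) hX
    have hm8 : m = 8 := by
      have hmd : m ∣ 24 := (Dvd.intro_left t rfl).trans hX2
      have hm24 : m ≤ 24 := Nat.le_of_dvd (by norm_num) hmd
      have hmod' : m % 7 = 1 := hmod
      interval_cases m <;> (clear * - hmd hne1 hmod'; omega)
    subst hm8
    have ht3 : t ∣ 3 := by
      have : t * 8 ∣ 3 * 8 := hX2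
      exact Nat.dvd_of_mul_dvd_mul_right (by norm_num) this
    rcases (Nat.dvd_prime Nat.prime_three).1 ht3 with h1 | h1
    · -- a normal complement
      exfalso
      subst h1
      have hNeq : (P : Subgroup X) = Subgroup.normalizer ((P : Subgroup X) : Set X) := by
        apply Subgroup.eq_of_le_of_card_ge Subgroup.le_normalizer
        rw [ht]
        exact le_of_eq hP7.symm
      have hcyc : IsCyclic (P : Subgroup X) := isCyclic_of_prime_card hP7
      have hab : ∀ a ∈ (P : Subgroup X), ∀ b ∈ (P : Subgroup X), a * b = b * a := by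
        intro a ha b hb
        have h1 := (IsCyclic.commGroup (α := (P : Subgroup X))).mul_comm ⟨a, ha⟩ ⟨b, hb⟩
        exact congrArg Subtype.val h1
      have hNC : Subgroup.normalizer ((P : Subgroup X) : Set X) ≤ Subgroup.centralizer ((P : Subgroup X) : Set X) := by
        rw [← hNeq]
        intro x hx
        rw [Subgroup.mem_centralizer_iff]
        intro y hy
        exact hab y hy x hx
      have hcomp := MonoidHom.ker_transferSylow_isComplement' P hNC
      have hcard := hcomp.card_mul_card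
      have hPc : Nat.card (P : Subgroup X) = 7 := hP7
      rw [hPc, ← hNP] at hcard
      have hker8 : Nat.card (MonoidHom.transferSylow P hNC).ker = 8 := by omega
      have hkb : (MonoidHom.transferSylow P hNC).ker ≠ ⊥ := by
        intro h
        rw [h, Subgroup.card_bot] at hker8
        omega
      have htk := trans_of_normal hprim (MonoidHom.transferSylow P hNC).ker hkb
      have hne : Nonempty C := (Nat.card_pos_iff.1 (by rw [hC7]; norm_num)).1
      obtain ⟨lam⟩ := hne
      have h2 := Subgroup.card_mul_index (stabilizer (MonoidHom.transferSylow P hNC).ker lam)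
      rw [index_stabilizer_of_transitive, hC7, hker8] at h2
      omega
    · -- the whole group
      subst h1
      have hX168 : Nat.card X = 168 := by omega
      have hbij : Function.Bijective g := by
        rw [Nat.bijective_iff_injective_and_card]
        exact ⟨hg, by rw [hX168, card_GL_three_two]⟩
      rw [card_conjClasses_congr (MulEquiv.ofBijective g hbij)]
      have h2 := (Cfsg.Agent.S2478.result (F := ZMod 2) 3 (by norm_num)).2
      rw [ZMod.card] at h2
      exact h2

end Cfsg.Agent.H540.AffEight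
end

private theorem dce_21cf9c3864c4 : _root_.True := by
  try have : _root_.True := by simp only [_root_.Cfsg.Agent.H540.PermStep.pr.eq_1]
  try have : _root_.True := by simp only [_root_.Equiv.permCongrHom.eq_1]
  exact _root_.True.intro
end

-- part: H539/GoodFin
section
prune_inst 0x4301065043722120000000010920020b52500019000200001a14401420901c300000289000e800408106a328010040028130000f0420000000a00300000060521902a400082180d04060009811085000000000000000000000000000000000000200000000
set_option linter.all false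
open scoped Cfsg.Agent.FastGrp

-- part: H539/GoodPSU
section
set_option autoImplicit false

/-!
# `Good` for the groups `PSU_n(q)`
-/

namespace Cfsg.Agent.H539.GoodPSU

open Cfsg.Agent.H540.ClassNum Cfsg.Agent.H934.OutB Cfsg.Agent.H934.OutCl Matrix
open Cfsg.Agent.H540.Good (Good Good.congr)
open Cfsg.Agent.H539.RowPSU (lin_le)

theorem cube_le {m : ℕ} (hm : 25 ≤ m) : 6140484 * m ^ 3 ≤ 10000 * 2 ^ m := by
  induction m, hm using Nat.le_induction with
  | base => norm_num
  | succ m hm ih =>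
    rw [pow_succ 2]
    have h1 : (m + 1) ^ 3 ≤ 2 * m ^ 3 := by nlinarith [Nat.mul_le_mul hm hm]
    omega

/-- generic case -/
theorem num {p f q n o k : ℕ} (hp : 2 ≤ p) (hf : 1 ≤ f) (hq : q = p ^ f) (hn : 3 ≤ n)
    (ho : o = Nat.gcd n (q + 1) * (2 * f)) (hk : 100 * k ≤ 826 * q ^ (n - 1))
    (h25 : 25 ≤ q ^ (n - 1)) : (k * o) ^ 2 ≤ 2 ^ (q ^ (n - 1)) := by
  have h1 := lin_le hf hp
  rw [← hq] at h1
  have hq2 : 2 ≤ q := by omega
  have hg : Nat.gcd n (q + 1) ≤ q + 1 := Nat.gcd_le_right _ (by omega)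
  have hg' : Nat.gcd n (q + 1) ≤ n := Nat.gcd_le_left _ (by omega)
  have h2 : o ^ 2 ≤ 9 * q ^ (n - 1) := by
    rcases (show n = 3 ∨ n = 4 ∨ 5 ≤ n by omega) with h | h | h
    · subst h
      have h3 : o ≤ 3 * q := by rw [ho]; exact Nat.mul_le_mul hg' (by omega)
      have e : q ^ (3 - 1) = q ^ 2 := rfl
      rw [e]
      linarith only [Nat.pow_le_pow_left h3 2]
    · subst h
      have h3 : o ≤ 4 * q := by rw [ho]; exact Nat.mul_le_mul hg' (by omega)
      have e : q ^ (4 - 1) = q * q ^ 2 := by rw [← pow_succ']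
      rw [e]
      have h4 : 2 * q ^ 2 ≤ q * q ^ 2 := Nat.mul_le_mul_right _ hq2
      have h5 := Nat.pow_le_pow_left h3 2
      linarith only [h4, h5, _root_.sq_nonneg (↑q : ℤ)]
    · have h3 : o ≤ (q + 1) * q := by rw [ho]; exact Nat.mul_le_mul hg (by omega)
      have h4 : 2 * o ≤ 3 * q ^ 2 := by nlinarith only [hf, ho, h1, hg]
      have h5 : (2 * o) ^ 2 ≤ (3 * q ^ 2) ^ 2 := Nat.pow_le_pow_left h4 2
      have h6 : (3 * q ^ 2) ^ 2 = 9 * q ^ 4 := by ring
      have h7 : (2 * o) ^ 2 = 4 * o ^ 2 := by ring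
      have h8 : q ^ 4 ≤ q ^ (n - 1) := Nat.pow_le_pow_right (by omega) (by omega)
      omega
  set N := q ^ (n - 1) with hN
  have h3 : (100 * k) ^ 2 ≤ (826 * N) ^ 2 := Nat.pow_le_pow_left hk 2
  have h4 : 10000 * (k * o) ^ 2 ≤ 6140484 * N ^ 3 := by
    calc 10000 * (k * o) ^ 2 = (100 * k) ^ 2 * o ^ 2 := by ring
      _ ≤ (826 * N) ^ 2 * (9 * N) := Nat.mul_le_mul h3 h2
      _ = 6140484 * N ^ 3 := by ring
  have h5 := cube_le h25
  omega

variable {F : Type} [Field F] [Fintype F]

theorem card_of {n q N : ℕ} (hF : Fintype.card F = q ^ 2) (hn : 2 ≤ n)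
    (h : Nat.gcd n (q + 1) * ((q + 1) * N) = q ^ (n * (n - 1) / 2) *
      ∏ i ∈ Finset.range n, (if Even i then q ^ (i + 1) + 1 else q ^ (i + 1) - 1)) :
    Nat.card (Cfsg.PSU n F q) = N := by
  have h1 := S0280.result (F := F) hF n hn
  rw [← h] at h1
  have h2 : 0 < Nat.gcd n (q + 1) := Nat.gcd_pos_of_pos_left _ (by omega)
  exact Nat.eq_of_mul_eq_mul_left (Nat.succ_pos q) (Nat.eq_of_mul_eq_mul_left h2 h1)

theorem main {n q : ℕ} (hF : Fintype.card F = q ^ 2) (hn : 3 ≤ n) (h32 : ¬ (n = 3 ∧ q = 2))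
    (hs : IsSimpleGroup (Cfsg.PSU n F q)) (hna : ¬ IsMulCommutative (Cfsg.PSU n F q))
    (h1 : Nat.card (Cfsg.PSU n F q) ≠ 6048) (h2 : Nat.card (Cfsg.PSU n F q) ≠ 62400)
    (h3 : Nat.card (Cfsg.PSU n F q) ≠ 25920) (h4 : Nat.card (Cfsg.PSU n F q) ≠ 13685760) :
    Good (Cfsg.PSU n F q) := by
  obtain ⟨p, f', hp, hf', hF'⟩ := exists_pf F
  have := Fact.mk hp
  obtain ⟨f, -, hq⟩ : ∃ f ≤ f', q = p ^ f := (Nat.dvd_prime_pow hp).1 (by
    rw [← hF', hF]; exact dvd_pow_self q (by norm_num))
  have hf : 1 ≤ f := by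
    by_contra h0
    have : f = 0 := by omega
    subst this
    rw [hq, pow_zero, one_pow] at hF
    have := Fintype.one_lt_card (α := F)
    omega
  have : Finite (Cfsg.PSU n F q) := inferInstance
  have h5 := Cfsg.Agent.S0815.result (F := F) p f hf hq hF n hn h32
  have h6 := card_out_of_aut hna h5
  have hk0 : Nat.card (ConjClasses (Cfsg.PSU n F q)) ≤ Nat.card (ConjClasses (Cfsg.SU n F q)) :=
    card_conjClasses_le_of_surjective (QuotientGroup.mk' _) (QuotientGroup.mk'_surjective _)
  have hk : 100 * Nat.card (ConjClasses (Cfsg.PSU n F q)) ≤ 826 * q ^ (n - 1) :=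
    (Nat.mul_le_mul_left _ hk0).trans (S2481.result (F := F) n q (by omega) hF).2
  have hq2 : 2 ≤ q := by
    rw [hq]
    exact hp.two_le.trans (Nat.le_self_pow (by omega) _)
  by_cases h25 : 25 ≤ q ^ (n - 1)
  · intro K hK
    refine (num hp.two_le hf hq hn h6 hk h25).trans ?_
    exact Nat.pow_le_pow_right (by norm_num)
      (H934.IdxPSU.pow_le_index hF hn (MulEquiv.refl _) K hK)
  · exfalso
    push Not at h25
    have hq4 : q ≤ 4 := by
      by_contra hcon
      have : 5 ^ 2 ≤ q ^ (n - 1) := (Nat.pow_le_pow_left (by omega) 2).trans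
        (Nat.pow_le_pow_right (by omega) (by omega))
      omega
    have hn5 : n ≤ 5 := by
      by_contra hcon
      have : 2 ^ 5 ≤ q ^ (n - 1) := (Nat.pow_le_pow_left hq2 5).trans
        (Nat.pow_le_pow_right (by omega) (by omega))
      omega
    rcases (show (q = 2 ∧ n = 3) ∨ (q = 2 ∧ n = 4) ∨ (q = 2 ∧ n = 5) ∨ (q = 3 ∧ n = 3) ∨
        (q = 4 ∧ n = 3) ∨ 25 ≤ q ^ (n - 1) by
      interval_cases q <;> interval_cases n <;> norm_num) with h | h | h | h | h | h
    · exact h32 ⟨h.2, h.1⟩
    · obtain ⟨rfl, rfl⟩ := h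
      exact h3 (card_of hF (by norm_num) (by decide))
    · obtain ⟨rfl, rfl⟩ := h
      exact h4 (card_of hF (by norm_num) (by decide))
    · obtain ⟨rfl, rfl⟩ := h
      exact h1 (card_of hF (by norm_num) (by decide))
    · obtain ⟨rfl, rfl⟩ := h
      exact h2 (card_of hF (by norm_num) (by decide))
    · omega

/-- `Good T` for `T = PSU_n(q)` apart from `U_3(3)`, `U_3(4)`, `U_4(2)`, `U_5(2)`. -/
theorem row (T : Type) [Group T] [Finite T] [IsSimpleGroup T] (hT : ¬ IsMulCommutative T)
    (h : Cfsg.IsPSU T) (h1 : Nat.card T ≠ 6048) (h2 : Nat.card T ≠ 62400)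
    (h3 : Nat.card T ≠ 25920) (h4 : Nat.card T ≠ 13685760) : Good T := by
  obtain ⟨F, _, _, n, q, hF, hn, h32, ⟨e⟩⟩ := h
  have hs : IsSimpleGroup (Cfsg.PSU n F q) := (MulEquiv.isSimpleGroup_congr e).1 inferInstance
  have hna : ¬ IsMulCommutative (Cfsg.PSU n F q) := by
    intro h
    apply hT
    refine ⟨⟨fun a b => ?_⟩⟩
    apply e.injective
    rw [map_mul, map_mul]
    exact h.is_comm.comm _ _
  rw [Nat.card_congr e.toEquiv] at h1 h2 h3 h4
  exact (main hF hn h32 hs hna h1 h2 h3 h4).congr e.symm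

end Cfsg.Agent.H539.GoodPSU
end

-- part: H539/GoodPSL
section
set_option autoImplicit false

/-!
# `Good` for the groups `PSL_n(q)`
-/

namespace Cfsg.Agent.H539.GoodPSL

open Cfsg.Agent.H540.ClassNum Cfsg.Agent.H934.OutB Cfsg.Agent.H934.OutCl Matrix
open Cfsg.Agent.H540.Good (Good Good.congr)
open Cfsg.Agent.H539.RowPSL (lin_le)

/-- from `d o = |Out|`, `d k ≤ B` -/
theorem of_mul {T : Type*} [Group T] {d o B b : ℕ}
    (ho : Nat.card (Cfsg.Out T) = o * d) (hk : d * Nat.card (ConjClasses T) ≤ B)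
    (hb : ∀ K : Subgroup T, K ≠ ⊤ → b ≤ K.index) (h : (o * B) ^ 2 ≤ 2 ^ b) : Good T := by
  intro K hK
  have e : Nat.card (ConjClasses T) * Nat.card (Cfsg.Out T) =
      o * (d * Nat.card (ConjClasses T)) := by rw [ho]; ring
  rw [e]
  refine (Nat.pow_le_pow_left (Nat.mul_le_mul_left _ hk) 2).trans (h.trans ?_)
  exact Nat.pow_le_pow_right (by norm_num) (hb K hK)

/-- index bound from a prime divisor of the order -/
theorem prime_le_index {T : Type*} [Group T] [Finite T] [IsSimpleGroup T]
    (hna : ¬ IsMulCommutative T) {r : ℕ} (hr : r.Prime) (h : r ∣ Nat.card T)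
    (K : Subgroup T) (hK : K ≠ ⊤) : r ≤ K.index := by
  have h1 := SmallSimple.Embed.two_mul_card_dvd_factorial_index hna K hK
  exact (hr.dvd_factorial).1 ((h.trans (Dvd.intro_left 2 rfl)).trans h1)

theorem num_two {p f q : ℕ} (hp : 2 ≤ p) (hf : 1 ≤ f) (hq : q = p ^ f) (h13 : 13 ≤ q) :
    (f * (q ^ (2 - 1) + 5 * q ^ (2 - 2))) ^ 2 ≤ 2 ^ (q + 1) := by
  have h1 := lin_le hf hp
  rw [← hq] at h1
  have h2 : q ^ (2 - 1) + 5 * q ^ (2 - 2) = q + 5 := by norm_num
  rw [h2]
  have h3 : ∀ m, 13 ≤ m → (m * (m + 5)) ^ 2 ≤ 4 * 2 ^ (m + 1) := by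
    intro m hm
    induction m, hm using Nat.le_induction with
    | base => norm_num
    | succ m hm ih =>
      rw [pow_succ 2 (m + 1)]
      have h4 : ((m + 1) * (m + 1 + 5)) ^ 2 ≤ 2 * (m * (m + 5)) ^ 2 := by
        have h5 : 5 * ((m + 1) * (m + 1 + 5)) ≤ 7 * (m * (m + 5)) := by nlinarith only [hm]
        have h6 := Nat.pow_le_pow_left h5 2
        linarith only [h6, _root_.sq_nonneg (↑m * (↑m + 5) : ℤ)]
      omega
  have h4 := h3 q h13
  have h5 : (2 * (f * (q + 5))) ^ 2 ≤ (q * (q + 5)) ^ 2 :=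
    Nat.pow_le_pow_left (by rw [← mul_assoc]; exact Nat.mul_le_mul_right _ (by omega)) 2
  have h6 : (2 * (f * (q + 5))) ^ 2 = 4 * (f * (q + 5)) ^ 2 := by ring
  omega

theorem cube_le {m : ℕ} (hm : 16 ≤ m) : 81 * m ^ 3 ≤ 16 * 2 ^ m := by
  induction m, hm using Nat.le_induction with
  | base => norm_num
  | succ m hm ih =>
    rw [pow_succ 2]
    have h1 : (m + 1) ^ 3 ≤ 2 * m ^ 3 := by nlinarith [Nat.mul_le_mul hm hm]
    omega

/-- `(2 f (q^(n-1) + 5 q^(n-2)))² ≤ 2 ^ q^(n-1)` if `q^(n-1) ≥ 16`. -/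
theorem num_ge_three {p f q n : ℕ} (hp : 2 ≤ p) (hf : 1 ≤ f) (hq : q = p ^ f) (hn : 3 ≤ n)
    (h16 : 16 ≤ q ^ (n - 1)) :
    (2 * f * (q ^ (n - 1) + 5 * q ^ (n - 2))) ^ 2 ≤ 2 ^ (q ^ (n - 1)) := by
  have h1 := lin_le hf hp
  rw [← hq] at h1
  have hq2 : 2 ≤ q := by omega
  obtain ⟨k, rfl⟩ : ∃ k, n = k + 3 := ⟨n - 3, by omega⟩
  have e1 : k + 3 - 1 = k + 2 := by omega
  have e2 : k + 3 - 2 = k + 1 := by omega
  rw [e1] at h16 ⊢
  rw [e2]
  have h3 : q ^ 2 ≤ q ^ (k + 2) := Nat.pow_le_pow_right (by omega) (by omega)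
  have h2 : q * q ^ (k + 1) = q ^ (k + 2) := (pow_succ' q (k + 1)).symm
  set N := q ^ (k + 2) with hN
  set M := q ^ (k + 1) with hM
  have h4 : 16 * (q + 5) ^ 2 ≤ 81 * N := by
    rcases Nat.lt_or_ge q 4 with hq4 | hq4
    · have : (q + 5) ^ 2 ≤ 8 ^ 2 := Nat.pow_le_pow_left (by omega) 2
      omega
    · have : (4 * (q + 5)) ^ 2 ≤ (9 * q) ^ 2 := Nat.pow_le_pow_left (by omega) 2
      linarith only [h3, this]
  have h5 : 2 * f * (N + 5 * M) ≤ N * (q + 5) := by
    calc 2 * f * (N + 5 * M) = (f * 2) * (N + 5 * M) := by ring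
      _ ≤ q * (N + 5 * M) := Nat.mul_le_mul_right _ h1
      _ = N * q + 5 * (q * M) := by ring
      _ = N * (q + 5) := by rw [h2]; ring
  have h6 := Nat.pow_le_pow_left h5 2
  have h7 : 16 * (N * (q + 5)) ^ 2 ≤ 81 * N ^ 3 := by
    calc 16 * (N * (q + 5)) ^ 2 = N ^ 2 * (16 * (q + 5) ^ 2) := by ring
      _ ≤ N ^ 2 * (81 * N) := Nat.mul_le_mul_left _ h4
      _ = _ := by ring
  have h8 := cube_le h16
  omega

/-! ### the rows -/

variable {F : Type} [Field F] [Fintype F]

theorem card_of {n q N : ℕ} (hq : Fintype.card F = q) (hn : 2 ≤ n)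
    (h : Nat.gcd n (q - 1) * ((q - 1) * N) = ∏ i : Fin n, (q ^ n - q ^ (i : ℕ))) (hq2 : 2 ≤ q) :
    Nat.card (ProjectiveSpecialLinearGroup (Fin n) F) = N := by
  have h1 := S0243.result (F := F) hq n hn
  rw [← h] at h1
  have h2 : 0 < Nat.gcd n (q - 1) := Nat.gcd_pos_of_pos_left _ (by omega)
  exact Nat.eq_of_mul_eq_mul_left (by omega : 0 < q - 1) (Nat.eq_of_mul_eq_mul_left h2 h1)

theorem two (h4 : 4 ≤ Fintype.card F) (hs : IsSimpleGroup (ProjectiveSpecialLinearGroup (Fin 2) F))
    (hna : ¬ IsMulCommutative (ProjectiveSpecialLinearGroup (Fin 2) F))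
    (h60 : Nat.card (ProjectiveSpecialLinearGroup (Fin 2) F) ≠ 60)
    (h168 : Nat.card (ProjectiveSpecialLinearGroup (Fin 2) F) ≠ 168)
    (h360 : Nat.card (ProjectiveSpecialLinearGroup (Fin 2) F) ≠ 360)
    (h504 : Nat.card (ProjectiveSpecialLinearGroup (Fin 2) F) ≠ 504) :
    Good (ProjectiveSpecialLinearGroup (Fin 2) F) := by
  obtain ⟨p, f, hp, hf, hF⟩ := exists_pf F
  have := Fact.mk hp
  have := finite_psl (F := F) 2
  have h1 := Cfsg.Agent.S0813.result (F := F) p f hf hF 2 (by omega) (fun _ => by rw [← hF]; exact h4)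
  rw [if_pos rfl, card_pgl (by omega), ← mul_assoc, one_mul] at h1
  have h2 := card_out_of_aut hna h1
  have h3 := (S2480.result (F := F) 2 le_rfl).2
  have h4' : Fintype.card F ≠ 4 := fun h => h60 (card_of h le_rfl (by decide) (by norm_num))
  have h5 : Fintype.card F ≠ 5 := fun h => h60 (card_of h le_rfl (by decide) (by norm_num))
  have h7 : Fintype.card F ≠ 7 := fun h => h168 (card_of h le_rfl (by decide) (by norm_num))
  have h8 : Fintype.card F ≠ 8 := fun h => h504 (card_of h le_rfl (by decide) (by norm_num))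
  have h9 : Fintype.card F ≠ 9 := fun h => h360 (card_of h le_rfl (by decide) (by norm_num))
  by_cases h11 : Fintype.card F = 11
  · have hf1' : f = 1 := by
      by_contra hne
      have h5 : p ^ 2 ∣ p ^ f := pow_dvd_pow p (by omega)
      rw [← hF, h11] at h5
      have h6 : p ∣ 11 := (dvd_pow_self p (by norm_num)).trans h5
      rw [(Nat.prime_dvd_prime_iff_eq hp (by norm_num)).1 h6] at h5
      omega
    have hc := card_of (n := 2) (N := 660) h11 le_rfl (by decide) (by norm_num)
    refine of_mul h2 h3 (b := 11) (fun K hK => prime_le_index hna (by norm_num)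
      (by rw [hc]; norm_num) K hK) ?_
    rw [hf1', h11]
    norm_num
  · have hpp : ∀ m : ℕ, Fintype.card F = m → IsPrimePow m := fun m hm => by
      rw [← hm, hF]; exact hp.isPrimePow.pow (by omega)
    have h13 : 13 ≤ Fintype.card F := by
      by_contra hcon
      have h6 : Fintype.card F = 6 ∨ Fintype.card F = 10 ∨ Fintype.card F = 12 := by (clear * - h4 h4' h5 h7 h8 h9 h11 hcon; omega)
      have h2' : 2 ∣ p ^ f := by rw [← hF]; omega
      have h2'' := (Nat.prime_dvd_prime_iff_eq Nat.prime_two hp).1 (Nat.prime_two.dvd_of_dvd_pow h2')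
      rw [← h2''] at hF
      have hf4 : f < 4 := by
        by_contra hcon'
        have : 2 ^ 4 ≤ 2 ^ f := Nat.pow_le_pow_right (by norm_num) (by omega)
        omega
      interval_cases f <;> omega
    have hq : Fintype.card F ∉ ({2, 3, 5, 7, 9, 11} : Finset ℕ) := by
      simp only [Finset.mem_insert, Finset.mem_singleton]
      omega
    exact of_mul h2 h3 (S0806.result rfl hq).1 (num_two hp.two_le hf hF h13)

theorem ge_three {n : ℕ} (hn : 3 ≤ n) (hs : IsSimpleGroup (ProjectiveSpecialLinearGroup (Fin n) F))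
    (hna : ¬ IsMulCommutative (ProjectiveSpecialLinearGroup (Fin n) F))
    (hr : ∃ r ∈ ({3, 5, 7} : Set ℕ), ¬ r ∣ Nat.card (ProjectiveSpecialLinearGroup (Fin n) F))
    (h168 : Nat.card (ProjectiveSpecialLinearGroup (Fin n) F) ≠ 168) :
    Good (ProjectiveSpecialLinearGroup (Fin n) F) := by
  obtain ⟨p, f, hp, hf, hF⟩ := exists_pf F
  have := Fact.mk hp
  have := finite_psl (F := F) n
  have h1 := Cfsg.Agent.S0813.result (F := F) p f hf hF n (by omega) (by omega)
  rw [if_neg (by omega), card_pgl (by omega), ← mul_assoc] at h1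
  have h2 := card_out_of_aut hna h1
  have h3 := (S2480.result (F := F) n (by omega)).2
  have hq2 : 2 ≤ Fintype.card F := Fintype.one_lt_card
  by_cases h16 : 16 ≤ Fintype.card F ^ (n - 1)
  · refine of_mul h2 h3 (b := Fintype.card F ^ (n - 1)) (fun K hK => ?_)
      (num_ge_three hp.two_le hf hF hn h16)
    have h4 := H934.IdxCl.psl (ι := Fin n) (F := F) (by rwa [Fintype.card_fin]) hs K hK
    rwa [Fintype.card_fin] at h4
  · have hq3 : Fintype.card F ≤ 3 := by
      by_contra hne
      apply h16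
      calc 16 = 4 ^ 2 := by norm_num
        _ ≤ Fintype.card F ^ 2 := Nat.pow_le_pow_left (by omega) 2
        _ ≤ _ := Nat.pow_le_pow_right (by omega) (by omega)
    have hn4 : n ≤ 4 := by
      by_contra hne
      apply h16
      calc 16 = 2 ^ 4 := by norm_num
        _ ≤ Fintype.card F ^ 4 := Nat.pow_le_pow_left hq2 4
        _ ≤ _ := Nat.pow_le_pow_right (by omega) (by omega)
    rcases (show Fintype.card F = 2 ∨ Fintype.card F = 3 by omega) with hq | hq
    · rcases (show n = 3 ∨ n = 4 by omega) with rfl | rfl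
      · exact absurd (card_of (n := 3) hq (by norm_num) (by decide) le_rfl) h168
      · have hc := card_of (n := 4) (N := 20160) hq (by norm_num) (by decide) le_rfl
        obtain ⟨r, hr, hd⟩ := hr
        exfalso
        apply hd
        rw [hc]
        rcases hr with rfl | rfl | rfl <;> norm_num
    · rcases (show n = 3 ∨ n = 4 by omega) with rfl | rfl
      · have hf1 : f = 1 := by
          by_contra hne
          have : 2 ^ 2 ≤ p ^ f := (Nat.pow_le_pow_left hp.two_le 2).trans
            (Nat.pow_le_pow_right hp.pos (by omega))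
          omega
        have hc := card_of (n := 3) (N := 5616) hq (by norm_num) (by decide) (by norm_num)
        refine of_mul h2 h3 (b := 13) (fun K hK => prime_le_index hna (by norm_num)
          (by rw [hc]; norm_num) K hK) ?_
        rw [hf1, hq]
        norm_num
      · exfalso
        apply h16
        rw [hq]
        norm_num

/-- `Good T` for `T = PSL_n(q)` of order prime to 3, 5 or 7, apart from `A_5`, `L_2(7)`, `A_6` and
`L_2(8)`. -/
theorem row (T : Type) [Group T] [Finite T] [IsSimpleGroup T] (hT : ¬ IsMulCommutative T)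
    (h : Cfsg.IsPSL T) (hr : ∃ r ∈ ({3, 5, 7} : Set ℕ), ¬ r ∣ Nat.card T)
    (h60 : Nat.card T ≠ 60) (h168 : Nat.card T ≠ 168) (h360 : Nat.card T ≠ 360)
    (h504 : Nat.card T ≠ 504) : Good T := by
  obtain ⟨F, _, _, n, hn, h4, ⟨e⟩⟩ := h
  have hs : IsSimpleGroup (ProjectiveSpecialLinearGroup (Fin n) F) :=
    (MulEquiv.isSimpleGroup_congr e).1 inferInstance
  have hna : ¬ IsMulCommutative (ProjectiveSpecialLinearGroup (Fin n) F) := by
    intro h
    apply hT
    refine ⟨⟨fun a b => ?_⟩⟩
    apply e.injective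
    rw [map_mul, map_mul]
    exact h.is_comm.comm _ _
  rw [Nat.card_congr e.toEquiv] at h60 h168 h360 h504 hr
  refine Good.congr ?_ e.symm
  rcases hn.eq_or_lt with rfl | hn
  · exact two (h4 rfl) hs hna h60 h168 h360 h504
  · exact ge_three hn hs hna hr h168

end Cfsg.Agent.H539.GoodPSL
end

-- part: H539/GoodPSp
section
set_option autoImplicit false

/-!
# `Good` for the groups `PSp_2m(q)` of order prime to 3, 5 or 7
-/

namespace Cfsg.Agent.H539.GoodPSp

open Cfsg.Agent.H540.ClassNum Cfsg.Agent.H934.OutB Cfsg.Agent.H934.OutCl Matrix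
  Cfsg.Agent.OddHalf.Orders
open Cfsg.Agent.H540.Good (Good Good.congr Good.of_bounds)
open Cfsg.Agent.H539.RowPSp (lin_le card_out_le)
open Cfsg.Agent.H539.GoodPSL (prime_le_index)

variable {F : Type} [Field F] [Fintype F]

/-- a prime divisor of `q^(2i) - 1`, `1 ≤ i ≤ m`, or of `q` -/
theorem dvd_sp {m q r : ℕ} (hm : 1 ≤ m) (h : r ∣ q ∨ ∃ i < m, r ∣ q ^ (2 * (i + 1)) - 1) :
    r ∣ sp m q := by
  rcases h with h | ⟨i, hi, h⟩
  · exact (h.trans (dvd_pow_self q (by positivity))).trans (Dvd.intro _ rfl)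
  · have h1 : q ^ (2 * (i + 1)) - 1 ∣ ((List.range m).map fun i => q ^ (2 * (i + 1)) - 1).prod :=
      List.dvd_prod (List.mem_map.2 ⟨i, List.mem_range.2 hi, rfl⟩)
    exact (h.trans h1).trans (Dvd.intro_left _ rfl)

theorem dvd_card {m q r : ℕ} (hm : 1 ≤ m) (hq : Fintype.card F = q) (hr : r.Prime) (hr2 : r ≠ 2)
    (h : r ∣ q ∨ ∃ i < m, r ∣ q ^ (2 * (i + 1)) - 1) : r ∣ Nat.card (Cfsg.PSp m F) := by
  have h1 := card_psp (F := F) m hm
  rw [hq] at h1
  have h2 := dvd_sp hm h
  rw [← h1] at h2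
  rcases hr.dvd_mul.1 h2 with h3 | h3
  · exfalso
    apply hr2
    exact (Nat.prime_dvd_prime_iff_eq hr Nat.prime_two).1 (h3.trans (Nat.gcd_dvd_left _ _))
  · exact h3

theorem fermat {q r : ℕ} (hr : r.Prime) (h : ¬ r ∣ q) : r ∣ q ^ (r - 1) - 1 := by
  have h1 : q ^ (r - 1) ≡ 1 [MOD r] := by
    have := Nat.ModEq.pow_totient (n := r) (x := q) ((Nat.Prime.coprime_iff_not_dvd hr).2 h).symm
    rwa [Nat.totient_prime hr] at this
  rcases Nat.eq_zero_or_pos q with rfl | hq
  · exact absurd (dvd_zero r) h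
  · exact (Nat.modEq_iff_dvd' (Nat.pow_pos hq)).1 h1.symm

theorem dvd_three {m : ℕ} (hm : 1 ≤ m) : 3 ∣ Nat.card (Cfsg.PSp m F) := by
  refine dvd_card hm rfl (by norm_num) (by norm_num) ?_
  by_cases h : 3 ∣ Fintype.card F
  · exact Or.inl h
  · exact Or.inr ⟨0, hm, by simpa only [_root_.zero_add, _root_.mul_one, _root_.Nat.add_one_sub_one] using fermat (by norm_num) h⟩

theorem dvd_five {m : ℕ} (hm : 2 ≤ m) : 5 ∣ Nat.card (Cfsg.PSp m F) := by
  refine dvd_card (by omega) rfl (by norm_num) (by norm_num) ?_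
  by_cases h : 5 ∣ Fintype.card F
  · exact Or.inl h
  · exact Or.inr ⟨1, hm, by simpa only [_root_.Nat.reduceAdd, _root_.Nat.reduceMul, _root_.Nat.add_one_sub_one] using fermat (by norm_num) h⟩

theorem dvd_seven {m : ℕ} (hm : 3 ≤ m) : 7 ∣ Nat.card (Cfsg.PSp m F) := by
  refine dvd_card (by omega) rfl (by norm_num) (by norm_num) ?_
  by_cases h : 7 ∣ Fintype.card F
  · exact Or.inl h
  · exact Or.inr ⟨2, hm, by simpa only [_root_.Nat.reduceAdd, _root_.Nat.reduceMul, _root_.Nat.add_one_sub_one] using fermat (by norm_num) h⟩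

theorem card_of {m q N : ℕ} (hm : 1 ≤ m) (hq : Fintype.card F = q) (h : spDen q * N = sp m q) :
    Nat.card (Cfsg.PSp m F) = N := by
  have h1 := card_psp (F := F) m hm
  rw [hq, ← h] at h1
  exact Nat.eq_of_mul_eq_mul_left (Nat.gcd_pos_of_pos_left _ (by norm_num)) h1

/-! ### arithmetic -/

theorem pow_six {m : ℕ} (hm : 64 ≤ m) : 5776 * m ^ 6 ≤ 25 * 2 ^ m := by
  induction m, hm using Nat.le_induction with
  | base => norm_num
  | succ m hm ih =>
    rw [pow_succ 2]
    have h1 : 10 * (m + 1) ^ 3 ≤ 14 * m ^ 3 := by nlinarith [Nat.mul_le_mul hm hm]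
    have h2 := Nat.pow_le_pow_left h1 2
    have h3 : (10 * (m + 1) ^ 3) ^ 2 = 100 * (m + 1) ^ 6 := by ring
    have h4 : (14 * m ^ 3) ^ 2 = 196 * m ^ 6 := by ring
    omega

theorem pow_five {m : ℕ} (hm : 35 ≤ m) : 11664 * m ^ 5 ≤ 25 * 2 ^ m := by
  induction m, hm using Nat.le_induction with
  | base => norm_num
  | succ m hm ih =>
    rw [pow_succ 2]
    have h1 : 10 * (m + 1) ^ 3 ≤ 12 * m ^ 3 := by nlinarith [Nat.mul_le_mul hm hm]
    have h2 : 10 * (m + 1) ^ 2 ≤ 12 * m ^ 2 := by nlinarith only [hm]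
    have h3 := Nat.mul_le_mul h1 h2
    have h4 : 10 * (m + 1) ^ 3 * (10 * (m + 1) ^ 2) = 100 * (m + 1) ^ 5 := by ring
    have h5 : 12 * m ^ 3 * (12 * m ^ 2) = 144 * m ^ 5 := by ring
    omega

theorem sq_le_three {f : ℕ} : f ^ 2 ≤ 3 ^ f := by
  induction f with
  | zero => norm_num
  | succ f ih =>
    rw [pow_succ 3]
    rcases Nat.lt_or_ge f 2 with h | h
    · interval_cases f <;> norm_num
    · nlinarith

theorem main' (h3 : 3 ≤ Fintype.card F)
    (hs : IsSimpleGroup (Cfsg.PSp 2 F)) (hna : ¬ IsMulCommutative (Cfsg.PSp 2 F))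
    (h7 : ¬ 7 ∣ Nat.card (Cfsg.PSp 2 F)) (h1 : Fintype.card F ≠ 3)
    (h2 : Fintype.card F ≠ 4) (h3' : Fintype.card F ≠ 5) :
    Good (Cfsg.PSp 2 F) := by
  obtain ⟨p, f, hp, hf, hF⟩ := exists_pf F
  have := Fact.mk hp
  have : Finite (symplecticGroup (Fin 2) F) := Subtype.finite
  have : Finite (Cfsg.PSp 2 F) := inferInstance
  have h4 := Cfsg.Agent.S0814.result (F := F) p f hf hF 2 le_rfl (fun _ => by rw [← hF]; exact h3)
  obtain ⟨ho, -⟩ := card_out_le (m := 2) hp hF (card_out_of_aut hna h4) hf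
  have hk0 : Nat.card (ConjClasses (Cfsg.PSp 2 F)) ≤
      Nat.card (ConjClasses (symplecticGroup (Fin 2) F)) :=
    card_conjClasses_le_of_surjective (QuotientGroup.mk' _) (QuotientGroup.mk'_surjective _)
  have hidx : ∀ K : Subgroup (Cfsg.PSp 2 F), K ≠ ⊤ → Fintype.card F ≤ K.index :=
    fun K hK => by simpa using H934.IdxCl.psp le_rfl hs K hK
  have hf2 := lin_le hf hp.two_le
  rw [← hF] at hf2
  -- the small cases
  have small : ∀ {q r o k : ℕ}, Fintype.card F = q → r.Prime → r ≠ 2 →
      (∃ i < 2, r ∣ q ^ (2 * (i + 1)) - 1) → Nat.card (Cfsg.Out (Cfsg.PSp 2 F)) ≤ o →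
      Nat.card (ConjClasses (Cfsg.PSp 2 F)) ≤ k → (k * o) ^ 2 ≤ 2 ^ r →
      Good (Cfsg.PSp 2 F) := fun hq hr hr2 hd ho hk h => Good.of_bounds hk ho
    (fun K hK => prime_le_index hna hr (dvd_card (by norm_num) hq hr hr2 (Or.inr hd)) K hK) h
  have ex : ∀ {q : ℕ}, Fintype.card F = q → (7 ∣ q ∨ ∃ i < 2, 7 ∣ q ^ (2 * (i + 1)) - 1) → False :=
    fun hq hd => h7 (dvd_card (by norm_num) hq (by norm_num) (by norm_num) hd)
  rcases hp.eq_two_or_odd' with hp2 | hpo
  · -- `q` even
    have heven : Even (Fintype.card F) := by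
      rw [hF, hp2]
      exact (Nat.even_pow.2 ⟨even_two, by omega⟩)
    have hk : 5 * Nat.card (ConjClasses (Cfsg.PSp 2 F)) ≤ 76 * Fintype.card F ^ 2 :=
      (Nat.mul_le_mul_left _ hk0).trans (S2557.result (F := F) heven 2 (by omega)).2
    rcases Nat.lt_or_ge f 6 with hf6 | hf6
    · have hq : Fintype.card F = 2 ^ f := by rw [hF, hp2]
      interval_cases f
      · rw [hq] at h3; norm_num at h3
      · exact absurd (hq.trans (by norm_num)) h2
      · exact (ex hq (Or.inr ⟨0, by norm_num, by decide⟩)).elim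
      · rw [hq] at hk
        exact small (r := 257) (k := 3891) hq (by norm_num) (by norm_num)
          ⟨1, by norm_num, by decide⟩ ho (by omega) (by decide +kernel)
      · rw [hq] at hk
        exact small (r := 41) (k := 15564) hq (by norm_num) (by norm_num)
          ⟨1, by norm_num, by decide⟩ ho (by omega) (by norm_num)
    · have hq64 : 64 ≤ Fintype.card F := by
        rw [hF, hp2]
        calc 64 = 2 ^ 6 := by norm_num
          _ ≤ 2 ^ f := Nat.pow_le_pow_right (by norm_num) hf6
      refine Good.of_bounds le_rfl (ho.trans (by omega : 2 * f ≤ Fintype.card F)) hidx ?_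
      have h5 := pow_six hq64
      have h6 := Nat.pow_le_pow_left hk 2
      have h8 : 25 * (Nat.card (ConjClasses (Cfsg.PSp 2 F)) * Fintype.card F) ^ 2 ≤
          5776 * Fintype.card F ^ 6 := by
        calc 25 * (Nat.card (ConjClasses (Cfsg.PSp 2 F)) * Fintype.card F) ^ 2
            = (5 * Nat.card (ConjClasses (Cfsg.PSp 2 F))) ^ 2 * Fintype.card F ^ 2 := by ring
          _ ≤ (76 * Fintype.card F ^ 2) ^ 2 * Fintype.card F ^ 2 := Nat.mul_le_mul_right _ h6
          _ = _ := by ring
      omega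
  · -- `q` odd
    have hodd : Odd (Fintype.card F) := by rw [hF]; exact hpo.pow
    have hk : 5 * Nat.card (ConjClasses (Cfsg.PSp 2 F)) ≤ 54 * Fintype.card F ^ 2 :=
      (Nat.mul_le_mul_left _ hk0).trans (S2482.result (F := F) hodd 2 (by omega)).2
    have hp3 : 3 ≤ p := by
      have h2 := hp.two_le
      obtain ⟨k, hk⟩ := hpo
      omega
    have hpf : 3 ^ f ≤ Fintype.card F := by rw [hF]; exact Nat.pow_le_pow_left hp3 f
    rcases Nat.lt_or_ge (Fintype.card F) 35 with h35 | h35
    · have hf3 : f ≤ 3 := by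
        by_contra hcon
        have : 3 ^ 4 ≤ 3 ^ f := Nat.pow_le_pow_right (by norm_num) (by omega)
        omega
      have ho6 : Nat.card (Cfsg.Out (Cfsg.PSp 2 F)) ≤ 6 := by omega
      obtain ⟨q, hq⟩ : ∃ q, Fintype.card F = q := ⟨_, rfl⟩
      rw [hq] at h35 hk h3 hodd
      have hodd' : q % 2 = 1 := Nat.odd_iff.1 hodd
      interval_cases q <;> try (clear * - h1 h2 h3' hF hq hodd'; omega)
      · exact (ex hq (Or.inl (by norm_num))).elim
      · exact small (r := 41) (k := 874) hq (by norm_num) (by norm_num)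
          ⟨1, by norm_num, by decide⟩ ho6 (by omega) (by norm_num)
      · exact small (r := 61) (k := 1306) hq (by norm_num) (by norm_num)
          ⟨1, by norm_num, by decide⟩ ho6 (by omega) (by norm_num)
      · exact (ex hq (Or.inr ⟨0, by norm_num, by decide⟩)).elim
      · exact (ex hq (Or.inr ⟨0, by norm_num, by decide⟩)).elim
      · exact small (r := 29) (k := 3121) hq (by norm_num) (by norm_num)
          ⟨1, by norm_num, by decide⟩ ho6 (by omega) (by norm_num)
      · exact small (r := 181) (k := 3898) hq (by norm_num) (by norm_num)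
          ⟨1, by norm_num, by decide⟩ ho6 (by omega) (by norm_num)
      · exact (ex hq (Or.inl (by norm_num))).elim
      · exact small (r := 53) (k := 5713) hq (by norm_num) (by norm_num)
          ⟨1, by norm_num, by decide⟩ ho6 (by omega) (by norm_num)
      · exact small (r := 313) (k := 6750) hq (by norm_num) (by norm_num)
          ⟨1, by norm_num, by decide⟩ ho6 (by omega) (by decide +kernel)
      · exact (ex hq (Or.inr ⟨0, by norm_num, by decide⟩)).elim
      · exact (ex hq (Or.inr ⟨0, by norm_num, by decide⟩)).elim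
      · exact small (r := 37) (k := 10378) hq (by norm_num) (by norm_num)
          ⟨1, by norm_num, by decide⟩ ho6 (by omega) (by norm_num)
      · exact small (r := 109) (k := 11761) hq (by norm_num) (by norm_num)
          ⟨1, by norm_num, by decide⟩ ho6 (by omega) (by norm_num)
    · refine Good.of_bounds le_rfl ho hidx ?_
      have h5 := pow_five h35
      have h6 := Nat.pow_le_pow_left hk 2
      have h7 : f ^ 2 ≤ Fintype.card F := sq_le_three.trans hpf
      have h8 : 25 * (Nat.card (ConjClasses (Cfsg.PSp 2 F)) * (2 * f)) ^ 2 ≤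
          11664 * Fintype.card F ^ 5 := by
        calc 25 * (Nat.card (ConjClasses (Cfsg.PSp 2 F)) * (2 * f)) ^ 2
            = (5 * Nat.card (ConjClasses (Cfsg.PSp 2 F))) ^ 2 * (4 * f ^ 2) := by ring
          _ ≤ (54 * Fintype.card F ^ 2) ^ 2 * (4 * Fintype.card F) :=
            Nat.mul_le_mul h6 (Nat.mul_le_mul_left _ h7)
          _ = _ := by ring
      omega

theorem main (h3 : 3 ≤ Fintype.card F)
    (hs : IsSimpleGroup (Cfsg.PSp 2 F)) (hna : ¬ IsMulCommutative (Cfsg.PSp 2 F))
    (h7 : ¬ 7 ∣ Nat.card (Cfsg.PSp 2 F)) (h1 : Nat.card (Cfsg.PSp 2 F) ≠ 25920)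
    (h2 : Nat.card (Cfsg.PSp 2 F) ≠ 979200) (h3' : Nat.card (Cfsg.PSp 2 F) ≠ 4680000) :
    Good (Cfsg.PSp 2 F) :=
  main' h3 hs hna h7 (fun hq => h1 (card_of (by norm_num) hq (by decide)))
    (fun hq => h2 (card_of (by norm_num) hq (by decide)))
    (fun hq => h3' (card_of (by norm_num) hq (by decide)))

/-- `Good T` for `T = PSp_2m(q)` of order prime to 3, 5 or 7, apart from `PSp_4(3)`, `PSp_4(4)`,
`PSp_4(5)` -/
theorem row (T : Type) [Group T] [Finite T] [IsSimpleGroup T] (hT : ¬ IsMulCommutative T)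
    (h : Cfsg.IsPSp T) (hr : ∃ r ∈ ({3, 5, 7} : Set ℕ), ¬ r ∣ Nat.card T)
    (h1 : Nat.card T ≠ 25920) (h2 : Nat.card T ≠ 979200) (h4 : Nat.card T ≠ 4680000) :
    Good T := by
  obtain ⟨F, _, _, m, hm, h3, ⟨e⟩⟩ := h
  have hs : IsSimpleGroup (Cfsg.PSp m F) := (MulEquiv.isSimpleGroup_congr e).1 inferInstance
  have hna : ¬ IsMulCommutative (Cfsg.PSp m F) := by
    intro h
    apply hT
    refine ⟨⟨fun a b => ?_⟩⟩
    apply e.injective
    rw [map_mul, map_mul]
    exact h.is_comm.comm _ _
  rw [Nat.card_congr e.toEquiv] at h1 h2 h4 hr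
  refine Good.congr ?_ e.symm
  obtain ⟨r, hr, hd⟩ := hr
  rcases hr with rfl | rfl | rfl
  · exact absurd (dvd_three (by omega)) hd
  · exact absurd (dvd_five hm) hd
  · rcases hm.eq_or_lt with rfl | hm3
    · exact main (h3 rfl) hs hna hd h1 h2 h4
    · exact absurd (dvd_seven hm3) hd

end Cfsg.Agent.H539.GoodPSp
end

-- part: H539/GoodFin
section
set_option autoImplicit false

/-!
# `Good` for some small unitary and symplectic groups
-/

namespace Cfsg.Agent.H539.GoodFin

open Cfsg.Agent.H540.ClassNum Cfsg.Agent.H934.OutB Cfsg.Agent.H934.OutCl Matrix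
open Cfsg.Agent.H540.Good (Good Good.congr Good.of_bounds)
open Cfsg.Agent.H540 Cfsg.Agent.H867.Engine

/-- exact outer automorphism group and class number bound of `PSU_n(q)` -/
theorem psu_data {F : Type} [Field F] [Fintype F] {n q p f : ℕ} (hp : p.Prime) (hf : 1 ≤ f)
    (hq : q = p ^ f) (hF : Fintype.card F = q ^ 2) (hn : 3 ≤ n) (h32 : ¬ (n = 3 ∧ q = 2))
    (hs : IsSimpleGroup (Cfsg.PSU n F q)) (hna : ¬ IsMulCommutative (Cfsg.PSU n F q)) :
    Nat.card (Cfsg.Out (Cfsg.PSU n F q)) = Nat.gcd n (q + 1) * (2 * f) ∧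
    100 * Nat.card (ConjClasses (Cfsg.PSU n F q)) ≤ 826 * q ^ (n - 1) := by
  have := Fact.mk hp
  have : Finite (Cfsg.PSU n F q) := inferInstance
  have h5 := Cfsg.Agent.S0815.result (F := F) p f hf hq hF n hn h32
  refine ⟨card_out_of_aut hna h5, ?_⟩
  have hk0 : Nat.card (ConjClasses (Cfsg.PSU n F q)) ≤ Nat.card (ConjClasses (Cfsg.SU n F q)) :=
    card_conjClasses_le_of_surjective (QuotientGroup.mk' _) (QuotientGroup.mk'_surjective _)
  exact (Nat.mul_le_mul_left _ hk0).trans (S2481.result (F := F) n q (by omega) hF).2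

theorem u34 {F : Type} [Field F] [Fintype F] (hF : Fintype.card F = 4 ^ 2)
    (hs : IsSimpleGroup (Cfsg.PSU 3 F 4)) (hna : ¬ IsMulCommutative (Cfsg.PSU 3 F 4)) :
    Good (Cfsg.PSU 3 F 4) := by
  obtain ⟨h1, h2⟩ := psu_data (p := 2) (f := 2) (by norm_num) (by norm_num) (by norm_num) hF
    (by norm_num) (by norm_num) hs hna
  exact EngG.of_check hna (o := 4) (N := 62400) (M := 132) (b := 16) h1.le (by omega)
    [(2, 6), (3, 1), (5, 2), (13, 1)] []
    (by decide) (GoodPSU.card_of hF (by norm_num) (by decide)) (by decide)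
    (fun e he => absurd he (by simp)) (by norm_num)
    (fun K hK => H934.IdxPSU.pow_le_index hF (by norm_num) (MulEquiv.refl _) K hK)
    [.J 13 1, .D, .D] (by decide +kernel)

theorem u52 {F : Type} [Field F] [Fintype F] (hF : Fintype.card F = 2 ^ 2)
    (hs : IsSimpleGroup (Cfsg.PSU 5 F 2)) (hna : ¬ IsMulCommutative (Cfsg.PSU 5 F 2)) :
    Good (Cfsg.PSU 5 F 2) := by
  obtain ⟨h1, h2⟩ := psu_data (p := 2) (f := 1) (by norm_num) (by norm_num) (by norm_num) hF
    (by norm_num) (by norm_num) hs hna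
  exact EngG.of_check hna (o := 2) (N := 13685760) (M := 132) (b := 16) h1.le (by omega)
    [(2, 10), (3, 5), (5, 1), (11, 1)] []
    (by decide) (GoodPSU.card_of hF (by norm_num) (by decide)) (by decide)
    (fun e he => absurd he (by simp)) (by norm_num)
    (fun K hK => H934.IdxPSU.pow_le_index hF (by norm_num) (MulEquiv.refl _) K hK)
    [.J 11 1] (by decide +kernel)

/-- `PSp_4(4)` and `PSp_4(5)` -/
theorem psp {F : Type} [Field F] [Fintype F] {q : ℕ} (hF : Fintype.card F = q) (hq : q = 4 ∨ q = 5)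
    (hs : IsSimpleGroup (Cfsg.PSp 2 F)) (hna : ¬ IsMulCommutative (Cfsg.PSp 2 F)) :
    Good (Cfsg.PSp 2 F) := by
  obtain ⟨p, f, hp, hf, hFp⟩ := exists_pf F
  have := Fact.mk hp
  have : Finite (symplecticGroup (Fin 2) F) := Subtype.finite
  have : Finite (Cfsg.PSp 2 F) := inferInstance
  have h4 := Cfsg.Agent.S0814.result (F := F) p f hf hFp 2 le_rfl (fun _ => by rw [← hFp]; omega)
  obtain ⟨ho, -⟩ := RowPSp.card_out_le (m := 2) hp hFp (card_out_of_aut hna h4) hf
  have hk0 : Nat.card (ConjClasses (Cfsg.PSp 2 F)) ≤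
      Nat.card (ConjClasses (symplecticGroup (Fin 2) F)) :=
    card_conjClasses_le_of_surjective (QuotientGroup.mk' _) (QuotientGroup.mk'_surjective _)
  have hk : 5 * Nat.card (ConjClasses (Cfsg.PSp 2 F)) ≤ 76 * q ^ 2 := by
    rcases hq with h | h
    · have h1 := (Nat.mul_le_mul_left 5 hk0).trans (S2557.result (F := F) (by rw [hF, h]; decide) 2
        (by omega)).2
      rwa [hF] at h1
    · have h1 := (Nat.mul_le_mul_left 5 hk0).trans (S2482.result (F := F) (by rw [hF, h]; decide) 2
        (by omega)).2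
      rw [hF] at h1
      omega
  have hf3 : f < 3 := by
    by_contra hcon
    have : 2 ^ 3 ≤ p ^ f := (Nat.pow_le_pow_left hp.two_le 3).trans
      (Nat.pow_le_pow_right hp.pos (by omega))
    omega
  have hidx := (S2141.result hF 2 le_rfl (by omega) (by omega)).1
  have hk380 : Nat.card (ConjClasses (Cfsg.PSp 2 F)) ≤ 380 := by
    rcases hq with rfl | rfl <;> omega
  refine Good.of_bounds (c := 380) (o := 4) (L := 85) hk380 (by omega) (fun H hH => ?_) (by norm_num)
  refine le_trans ?_ (hidx H hH)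
  rcases hq with rfl | rfl <;> norm_num

/-- from degree `l` to degree `l + 1` -/
theorem step {T : Type*} [Group T] [Finite T] [hs : IsSimpleGroup T] (hna : ¬ IsMulCommutative T)
    {l : ℕ} (h : ∀ K : Subgroup T, K ≠ ⊤ → l ≤ K.index) (h' : ¬ Sit T l) :
    ∀ K : Subgroup T, K ≠ ⊤ → l + 1 ≤ K.index := by
  intro K hK
  have h1 := h K hK
  by_contra hcon
  exact h' ⟨hs, hna, h, K, hK, by omega⟩

theorem u33 {F : Type} [Field F] [Fintype F] (hF : Fintype.card F = 3 ^ 2)
    (hs : IsSimpleGroup (Cfsg.PSU 3 F 3)) (hna : ¬ IsMulCommutative (Cfsg.PSU 3 F 3)) :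
    Good (Cfsg.PSU 3 F 3) := by
  obtain ⟨h1, h2⟩ := psu_data (p := 3) (f := 1) (by norm_num) (by norm_num) (by norm_num) hF
    (by norm_num) (by norm_num) hs hna
  have hc : Nat.card (Cfsg.PSU 3 F 3) = 6048 := GoodPSU.card_of hF (by norm_num) (by decide)
  have h9 : ∀ K : Subgroup (Cfsg.PSU 3 F 3), K ≠ ⊤ → 9 ≤ K.index :=
    fun K hK => H934.IdxPSU.pow_le_index hF (by norm_num) (MulEquiv.refl _) K hK
  have hL : ∀ x ∈ [(2, 5), (3, 3), (7, 1)], (x : ℕ × ℕ).1.Prime := by decide
  have hN : Nat.card (Cfsg.PSU 3 F 3) = prodL [(2, 5), (3, 3), (7, 1)] := by rw [hc]; decide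
  have h10 := step hna h9 fun h => by
    have : Fact (Nat.Prime 7) := ⟨by norm_num⟩
    obtain ⟨x, hx⟩ := exists_prime_orderOf_dvd_card' (G := Cfsg.PSU 3 F 3) 7 (by rw [hc]; norm_num)
    have h3 := EngG.exC_spec h (by norm_num) hL hN (by rw [hc]; decide) (r := 7) (by norm_num)
      (by rw [hc]; norm_num) x hx
    rw [hc] at h3
    have h4 : EngG.exC [(2, 5), (3, 3), (7, 1)] 6048 9 7 = 0 := by decide +kernel
    rw [h4] at h3
    have h5 : 0 < Nat.card (Subgroup.centralizer ({x} : Set (Cfsg.PSU 3 F 3))) := Nat.card_pos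
    omega
  have h11 := step hna h10 fun h => by have := h.dvd; rw [hc] at this; revert this; norm_num
  have h12 := step hna h11 fun h => by have := h.dvd; rw [hc] at this; revert this; norm_num
  have h13 := step hna h12 fun h => by
    have := EngG.Sit.jj h (by norm_num) (r := 7) (k := 1) (by norm_num) (by norm_num)
      (by rw [hc]; norm_num) (by decide)
    rw [hc] at this
    revert this
    decide
  have h14 := step hna h13 fun h => by have := h.dvd; rw [hc] at this; revert this; norm_num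
  have h15 := step hna h14 fun h => by
    obtain ⟨f, hf, hprim⟩ := h.exists_hom
    have hcr : Nat.card f.range = 6048 := by
      rw [← hc]; exact (Nat.card_congr (MonoidHom.ofInjective hf).toEquiv).symm
    rcases S0720.result (p := 7) (by norm_num) (by rw [Fintype.card_fin]) f.range hprim 0 with h2 | ⟨-, a, ha, h3, -⟩
    · have h3 := H392.MultTrans.card_eq_descFactorial h2 (Fin.castLEEmb (by norm_num : 2 ≤ 14))
      rw [hcr, Nat.card_eq_fintype_card, Fintype.card_fin] at h3
      have h4 : Nat.descFactorial 14 2 ∣ 6048 := ⟨_, h3⟩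
      revert h4
      decide
    · have h4 : a < 2 := by nlinarith only [h3]
      interval_cases a
      omega
  exact Good.of_bounds (c := 74) (o := 2) (L := 15) (by norm_num at h2; omega) (by rw [h1]; decide)
    h15 (by norm_num)

end Cfsg.Agent.H539.GoodFin
end
end

-- part: H540/TabFin
section
prune_inst 0x4300025040722000000000010000000902100010000000000000401000800400000020000088001080020808000000020020000304000000000000000000005010000800000000000200000010000000000000000000000000000000000000000200000000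
set_option linter.all false
open scoped Cfsg.Agent.FastGrp

-- part: H540/AffFinal
section
/-!
# Class numbers of affine primitive groups: the bound
-/

set_option autoImplicit false

namespace Cfsg.Agent.H540.AffFinal

open MulAction Cfsg.Agent.H540.ClassNum Cfsg.Agent.H540.HalfBound Cfsg.Agent.H540.Dual
  Cfsg.Agent.H540.PermRed Cfsg.Agent.H540.LinB Cfsg.Agent.H540.LinC Cfsg.Agent.H540.PermStep
  Cfsg.Agent.H540.Affine Cfsg.Agent.H540.Blocks Cfsg.Agent.H540.AffSmall Cfsg.Agent.H540.AffEight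

theorem numA {r : ℕ} (hr : 32 ≤ r) : 16 * r ^ 2 * 3 ^ (r - 1) ≤ 4 ^ r := by
  have key : ∀ s, 31 ≤ s → 16 * (s + 1) ^ 2 * 3 ^ s ≤ 4 ^ (s + 1) := by
    intro s hs
    induction s, hs using Nat.le_induction with
    | base => norm_num
    | succ s hs ih =>
      have h1 : 3 * (s + 1 + 1) ^ 2 ≤ 4 * (s + 1) ^ 2 := by nlinarith only [hs]
      calc 16 * (s + 1 + 1) ^ 2 * 3 ^ (s + 1) = 16 * (3 * (s + 1 + 1) ^ 2) * 3 ^ s := by
            rw [pow_succ 3 s]; ring
        _ ≤ 16 * (4 * (s + 1) ^ 2) * 3 ^ s :=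
            Nat.mul_le_mul_right _ (Nat.mul_le_mul_left _ h1)
        _ = 4 * (16 * (s + 1) ^ 2 * 3 ^ s) := by ring
        _ ≤ 4 * 4 ^ (s + 1) := Nat.mul_le_mul_left _ ih
        _ = 4 ^ (s + 1 + 1) := by rw [pow_succ 4 (s + 1)]; ring
  obtain ⟨s, rfl⟩ := Nat.exists_eq_add_of_le' (show 1 ≤ r by omega)
  exact key s (by omega)

theorem numB {q r : ℕ} (hq : 3 ≤ q) (hr : 7 ≤ r) : 4 * (q * r) ^ 2 * 3 ^ (r - 1) ≤ 2 ^ (q * r) := by
  induction q, hq using Nat.le_induction with
  | base =>
    have key : ∀ s, 6 ≤ s → 36 * (s + 1) ^ 2 * 3 ^ s ≤ 8 ^ (s + 1) := by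
      intro s hs
      induction s, hs using Nat.le_induction with
      | base => norm_num
      | succ s hs ih =>
        have h1 : 3 * (s + 1 + 1) ^ 2 ≤ 8 * (s + 1) ^ 2 := by nlinarith only [hs]
        calc 36 * (s + 1 + 1) ^ 2 * 3 ^ (s + 1) = 36 * (3 * (s + 1 + 1) ^ 2) * 3 ^ s := by
              rw [pow_succ 3 s]; ring
          _ ≤ 36 * (8 * (s + 1) ^ 2) * 3 ^ s :=
              Nat.mul_le_mul_right _ (Nat.mul_le_mul_left _ h1)
          _ = 8 * (36 * (s + 1) ^ 2 * 3 ^ s) := by ring
          _ ≤ 8 * 8 ^ (s + 1) := Nat.mul_le_mul_left _ ih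
          _ = 8 ^ (s + 1 + 1) := by rw [pow_succ 8 (s + 1)]; ring
    obtain ⟨s, rfl⟩ := Nat.exists_eq_add_of_le' (show 1 ≤ r by omega)
    have h1 := key s (by omega)
    rw [pow_mul]
    calc 4 * (3 * (s + 1)) ^ 2 * 3 ^ (s + 1 - 1) = 36 * (s + 1) ^ 2 * 3 ^ s := by
          rw [Nat.add_sub_cancel]; ring
      _ ≤ 8 ^ (s + 1) := h1
      _ = (2 ^ 3) ^ (s + 1) := by norm_num
  | succ q hq ih =>
    have h1 : (q + 1) ^ 2 ≤ 2 * q ^ 2 := by nlinarith only [hq]
    have h2 : 2 ≤ 2 ^ r := by
      calc 2 = 2 ^ 1 := by norm_num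
        _ ≤ 2 ^ r := Nat.pow_le_pow_right (by norm_num) (by omega)
    calc 4 * ((q + 1) * r) ^ 2 * 3 ^ (r - 1) = (q + 1) ^ 2 * (4 * r ^ 2 * 3 ^ (r - 1)) := by ring
      _ ≤ (2 * q ^ 2) * (4 * r ^ 2 * 3 ^ (r - 1)) := Nat.mul_le_mul_right _ h1
      _ = 2 * (4 * (q * r) ^ 2 * 3 ^ (r - 1)) := by ring
      _ ≤ 2 ^ r * 2 ^ (q * r) := Nat.mul_le_mul h2 ih
      _ = 2 ^ ((q + 1) * r) := by rw [← pow_add]; congr 1; ring

/-- **Affine primitive groups.** -/
theorem affine {p n : ℕ} (ih : ∀ m, m < n → PB p m) {G : Type*} [Group G] [Finite G] {α : Type*}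
    [Finite α] [MulAction G α] [FaithfulSMul G α] (hα : Nat.card α = n) (hp : ¬ p ∣ Nat.card G)
    (hprim : IsPreprimitive G α) (N : Subgroup G) [hNn : N.Normal] (hN : N ≠ ⊥)
    (hab : ∀ a ∈ N, ∀ b ∈ N, a * b = b * a) : Nat.card (ConjClasses G) ^ 2 ≤ pr n := by
  classical
  -- a point
  have hne : Nonempty α := by
    by_contra hem
    rw [not_nonempty_iff] at hem
    apply hN
    rw [eq_bot_iff]
    intro x _
    rw [Subgroup.mem_bot]
    exact FaithfulSMul.eq_of_smul_eq_smul (α := α) fun a => (hem.false a).elim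
  obtain ⟨a⟩ := hne
  obtain ⟨q, d, hq, hd, hnq, hNq, hpow, hC, hmin⟩ := setup hprim N hN hab a
  rw [hα] at hnq
  have : Fact q.Prime := ⟨hq⟩
  have hq2 := hq.two_le
  rcases Nat.lt_or_ge d 2 with hd1 | hd2
  · -- prime degree
    have hd1' : d = 1 := by omega
    subst hd1'
    rw [pow_one] at hnq
    have h1 := prime_degree hprim N hN hab (by rw [hα, hnq]; exact hq)
    rw [hα, hnq] at h1
    have h2 := Nat.pow_le_pow_left h1 2
    rw [hnq]
    refine h2.trans ?_
    rcases Nat.lt_or_ge q 7 with h7 | h7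
    · interval_cases q <;> first | decide | (exfalso; revert hq; decide)
    · rw [pr_large h7]
      have key : ∀ m, 7 ≤ m → m ^ 2 ≤ 2 ^ m := by
        intro m hm
        induction m, hm using Nat.le_induction with
        | base => norm_num
        | succ m hm ihm =>
          rw [pow_succ 2 m]
          nlinarith only [hm, ihm]
      exact key q h7
  · obtain ⟨d', rfl⟩ := Nat.exists_eq_add_of_le' (show 1 ≤ d by omega)
    let _ : CommGroup N := comm N hab
    set! f : G ⧸ N →* MulAut N := act N hab with hf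
    have hfinj : Function.Injective f := act_injective N hab hC
    have hirr : Irr f := irr_act N hab hmin
    have hpow' : ∀ x : N, x ^ q = 1 := fun x => Subtype.ext (hpow x x.2)
    have hQs : ∀ lam : N →* ℂˣ, Qs N lam = stab f lam := by
      intro lam
      ext x
      rw [mem_Qs_iff N hab, mem_stab]
    have hpQ : ¬ p ∣ Nat.card (G ⧸ N) := fun h => hp (h.trans (Subgroup.card_quotient_dvd_card N))
    set! r := q ^ d' with hr
    have hnr : n = q * r := by rw [hnq, pow_succ, mul_comm]
    have hrpos : 0 < r := pow_pos hq.pos _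
    have hrn : r < n := by rw [hnr]; nlinarith only [hq2, hrpos]
    have hst : ∀ lam : N →* ℂˣ, lam ≠ 1 →
        Nat.card (ConjClasses (Qs N lam)) ^ 2 ≤ PermRed.sq r := by
      intro lam hlam
      rw [hQs]
      exact stab_PB hpow' hNq f hfinj lam hlam hpQ (ih r hrn)
    have hidx : ∀ lam : N →* ℂˣ, lam ≠ 1 → (Qs N lam).index ≤ n - 1 := by
      intro lam hlam
      rw [hQs, hnq, ← hNq]
      exact index_stab_le f lam hlam
    have hidx2 : ∀ lam : N →* ℂˣ, lam ≠ 1 → d' + 1 + 1 ≤ (Qs N lam).index := by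
      intro lam hlam
      rw [hQs]
      exact succ_le_index hpow' hNq hd2 f hirr lam hlam
    -- a nontrivial character
    obtain ⟨lam₀, hlam₀⟩ : ∃ lam : N →* ℂˣ, lam ≠ 1 := by
      by_contra hcon
      push Not at hcon
      have h1 : Nat.card (N →* ℂˣ) = 1 := by
        rw [Nat.card_eq_one_iff_unique]
        exact ⟨⟨fun a b => (hcon a).trans (hcon b).symm⟩, ⟨1⟩⟩
      rw [card_dual N hab, hNq] at h1
      have : 1 < q ^ (d' + 1) := Nat.one_lt_pow (by omega) hq.one_lt
      omega
    have hNn' : Nat.card N = n := by rw [hNq, hnq]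
    -- the general bound
    have hgen : ∀ K' : ℕ, (∀ lam : N →* ℂˣ, lam ≠ 1 → Nat.card (ConjClasses (Qs N lam)) ≤ K') →
        Nat.card (ConjClasses G) ≤ 2 * ((n - 1) * K') := by
      intro K' hK'
      have h1 : Nat.card (ConjClasses (G ⧸ N)) ≤ (n - 1) * K' :=
        (le_index_mul' (Qs N lam₀)).trans (Nat.mul_le_mul (hidx lam₀ hlam₀) (hK' lam₀ hlam₀))
      have h2 := affine_le N hab 1 ((n - 1) * K') K' h1 hK' (fun lam hlam => by
        have := hidx2 lam hlam
        omega)
      rw [hNn'] at h2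
      omega
    -- from squares to bounds
    have hsm : ∀ a b : ℕ, a ^ 2 < (b + 1) ^ 2 → a ≤ b := by
      intro a b hab
      by_contra hcon
      push Not at hcon
      have h1 : b + 1 ≤ a := hcon
      have := Nat.pow_le_pow_left h1 2
      omega
    -- the large cases
    have hlarge : 3 ≤ r → 7 ≤ n → 4 * n ^ 2 * 3 ^ (r - 1) ≤ 2 ^ n →
        Nat.card (ConjClasses G) ^ 2 ≤ pr n := by
      intro hr3 hn7 hnum
      rw [pr_large hn7]
      have h1 := hgen (Nat.sqrt (PermRed.sq r)) (fun lam hlam => by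
        rw [Nat.le_sqrt']
        exact hst lam hlam)
      calc Nat.card (ConjClasses G) ^ 2 ≤ (2 * ((n - 1) * Nat.sqrt (PermRed.sq r))) ^ 2 :=
            Nat.pow_le_pow_left h1 2
        _ = 4 * (n - 1) ^ 2 * (Nat.sqrt (PermRed.sq r)) ^ 2 := by ring
        _ ≤ 4 * n ^ 2 * PermRed.sq r := by
            refine Nat.mul_le_mul (Nat.mul_le_mul_left _ (Nat.pow_le_pow_left (by omega) 2))
              (Nat.sqrt_le' _)
        _ = 4 * n ^ 2 * 3 ^ (r - 1) := by rw [sq_three hr3]
        _ ≤ 2 ^ n := hnum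
    rcases Nat.lt_or_ge q 3 with hq3 | hq3
    · -- `q = 2`
      have hq2' : q = 2 := by omega
      subst hq2'
      rcases Nat.lt_or_ge d' 5 with hd5 | hd5
      · have hd'1 : 1 ≤ d' := by omega
        interval_cases d'
        · -- degree 4
          have hn4 : n = 4 := by rw [hnq]; norm_num
          have hr2 : r = 2 := by rw [hr]; norm_num
          have hK : Nat.card (ConjClasses (G ⧸ N)) ≤ 3 := by
            have h1 := (ih 3 (by omega)).of_injective (G := G ⧸ N) (α := {v : N // v ≠ 1})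
              (by rw [card_ne, hNn', hn4]) (permNe f) (permNe_injective f hfinj) hpQ
            exact hsm _ _ (lt_of_le_of_lt h1 (by decide))
          have hK' : ∀ lam : N →* ℂˣ, lam ≠ 1 → Nat.card (ConjClasses (Qs N lam)) ≤ 2 := by
            intro lam hlam
            have h1 := hst lam hlam
            rw [hr2] at h1
            exact hsm _ _ (lt_of_le_of_lt h1 (by decide))
          have h2 := affine_le N hab 3 3 2 hK hK' hidx2
          rw [hNn', hn4] at h2
          have h3 : Nat.card (ConjClasses G) ≤ 5 := by omega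
          rw [hn4]
          exact (Nat.pow_le_pow_left h3 2).trans (by decide)
        · -- degree 8
          have hn8 : n = 8 := by rw [hnq]; norm_num
          have hr4 : r = 4 := by rw [hr]; norm_num
          have hK : Nat.card (ConjClasses (G ⧸ N)) ≤ 8 :=
            GL_three_two hpow' (by rw [hNn', hn8]) f hfinj hirr
          have hK' : ∀ lam : N →* ℂˣ, lam ≠ 1 → Nat.card (ConjClasses (Qs N lam)) ≤ 5 := by
            intro lam hlam
            have h1 := hst lam hlam
            rw [hr4] at h1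
            exact hsm _ _ (lt_of_le_of_lt h1 (by decide))
          have h2 := affine_le N hab 4 8 5 hK hK' hidx2
          rw [hNn', hn8] at h2
          have h3 : Nat.card (ConjClasses G) ≤ 16 := by omega
          rw [hn8]
          exact (Nat.pow_le_pow_left h3 2).trans (by decide)
        · -- degree 16
          have hn16 : n = 16 := by rw [hnq]; norm_num
          have hr8 : r = 8 := by rw [hr]; norm_num
          have hK : Nat.card (ConjClasses (G ⧸ N)) ≤ 46 :=
            (KB_four (ih 8 (by omega))).of_injective hpow' hNq f hfinj hpQ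
          have hK' : ∀ lam : N →* ℂˣ, lam ≠ 1 → Nat.card (ConjClasses (Qs N lam)) ≤ 46 := by
            intro lam hlam
            have h1 := hst lam hlam
            rw [hr8] at h1
            exact hsm _ _ (lt_of_le_of_lt h1 (by decide))
          have h2 := affine_le N hab 5 46 46 hK hK' hidx2
          rw [hNn', hn16] at h2
          have h3 : Nat.card (ConjClasses G) ≤ 256 := by omega
          rw [hn16]
          exact (Nat.pow_le_pow_left h3 2).trans (by decide)
        · -- degree 32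
          have hn32 : n = 32 := by rw [hnq]; norm_num
          have h1 := hgen (2 ^ 4 * 46) (fun lam hlam => by
            rw [hQs]
            exact (KB_four (ih 8 (by omega))).stab_le hpow' hNq f hfinj lam hlam hpQ)
          rw [hn32] at h1 ⊢
          have h3 : Nat.card (ConjClasses G) ≤ 65536 := by omega
          exact (Nat.pow_le_pow_left h3 2).trans (by decide)
      · -- large dimension
        have hr32 : 32 ≤ r := by
          calc 32 = 2 ^ 5 := by norm_num
            _ ≤ r := Nat.pow_le_pow_right (by norm_num) hd5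
        apply hlarge (by omega) (by omega)
        have h1 := numA hr32
        rw [hnr, pow_mul]
        calc 4 * (2 * r) ^ 2 * 3 ^ (r - 1) = 16 * r ^ 2 * 3 ^ (r - 1) := by ring
          _ ≤ 4 ^ r := h1
          _ = (2 ^ 2) ^ r := by norm_num
    · -- `q ≥ 3`
      have hqr : q ≤ r := Nat.le_self_pow (by omega) q
      rcases Nat.lt_or_ge r 7 with hr7 | hr7
      · -- `q ∈ {3, 5}`, `d = 2`
        have hq7 : q < 7 := by omega
        have hd'1 : d' = 1 := by
          by_contra hne
          have h1 : q ^ 2 ≤ r := Nat.pow_le_pow_right hq.pos (by omega)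
          nlinarith only [hq3, hr7, h1]
        subst hd'1
        have hrq : r = q := by rw [hr, pow_one]
        have hqc : q = 3 ∨ q = 5 := by
          interval_cases q
          · left; rfl
          · exfalso; revert hq; decide
          · right; rfl
          · exfalso; revert hq; decide
        rcases hqc with h | h
        · -- degree 9
          subst h
          have hn9 : n = 9 := by rw [hnq]; norm_num
          have hK : Nat.card (ConjClasses (G ⧸ N)) ≤ 10 :=
            GL_two_three hpow' (by rw [hNn', hn9]) f hfinj hpQ (ih 4 (by omega))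
          have hK' : ∀ lam : N →* ℂˣ, lam ≠ 1 → Nat.card (ConjClasses (Qs N lam)) ≤ 3 := by
            intro lam hlam
            have h1 := hst lam hlam
            rw [hrq] at h1
            exact hsm _ _ (lt_of_le_of_lt h1 (by decide))
          have h2 := affine_le N hab 3 10 3 hK hK' hidx2
          rw [hNn', hn9] at h2
          have h3 : Nat.card (ConjClasses G) ≤ 22 := by omega
          rw [hn9]
          exact (Nat.pow_le_pow_left h3 2).trans (by decide)
        · -- degree 25
          subst h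
          have hn25 : n = 25 := by rw [hnq]; norm_num
          have h1 := hgen 9 (fun lam hlam => by
            have h1 := hst lam hlam
            rw [hrq] at h1
            exact hsm _ _ (lt_of_le_of_lt h1 (by decide)))
          rw [hn25] at h1 ⊢
          have h3 : Nat.card (ConjClasses G) ≤ 432 := by omega
          exact (Nat.pow_le_pow_left h3 2).trans (by decide)
      · apply hlarge (by omega) (by omega)
        rw [hnr]
        exact numB hq3 hr7

end Cfsg.Agent.H540.AffFinal
end

-- part: H540/ONan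
section
/-!
# The O'Nan–Scott part of the class number bound for `p'`-permutation groups

`prim_cases`: a primitive group of degree `n` and order prime to `p` satisfies `k² ≤ pr n` or its socle
is a non-abelian simple group.
-/

set_option autoImplicit false
set_option linter.unusedSectionVars false

open MulAction

namespace Cfsg.Agent.H540.ONan

open Cfsg.Agent.H540.ClassNum Cfsg.Agent.H540.PermRed Cfsg.Agent.H540.PermStep
  Cfsg.Agent.H539 Cfsg.Agent.H539.SocBound Cfsg.Agent.H539.CaseB

/-! ### arithmetic -/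

theorem sq_le_four {m : ℕ} (hm : 1 ≤ m) : PermRed.sq m ≤ 4 ^ (m - 1) := by
  rcases Nat.lt_or_ge m 3 with h | h
  · interval_cases m <;> decide
  · rw [sq_three h]
    exact Nat.pow_le_pow_left (by norm_num) _

theorem two_mul_le {d m : ℕ} (hd : 5 ≤ d) (hm : 2 ≤ m) : 2 * m * d ≤ d ^ m := by
  obtain ⟨k, rfl⟩ : ∃ k, m = k + 2 := ⟨m - 2, by omega⟩
  induction k with
  | zero =>
    rw [zero_add, pow_two]
    exact Nat.mul_le_mul_right _ (by omega)
  | succ k ih =>
    have e : k + 1 + 2 = (k + 2) + 1 := by ring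
    rw [e, pow_succ]
    have h1 := ih (by omega)
    calc 2 * (k + 2 + 1) * d ≤ (2 * (k + 2) * d) * 5 := by nlinarith only []
      _ ≤ d ^ (k + 2) * d := Nat.mul_le_mul h1 hd

/-- `C ^ (a) * 4 ^ b ≤ 2 ^ n` -/
theorem num {C d a b n : ℕ} (hC : C ≤ 2 ^ (d - 1)) (hd : 1 ≤ d) (hab : 2 * b ≤ a) (hn : a * d ≤ n) :
    C ^ a * 4 ^ b ≤ 2 ^ n := by
  have h4 : (4 : ℕ) ^ b = 2 ^ (2 * b) := by rw [pow_mul]; norm_num
  rw [h4]
  calc C ^ a * 2 ^ (2 * b) ≤ (2 ^ (d - 1)) ^ a * 2 ^ (2 * b) :=
        Nat.mul_le_mul_right _ (Nat.pow_le_pow_left hC a)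
    _ = 2 ^ ((d - 1) * a + 2 * b) := by rw [← pow_mul, ← pow_add]
    _ ≤ 2 ^ n := by
      apply Nat.pow_le_pow_right (by norm_num)
      obtain ⟨k, rfl⟩ : ∃ k, d = k + 1 := ⟨d - 1, by omega⟩
      rw [Nat.add_sub_cancel]
      have : a * (k + 1) = k * a + a := by ring
      omega

/-- a proper subgroup of order at least `4` -/
theorem exists_sub {T : Type*} [Group T] [Finite T] [IsSimpleGroup T] (hT : ¬ IsMulCommutative T) :
    ∃ K : Subgroup T, K ≠ ⊤ ∧ 4 * K.index ≤ Nat.card T := by
  have hT' : ∃ x y : T, x * y ≠ y * x := by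
    by_contra hcon
    push Not at hcon
    exact hT ⟨⟨hcon⟩⟩
  have key : ∃ r : ℕ, r.Prime ∧ r ^ 2 ∣ Nat.card T ∧ r ^ 2 < Nat.card T := by
    have h4 := SmallSimple.Embed.four_lt_card_of_not_comm hT
    rcases S0073.result hT' with h | h
    · have hr : (Nat.card T).minFac.Prime := Nat.minFac_prime (by omega)
      refine ⟨_, hr, (pow_dvd_pow _ (by norm_num)).trans h, ?_⟩
      refine lt_of_lt_of_le (Nat.pow_lt_pow_right hr.one_lt (by norm_num : 2 < 3)) ?_
      exact Nat.le_of_dvd Nat.card_pos h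
    · exact ⟨2, Nat.prime_two, dvd_trans (by norm_num) h, by omega⟩
  obtain ⟨r, hr, h1, h2⟩ := key
  have := Fact.mk hr
  obtain ⟨K, hK⟩ := Sylow.exists_subgroup_card_pow_prime r h1
  refine ⟨K, ?_, ?_⟩
  · rintro rfl
    rw [Subgroup.card_top] at hK
    omega
  · rw [← K.card_mul_index, hK]
    exact Nat.mul_le_mul_right _ (by nlinarith only [hr.two_le])

section Core

variable {G : Type*} [Group G] [Finite G] (N : Subgroup G) [N.Normal] {T : Type*} [Group T]
  [IsSimpleGroup T] (hT : ¬ IsMulCommutative T) (hC : Subgroup.centralizer (N : Set G) = ⊥) {m : ℕ}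
  (e : N ≃* (Fin m → T))

include hT hC e

theorem core {p : ℕ} (hp : ¬ p ∣ Nat.card G) (hPB : PB p m) : Nat.card (ConjClasses G) ^ 2 ≤
    (Nat.card (Cfsg.Out T) * Nat.card (ConjClasses T)) ^ (2 * m) * PermRed.sq m := by
  obtain ⟨π, hπ⟩ := card_conjClasses_le N hC hT e
  have h1 := hPB.range (α := Fin m) (by simp only [_root_.Nat.card_eq_fintype_card, _root_.Fintype.card_fin]) π hp
  calc Nat.card (ConjClasses G) ^ 2 ≤ ((Nat.card (Cfsg.Out T) * Nat.card (ConjClasses T)) ^ m *
        Nat.card (ConjClasses π.range)) ^ 2 := Nat.pow_le_pow_left hπ 2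
    _ = (Nat.card (Cfsg.Out T) * Nat.card (ConjClasses T)) ^ (2 * m) *
        Nat.card (ConjClasses π.range) ^ 2 := by rw [mul_pow, ← pow_mul, mul_comm m 2]
    _ ≤ _ := Nat.mul_le_mul_left _ h1

theorem core' {p : ℕ} (hp : ¬ p ∣ Nat.card G) (hPB : PB p m) (hm : 1 ≤ m) :
    Nat.card (ConjClasses G) ^ 2 ≤
      (Nat.card (Cfsg.Out T) * Nat.card (ConjClasses T)) ^ (2 * m) * 4 ^ (m - 1) :=
  (core N hT hC e hp hPB).trans (Nat.mul_le_mul_left _ (sq_le_four hm))

end Core

section Act

variable {G α : Type*} [Group G] [Finite G] [MulAction G α] [Finite α]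
  (N : Subgroup G) [N.Normal] [IsPretransitive N α] {T : Type*} [Group T] [Finite T] [IsSimpleGroup T]
  (hT : ¬ IsMulCommutative T) (hC : Subgroup.centralizer (N : Set G) = ⊥) {m : ℕ}
  (e : N ≃* (Fin m → T)) (a : α) {p : ℕ} (hp : ¬ p ∣ Nat.card G)
  (ih : ∀ k, k < Nat.card α → PB p k) (hOK : IdxOK T)

include hT hC e hp ih hOK

/-- product action with `m ≥ 2` factors -/
theorem product (hm : 2 ≤ m) (K : Fin m → Subgroup T) (hK : ∀ i, K i ≠ ⊤)
    (hstab : ∀ n : N, (n : G) ∈ stabilizer G a ↔ ∀ i, e n i ∈ K i) :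
    Nat.card (ConjClasses G) ^ 2 ≤ 2 ^ Nat.card α := by
  have h0 := degree_product N e a K hstab
  obtain ⟨i, _, hi⟩ := Finset.exists_min_image Finset.univ (fun i => (K i).index)
    ⟨⟨0, by omega⟩, Finset.mem_univ _⟩
  have h5 : 5 ≤ (K i).index := SmallSimple.Embed.five_le_index hT (K i) (hK i)
  have hn : (K i).index ^ m ≤ Nat.card α := by
    rw [h0]
    have h1 := Finset.pow_card_le_prod (s := (Finset.univ : Finset (Fin m))) (f := fun i => (K i).index)
      (n := (K i).index) (fun j hj => hi j hj)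
    simpa only [_root_.ge_iff_le, _root_.Finset.card_univ, _root_.Fintype.card_fin] using h1
  have h2 := two_mul_le h5 hm
  have hmn : m < Nat.card α := by nlinarith
  refine (core' N hT hC e hp (ih m hmn) (by omega)).trans ?_
  exact num (hOK (K i) (hK i)) (by omega) (by omega) (h2.trans hn)

/-- diagonal action -/
theorem diagonal (hm0 : 0 < m) (k : ℕ) (c : Fin m → Fin m) (hk : 2 ≤ k)
    (hc : ∀ j : Fin m, Nat.card {i : Fin m // c i = j} = k ∨
      Nat.card {i : Fin m // c i = j} = 0)
    (hstab : ∀ n : N, (n : G) ∈ stabilizer G a ↔ ∀ i j : Fin m, c i = c j → e n i = e n j) :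
    Nat.card (ConjClasses G) ^ 2 ≤ 2 ^ Nat.card α := by
  have h1 := degree_diagonal N e a c hstab
  have h2 := two_mul_card_range_le hk c hc
  obtain ⟨K, hK, hK4⟩ := exists_sub hT
  have h5 : 5 ≤ K.index := SmallSimple.Embed.five_le_index hT K hK
  set r := Nat.card (Set.range c) with hr
  have ht : 0 < Nat.card T := Nat.card_pos
  have h3 : Nat.card α = Nat.card T ^ (m - r) := by
    have h4 : Nat.card T ^ m = Nat.card T ^ (m - r) * Nat.card T ^ r := by
      rw [← pow_add]
      congr 1
      omega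
    rw [h4] at h1
    exact Nat.eq_of_mul_eq_mul_right (pow_pos ht _) h1
  have h6 := mul_le_pow (d := Nat.card T) (m := m - r) (by omega) (by omega)
  rw [← h3] at h6
  have h7 : 2 * m * K.index ≤ Nat.card α := by
    refine le_trans ?_ h6
    calc 2 * m * K.index ≤ 2 * (2 * (m - r)) * K.index :=
          Nat.mul_le_mul_right _ (Nat.mul_le_mul_left _ (by omega))
      _ = (4 * K.index) * (m - r) := by ring
      _ ≤ _ := Nat.mul_le_mul_right _ hK4
  have hmn : m < Nat.card α := by nlinarith only [hm0, h5, h7]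
  refine (core' N hT hC e hp (ih m hmn) (by omega)).trans ?_
  exact num (hOK K hK) (by omega) (by omega) h7

end Act

/-! ### two minimal normal subgroups -/

section Two

variable {G : Type*} [Group G] [Finite G] (M N : Subgroup G) [M.Normal] [N.Normal]
  (hMN : M ⊓ N = ⊥) (hCN : Subgroup.centralizer (N : Set G) = M) {T : Type*} [Group T] [Finite T]
  [IsSimpleGroup T] (hT : ¬ IsMulCommutative T) {m : ℕ} (e : N ≃* (Fin m → T)) (e' : M ≃* (Fin m → T))

include hMN hCN hT e e' in
theorem two_aux {p : ℕ} (hp : ¬ p ∣ Nat.card G) (hPB : PB p m) (hm : 1 ≤ m) :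
    Nat.card (ConjClasses G) ^ 2 ≤
      (Nat.card (Cfsg.Out T) * Nat.card (ConjClasses T)) ^ (4 * m) * 4 ^ (2 * (m - 1)) := by
  -- the subgroup `M`
  have hMp : ¬ p ∣ Nat.card M := not_dvd_sub hp M
  have hZ : Subgroup.center T = ⊥ := center_eq_bot hT
  have hM : Nat.card (ConjClasses M) ^ 2 ≤
      (Nat.card (Cfsg.Out T) * Nat.card (ConjClasses T)) ^ (2 * m) * 4 ^ (m - 1) := by
    let e1 : (⊤ : Subgroup M) ≃* (Fin m → T) := Subgroup.topEquiv.trans e'
    refine core' (⊤ : Subgroup M) hT ?_ e1 hMp hPB hm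
    rw [eq_bot_iff]
    intro x hx
    rw [Subgroup.mem_bot]
    apply e'.injective
    rw [map_one]
    funext i
    have h1 : e' x i ∈ Subgroup.center T := by
      rw [Subgroup.mem_center_iff]
      intro t
      have h2 := (Subgroup.mem_centralizer_iff.1 hx) (e'.symm (Pi.mulSingle i t)) (Subgroup.mem_top _)
      have h3 := congrFun (congrArg e' h2) i
      rw [map_mul, map_mul, e'.apply_symm_apply, Pi.mul_apply, Pi.mul_apply, Pi.mulSingle_eq_same] at h3
      exact h3
    rw [hZ, Subgroup.mem_bot] at h1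
    exact h1
  -- the quotient `G / M`
  have hQp : ¬ p ∣ Nat.card (G ⧸ M) := fun h => hp (h.trans (Subgroup.card_quotient_dvd_card M))
  have hQ : Nat.card (ConjClasses (G ⧸ M)) ^ 2 ≤
      (Nat.card (Cfsg.Out T) * Nat.card (ConjClasses T)) ^ (2 * m) * 4 ^ (m - 1) := by
    have hinj : Function.Injective ((QuotientGroup.mk' M).comp N.subtype) := by
      rw [← MonoidHom.ker_eq_bot_iff, eq_bot_iff]
      intro x hx
      rw [MonoidHom.mem_ker, MonoidHom.comp_apply, QuotientGroup.mk'_apply,
        QuotientGroup.eq_one_iff] at hx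
      have h1 : (x : G) ∈ M ⊓ N := ⟨hx, x.2⟩
      rw [hMN, Subgroup.mem_bot] at h1
      rw [Subgroup.mem_bot]
      exact Subtype.ext h1
    let N' : Subgroup (G ⧸ M) := N.map (QuotientGroup.mk' M)
    have hrange : ((QuotientGroup.mk' M).comp N.subtype).range = N' := by
      rw [MonoidHom.range_comp, Subgroup.range_subtype]
    have : N'.Normal := Subgroup.Normal.map inferInstance _ (QuotientGroup.mk'_surjective M)
    let e2 : N' ≃* (Fin m → T) :=
      ((MulEquiv.subgroupCongr hrange.symm).trans (MonoidHom.ofInjective hinj).symm).trans e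
    refine core' N' hT ?_ e2 hQp hPB hm
    rw [eq_bot_iff]
    intro y hy
    obtain ⟨g, rfl⟩ := QuotientGroup.mk'_surjective M y
    rw [Subgroup.mem_bot, QuotientGroup.mk'_apply, QuotientGroup.eq_one_iff, ← hCN,
      Subgroup.mem_centralizer_iff]
    intro n hn
    have h1 := (Subgroup.mem_centralizer_iff.1 hy) (QuotientGroup.mk' M n) ⟨n, hn, rfl⟩
    rw [← map_mul, ← map_mul] at h1
    have h2 : (n * g)⁻¹ * (g * n) ∈ M := QuotientGroup.eq.1 h1
    have h3 : (n * g)⁻¹ * (g * n) ∈ N := by
      have h4 : (n * g)⁻¹ * (g * n) = (g⁻¹ * n⁻¹ * g) * n := by group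
      rw [h4]
      refine mul_mem ?_ hn
      have h5 := (inferInstance : N.Normal).conj_mem n⁻¹ (inv_mem hn) g⁻¹
      rwa [inv_inv] at h5
    have h4 : (n * g)⁻¹ * (g * n) ∈ M ⊓ N := ⟨h2, h3⟩
    rw [hMN, Subgroup.mem_bot, inv_mul_eq_one] at h4
    exact h4
  have h1 := le_normal_mul_quotient M
  calc Nat.card (ConjClasses G) ^ 2
      ≤ (Nat.card (ConjClasses M) * Nat.card (ConjClasses (G ⧸ M))) ^ 2 := Nat.pow_le_pow_left h1 2
    _ = Nat.card (ConjClasses M) ^ 2 * Nat.card (ConjClasses (G ⧸ M)) ^ 2 := mul_pow _ _ _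
    _ ≤ _ := Nat.mul_le_mul hM hQ
    _ = _ := by
      have e1 : 4 * m = 2 * m + 2 * m := by ring
      have e2 : 2 * (m - 1) = (m - 1) + (m - 1) := by ring
      rw [e1, e2, pow_add, pow_add]
      ring

include hMN hCN hT e e' in
theorem two {p : ℕ} (hp : ¬ p ∣ Nat.card G) {n : ℕ} (hn : n = Nat.card N) (hm : 1 ≤ m)
    (ih : ∀ k, k < n → PB p k) (hOK : IdxOK T) : Nat.card (ConjClasses G) ^ 2 ≤ 2 ^ n := by
  have hn' : n = Nat.card T ^ m := by
    rw [hn, Nat.card_congr e.toEquiv, Nat.card_fun, Nat.card_eq_fintype_card (α := Fin m),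
      Fintype.card_fin]
  obtain ⟨K, hK, hK4⟩ := exists_sub hT
  have h5 : 5 ≤ K.index := SmallSimple.Embed.five_le_index hT K hK
  have h6 := mul_le_pow (d := Nat.card T) (m := m) (by omega) hm
  rw [← hn'] at h6
  have h7 : 4 * m * K.index ≤ n := by
    refine le_trans ?_ h6
    calc 4 * m * K.index = (4 * K.index) * m := by ring
      _ ≤ _ := Nat.mul_le_mul_right _ hK4
  have hmn : m < n := by nlinarith only [hm, h5, h7]
  refine (two_aux M N hMN hCN hT e e' hp (ih m hmn) hm).trans ?_
  exact num (hOK K hK) (by omega) (by omega) h7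

end Two

end Cfsg.Agent.H540.ONan
end

-- part: H540/Main
section
/-!
# The class number bound for primitive `p'`-groups from a table of simple groups

* `Row T`: the property of a simple group needed;
* `prim`: `Prim p n` from the table;
* `bound`: `PB p n` from the table.
-/

set_option autoImplicit false
set_option linter.unusedSectionVars false

open MulAction Equiv

namespace Cfsg.Agent.H540.Main

open Cfsg.Agent.H540.ClassNum Cfsg.Agent.H540.PermRed Cfsg.Agent.H540.PermStep
  Cfsg.Agent.H539 Cfsg.Agent.H539.SocBound Cfsg.Agent.H539.CaseB Cfsg.Agent.H540.ONan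
  Cfsg.Agent.H540.Good

/-- The property of the simple groups in the table -/
def Row (T : Type) [Group T] : Prop :=
  Good T ∨
  (Nat.card T = 60 ∧ Nat.card (Cfsg.Out T) ≤ 2 ∧ Nat.card (ConjClasses T) ≤ 5) ∨
  (Nat.card T = 360 ∧ Nat.card (Cfsg.Out T) ≤ 4 ∧ Nat.card (ConjClasses T) ≤ 7) ∨
  (Nat.card T = 168 ∧ Nat.card (Cfsg.Out T) ≤ 2 ∧ Nat.card (ConjClasses T) ≤ 6) ∨
  (Nat.card T = 504 ∧ Nat.card (Cfsg.Out T) ≤ 3 ∧ Nat.card (ConjClasses T) ≤ 13 ∧
    ∃ x : T, orderOf x = 9)

/-- the table -/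
def Tab (p : ℕ) : Prop := ∀ (T : Type) [Group T] [Finite T] [IsSimpleGroup T],
  ¬ IsMulCommutative T → ¬ p ∣ Nat.card T → Row T

theorem idx_ge {T : Type} [Group T] [Finite T] [IsSimpleGroup T] (hT : ¬ IsMulCommutative T)
    {c b : ℕ} (hc : Nat.card T = c) (h : ¬ 2 * c ∣ (b - 1).factorial) (K : Subgroup T) (hK : K ≠ ⊤) :
    b ≤ K.index := by
  by_contra hcon
  push Not at hcon
  apply h
  have h1 := SmallSimple.Embed.two_mul_card_dvd_factorial_index hT K hK
  rw [hc] at h1
  exact h1.trans (Nat.factorial_dvd_factorial (by omega))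

/-- `IdxOK` from the table -/
theorem Row.idxOK {T : Type} [Group T] [Finite T] [IsSimpleGroup T] (hT : ¬ IsMulCommutative T)
    (h : Row T) : IdxOK T := by
  rcases h with h | ⟨hc, ho, hk⟩ | ⟨hc, ho, hk⟩ | ⟨hc, ho, hk⟩ | ⟨hc, ho, hk, -⟩
  · intro K hK
    have h1 := h K hK
    have h5 := SmallSimple.Embed.five_le_index hT K hK
    rw [mul_comm] at h1
    by_contra hcon
    push Not at hcon
    have h2 : (2 ^ (K.index - 1)) ^ 2 < 2 ^ K.index :=
      lt_of_lt_of_le (Nat.pow_lt_pow_left hcon (by norm_num)) h1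
    rw [← pow_mul] at h2
    have h3 := (Nat.pow_lt_pow_iff_right (by norm_num : 1 < 2)).1 h2
    omega
  · exact IdxOK.of_k ho hk (SmallSimple.Embed.five_le_index hT) (by norm_num)
  · exact IdxOK.of_k ho hk (idx_ge hT (b := 6) hc (by decide)) (by norm_num)
  · exact IdxOK.of_k ho hk (SmallSimple.Embed.five_le_index hT) (by norm_num)
  · exact IdxOK.of_k ho hk (idx_ge hT (b := 7) hc (by decide)) (by norm_num)

/-- Jordan: a primitive group of order prime to `p ∈ {3, 5, 7}` and degree `≥ 7` does not contain a full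
Sylow `r`-subgroup of the symmetric group. -/
theorem jordan_absurd {n : ℕ} (hn : 7 ≤ n) (S : Subgroup (Perm (Fin n))) (hS : IsPreprimitive S (Fin n))
    {p : ℕ} (hp3 : p = 3 ∨ p = 5 ∨ p = 7) (hp : ¬ p ∣ Nat.card S) {r k : ℕ} (hr : r.Prime)
    (h3 : r + 3 ≤ n) (hN : r ^ k ∣ Nat.card S) (hl : ¬ r ^ (k + 1) ∣ n.factorial) : False := by
  obtain ⟨c, hcS, hc, hcs⟩ := EngG.exists_cycle hr (by omega) S hN hl
  have h1 := S0713.result S hS hr (by rw [Fintype.card_fin]; omega)
      (by rw [Fintype.card_fin]; exact h3) hc hcs hcS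
  have : Nontrivial (Fin n) := Fin.nontrivial_iff_two_le.2 (by omega)
  have h4 : 2 * Nat.card (alternatingGroup (Fin n)) = n.factorial := by
    rw [two_mul_nat_card_alternatingGroup, Nat.card_perm, Nat.card_eq_fintype_card, Fintype.card_fin]
  have hpp : p.Prime := by rcases hp3 with rfl | rfl | rfl <;> norm_num
  have h5 : p ∣ n.factorial := (hpp.dvd_factorial).2 (by omega)
  rw [← h4] at h5
  have h6 : p ∣ Nat.card (alternatingGroup (Fin n)) := by
    rcases (Nat.Prime.dvd_mul hpp).1 h5 with h | h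
    · exfalso
      have := Nat.le_of_dvd (by norm_num) h
      omega
    · exact h
  exact hp (h6.trans (Subgroup.card_dvd_of_le h1))

theorem not_alt {n : ℕ} (hn : 7 ≤ n) (S : Subgroup (Perm (Fin n)))
    {p : ℕ} (hp3 : p = 3 ∨ p = 5 ∨ p = 7) (hp : ¬ p ∣ Nat.card S) :
    ¬ alternatingGroup (Fin n) ≤ S := by
  intro h1
  have : Nontrivial (Fin n) := Fin.nontrivial_iff_two_le.2 (by omega)
  have h4 : 2 * Nat.card (alternatingGroup (Fin n)) = n.factorial := by
    rw [two_mul_nat_card_alternatingGroup, Nat.card_perm, Nat.card_eq_fintype_card, Fintype.card_fin]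
  have hpp : p.Prime := by rcases hp3 with rfl | rfl | rfl <;> norm_num
  have h5 : p ∣ n.factorial := (hpp.dvd_factorial).2 (by omega)
  rw [← h4] at h5
  have h6 : p ∣ Nat.card (alternatingGroup (Fin n)) := by
    rcases (Nat.Prime.dvd_mul hpp).1 h5 with h | h
    · exfalso
      have := Nat.le_of_dvd (by norm_num) h
      omega
    · exact h
  exact hp (h6.trans (Subgroup.card_dvd_of_le h1))

section AlmostSimple

variable {n : ℕ} (S : Subgroup (Perm (Fin n))) (hS : IsPreprimitive S (Fin n)) {p : ℕ}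
  (hp3 : p = 3 ∨ p = 5 ∨ p = 7) (hp : ¬ p ∣ Nat.card S) (N : Subgroup S) [N.Normal]
  (hC : Subgroup.centralizer (N : Set S) = ⊥) {T : Type} [Group T] [Finite T] [IsSimpleGroup T]
  (hT : ¬ IsMulCommutative T) (e : N ≃* (Fin 1 → T))

include hC e hT in
theorem card_dvd_aut : Nat.card S ∣ Nat.card (Cfsg.Out T) * Nat.card T := by
  let e1 : N ≃* T := e.trans (MulEquiv.piUnique (fun _ : Fin 1 => T))
  have hinj : Function.Injective (MulAut.conjNormal : S →* MulAut N) := by
    rw [← MonoidHom.ker_eq_bot_iff, eq_bot_iff, ← hC]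
    intro x hx
    rw [Subgroup.mem_centralizer_iff]
    intro y hy
    have h1 := congrArg (fun a : MulAut N => ((a ⟨y, hy⟩ : N) : S)) (MonoidHom.mem_ker.1 hx)
    have h2 : x * y * x⁻¹ = y := by
      have h3 := MulAut.conjNormal_apply x (⟨y, hy⟩ : N)
      rw [← h3]
      exact h1
    rw [mul_inv_eq_iff_eq_mul] at h2
    exact h2.symm
  have h1 := Subgroup.card_dvd_of_injective _ hinj
  rw [Nat.card_congr (MulAut.congr e1).toEquiv, ← H934.OutB.card_out_mul T hT] at h1
  exact h1

include e in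
theorem card_N : Nat.card N = Nat.card T :=
  Nat.card_congr (e.trans (MulEquiv.piUnique (fun _ : Fin 1 => T))).toEquiv

include e in
theorem card_T_dvd : Nat.card T ∣ Nat.card S := by
  rw [← card_N S N e]
  exact Subgroup.card_subgroup_dvd_card N

include e in
/-- the case `S = N` -/
theorem k_of_card_eq (h : Nat.card S = Nat.card T) :
    Nat.card (ConjClasses S) = Nat.card (ConjClasses T) := by
  have h1 : N = ⊤ := Subgroup.eq_top_of_card_eq N (by rw [card_N S N e, h])
  have e1 : S ≃* T := ((Subgroup.topEquiv (G := S)).symm.trans (MulEquiv.subgroupCongr h1.symm)).trans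
    (e.trans (MulEquiv.piUnique (fun _ : Fin 1 => T)))
  exact card_conjClasses_congr e1

include hS hp3 hp hC hT e in
/-- almost simple groups -/
theorem almost (h5 : 5 ≤ n) (hdvd : n ∣ Nat.card T) (hidx : ∃ K : Subgroup T, K ≠ ⊤ ∧ K.index = n)
    (hPB : PB p 1) (hrow : Row T) : Nat.card (ConjClasses S) ^ 2 ≤ pr n := by
  have hcore : Nat.card (ConjClasses S) ^ 2 ≤
      (Nat.card (Cfsg.Out T) * Nat.card (ConjClasses T)) ^ 2 := by
    have h1 := core N hT hC e hp hPB
    have h2 : PermRed.sq 1 = 1 := rfl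
    rwa [h2, mul_one, mul_one] at h1
  obtain ⟨K, hK, hKn⟩ := hidx
  have hSn : Nat.card S ∣ n.factorial := by
    have h1 := Subgroup.card_subgroup_dvd_card S
    rwa [Nat.card_perm, Nat.card_eq_fintype_card (α := Fin n), Fintype.card_fin] at h1
  have hTS := card_T_dvd S N e
  have hSA := card_dvd_aut S N hC hT e
  have hpr : ∀ {c : ℕ}, Nat.card (ConjClasses S) ≤ c → c ^ 2 ≤ pr n →
      Nat.card (ConjClasses S) ^ 2 ≤ pr n := fun h1 h2 => (Nat.pow_le_pow_left h1 2).trans h2
  have hpr' : ∀ {c : ℕ}, Nat.card (Cfsg.Out T) * Nat.card (ConjClasses T) ≤ c → c ^ 2 ≤ pr n →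
      Nat.card (ConjClasses S) ^ 2 ≤ pr n := fun h1 h2 =>
    hcore.trans ((Nat.pow_le_pow_left h1 2).trans h2)
  have hpow : ∀ {c m : ℕ}, 7 ≤ n → m ≤ n → c ≤ 2 ^ m → c ≤ pr n := fun h7 hm h => by
    rw [pr_large h7]
    exact h.trans (Nat.pow_le_pow_right (by norm_num) hm)
  rcases hrow with h | ⟨hc, ho, hk⟩ | ⟨hc, ho, hk⟩ | ⟨hc, ho, hk⟩ | ⟨hc, ho, hk, x, hx⟩
  · -- good
    have h1 := h K hK
    rw [hKn, mul_comm] at h1
    refine hcore.trans (h1.trans ?_)
    rcases Nat.lt_or_ge n 7 with h7 | h7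
    · interval_cases n <;> decide
    · rw [pr_large h7]
  · -- order 60
    rw [hc] at hTS hSA hdvd
    have hC10 : Nat.card (Cfsg.Out T) * Nat.card (ConjClasses T) ≤ 10 :=
      (Nat.mul_le_mul ho hk).trans (by norm_num)
    rcases Nat.lt_or_ge n 7 with h7 | h7
    · have hn : n = 5 ∨ n = 6 := by omega
      rcases hn with rfl | rfl
      · -- degree 5
        obtain ⟨c, hcS⟩ := hTS
        have h120 : Nat.factorial 5 = 120 := rfl
        rw [hcS, h120] at hSn
        have hc2 : c ∣ 2 := by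
          obtain ⟨d, hd⟩ := hSn
          exact ⟨d, by linarith only [hd]⟩
        rcases (Nat.dvd_prime Nat.prime_two).1 hc2 with rfl | rfl
        · refine hpr (c := 5) ?_ (by decide)
          rw [k_of_card_eq S N e (by rw [hcS, hc])]
          exact hk
        · have htop : S = ⊤ := by
            apply Subgroup.eq_top_of_card_eq
            rw [hcS, Nat.card_perm, Nat.card_eq_fintype_card, Fintype.card_fin]
            rfl
          refine hpr (c := 7) ?_ (by decide)
          subst htop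
          rw [card_conjClasses_congr (Subgroup.topEquiv (G := Perm (Fin 5)))]
          exact SmallSym.card_conjClasses_five
      · exact hpr' hC10 (by decide)
    · exact hpr' hC10 (hpow h7 h7 (by norm_num))
  · -- order 360
    have h360 := hc
    rw [hc] at hTS hSA hdvd
    have hC28 : Nat.card (Cfsg.Out T) * Nat.card (ConjClasses T) ≤ 28 :=
      (Nat.mul_le_mul ho hk).trans (by norm_num)
    rcases Nat.lt_or_ge n 10 with h10 | h10
    · have hn : n = 5 ∨ n = 6 ∨ n = 7 ∨ n = 8 ∨ n = 9 := by omega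
      rcases hn with rfl | rfl | rfl | rfl | rfl
      · exfalso
        have h1 := hTS.trans hSn
        revert h1
        decide
      · obtain ⟨c, hcS⟩ := hTS
        have h120 : Nat.factorial 6 = 720 := rfl
        rw [hcS, h120] at hSn
        have hc2 : c ∣ 2 := by
          obtain ⟨d, hd⟩ := hSn
          exact ⟨d, by linarith only [hd]⟩
        rcases (Nat.dvd_prime Nat.prime_two).1 hc2 with rfl | rfl
        · refine hpr (c := 7) ?_ (by decide)
          rw [k_of_card_eq S N e (by rw [hcS, hc])]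
          exact hk
        · have htop : S = ⊤ := by
            apply Subgroup.eq_top_of_card_eq
            rw [hcS, Nat.card_perm, Nat.card_eq_fintype_card, Fintype.card_fin]
            rfl
          refine hpr (c := 11) ?_ (by decide)
          subst htop
          rw [card_conjClasses_congr (Subgroup.topEquiv (G := Perm (Fin 6)))]
          exact SmallSym.card_conjClasses_six
      · exfalso
        revert hdvd
        decide
      · exact (jordan_absurd (by norm_num) S hS hp3 hp (r := 5) (k := 1) (by norm_num) (by norm_num)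
          (dvd_trans (by norm_num) hTS) (by decide)).elim
      · exact (jordan_absurd (by norm_num) S hS hp3 hp (r := 5) (k := 1) (by norm_num) (by norm_num)
          (dvd_trans (by norm_num) hTS) (by decide)).elim
    · exact hpr' hC28 (hpow (by omega) h10 (by norm_num))
  · -- order 168
    rw [hc] at hTS hSA hdvd
    have hC12 : Nat.card (Cfsg.Out T) * Nat.card (ConjClasses T) ≤ 12 :=
      (Nat.mul_le_mul ho hk).trans (by norm_num)
    rcases Nat.lt_or_ge n 8 with h8 | h8
    · have hn : n = 5 ∨ n = 6 ∨ n = 7 := by omega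
      rcases hn with rfl | rfl | rfl
      · exfalso
        have h1 := hTS.trans hSn
        revert h1
        decide
      · exfalso
        have h1 := hTS.trans hSn
        revert h1
        decide
      · obtain ⟨c, hcS⟩ := hTS
        have hcle : c ≤ 2 := by
          have h1 := Nat.le_of_dvd (by have := Nat.card_pos (α := Cfsg.Out T); omega) hSA
          rw [hcS] at h1
          have h2 : Nat.card (Cfsg.Out T) * 168 ≤ 2 * 168 := Nat.mul_le_mul_right _ ho
          omega
        have hc0 : c ≠ 0 := by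
          rintro rfl
          rw [mul_zero] at hcS
          exact Nat.card_pos.ne' hcS
        have hc12 : c = 1 ∨ c = 2 := by omega
        rcases hc12 with rfl | rfl
        · refine hpr (c := 6) ?_ (by decide)
          rw [k_of_card_eq S N e (by rw [hcS, hc])]
          exact hk
        · exact (jordan_absurd (by norm_num) S hS hp3 hp (r := 2) (k := 4) (by norm_num) (by norm_num)
            (by rw [hcS]; norm_num) (by decide)).elim
    · exact hpr' hC12 (hpow (by omega) h8 (by norm_num))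
  · -- order 504
    rw [hc] at hTS hSA hdvd
    have hC39 : Nat.card (Cfsg.Out T) * Nat.card (ConjClasses T) ≤ 39 :=
      (Nat.mul_le_mul ho hk).trans (by norm_num)
    rcases Nat.lt_or_ge n 11 with h11 | h11
    · have hn : n = 5 ∨ n = 6 ∨ n = 7 ∨ n = 8 ∨ n = 9 ∨ n = 10 := by (clear * - h5 h11; omega)
      rcases hn with rfl | rfl | rfl | rfl | rfl | rfl
      · exfalso
        revert hdvd
        decide
      · exfalso
        have h1 := hTS.trans hSn
        revert h1
        decide
      · have h7 : 2 * 504 ∣ Nat.factorial 7 := by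
          have h1 := SmallSimple.Embed.two_mul_card_dvd_factorial_index hT K hK
          rwa [hc, hKn] at h1
        exfalso
        have h3 : 3 ^ 2 ∣ Nat.card S := dvd_trans (by norm_num) hTS
        exact jordan_absurd (by norm_num) S hS hp3 hp (r := 3) (k := 2) (by norm_num) (by norm_num)
          h3 (by decide)
      · exfalso
        have h3 : 3 ^ 2 ∣ Nat.card S := dvd_trans (by norm_num) hTS
        exact jordan_absurd (by norm_num) S hS hp3 hp (r := 3) (k := 2) (by norm_num) (by norm_num)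
          h3 (by decide)
      · -- degree 9
        refine hpr (c := 19) ?_ (by decide)
        have hA := not_alt (by norm_num) S hp3 hp
        -- element of order 9
        let j : T →* S := N.subtype.comp
          (e.trans (MulEquiv.piUnique (fun _ : Fin 1 => T))).symm.toMonoidHom
        have hj : Function.Injective j := Subtype.coe_injective.comp
          (e.trans (MulEquiv.piUnique (fun _ : Fin 1 => T))).symm.injective
        have hy9 : orderOf (j x) = 9 := by rw [orderOf_injective j hj, hx]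
        have h7 : 7 ∣ Nat.card S := dvd_trans (by norm_num) hTS
        have : Fact (Nat.Prime 7) := ⟨by norm_num⟩
        obtain ⟨z, hz⟩ := exists_prime_orderOf_dvd_card' 7 h7
        let w : ℕ → S := fun r => if r = 7 then z else j x
        have h1 := EngG.card_conjClasses_le' (G := S) {7, 3} (by
          intro r hr
          simp only [Finset.mem_insert, Finset.mem_singleton] at hr
          rcases hr with rfl | rfl <;> norm_num) w (by
          intro r hr
          simp only [Finset.mem_insert, Finset.mem_singleton] at hr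
          rcases hr with rfl | rfl
          · exact ⟨1, by simp [w, hz]⟩
          · exact ⟨2, by simp [w, hy9]⟩)
        have hw7 : w 7 = z := by simp [w]
        have hw3 : w 3 = j x := by simp [w]
        rw [Finset.sum_pair (by norm_num), Finset.prod_pair (by norm_num), hw7, hw3] at h1
        have h2 := SmallSym.card_centralizer_seven S hS hA z hz
        have h3 : Nat.card (Subgroup.centralizer ({j x} : Set S)) ≤ 9 := by
          have hx' : orderOf ((j x : S) : Perm (Fin 9)) = 9 := by rw [Subgroup.orderOf_coe, hy9]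
          refine le_trans ?_ (SmallSym.card_centralizer_nine _ hx').le
          have hmap : (Subgroup.centralizer ({j x} : Set S)).map S.subtype ≤
              Subgroup.centralizer ({((j x : S) : Perm (Fin 9))} : Set (Perm (Fin 9))) := by
            rintro _ ⟨y, hy, rfl⟩
            have h3 := Subgroup.mem_centralizer_singleton_iff.1 hy
            rw [Subgroup.mem_centralizer_singleton_iff]
            exact congrArg Subtype.val h3
          have hcard : Nat.card ((Subgroup.centralizer ({j x} : Set S)).map S.subtype) =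
              Nat.card (Subgroup.centralizer ({j x} : Set S)) :=
            (Nat.card_congr (((Subgroup.centralizer ({j x} : Set S)).equivMapOfInjective S.subtype
              S.subtype_injective).toEquiv)).symm
          rw [← hcard]
          exact Subgroup.card_le_of_le hmap
        have h4 : Nat.card S ≤ 1512 := by
          have h5 := Nat.le_of_dvd (by have := Nat.card_pos (α := Cfsg.Out T); omega) hSA
          have h6 : Nat.card (Cfsg.Out T) * 504 ≤ 3 * 504 := Nat.mul_le_mul_right _ ho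
          omega
        have h5 : Nat.card S / (7 * 3) ^ 2 ≤ 3 := by
          have : Nat.card S / (7 * 3) ^ 2 ≤ 1512 / (7 * 3) ^ 2 := Nat.div_le_div_right h4
          refine this.trans (by norm_num)
        omega
      · exfalso
        revert hdvd
        decide
    · exact hpr' hC39 (hpow (by omega) h11 (by norm_num))

end AlmostSimple

/-! ### assembly -/

theorem card_pow {G : Type*} [Group G] (N : Subgroup G) {T : Type*} [Group T] {m : ℕ}
    (e : N ≃* (Fin m → T)) : Nat.card N = Nat.card T ^ m := by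
  rw [Nat.card_congr e.toEquiv, Nat.card_fun, Nat.card_eq_fintype_card (α := Fin m), Fintype.card_fin]

theorem not_dvd_T {G : Type*} [Group G] [Finite G] {p : ℕ} (hp : ¬ p ∣ Nat.card G) (N : Subgroup G)
    {T : Type*} [Group T] {m : ℕ} (hm : 0 < m) (e : N ≃* (Fin m → T)) : ¬ p ∣ Nat.card T := by
  intro h
  apply hp
  refine (h.trans (dvd_pow_self _ (by omega : m ≠ 0))).trans ?_
  rw [← card_pow N e]
  exact Subgroup.card_subgroup_dvd_card N

/-- small degrees: the minimal normal subgroups are abelian. -/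
theorem prim_small {p n : ℕ} (ih : ∀ m, m < n → PB p m) (hn : n < 5) : Prim p n := by
  intro S hS hp
  by_cases hbot : (⊤ : Subgroup S) = ⊥
  · have h1 : Nat.card S = 1 := by
      rw [← Subgroup.card_top, hbot, Subgroup.card_bot]
    have h2 := card_conjClasses_le_card (G := S)
    rw [h1] at h2
    have h3 : 1 ≤ pr n := by
      interval_cases n <;> decide
    exact (Nat.pow_le_pow_left h2 2).trans h3
  · obtain ⟨N, -, hNn, hN0, hmin⟩ := Asm.exists_min_normal (⊤ : Subgroup S) hbot
    have hab : IsMulCommutative N := by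
      by_contra hab
      have h60 := H168.NoSolv.sixty_le (Asm.not_solvable N hN0 hmin hab)
      have h1 : Nat.card N ≤ Nat.card S := Subgroup.card_le_card_group N
      have h2 : Nat.card S ≤ n.factorial := by
        have h3 := Subgroup.card_le_card_group S
        rwa [Nat.card_perm, Nat.card_eq_fintype_card (α := Fin n), Fintype.card_fin] at h3
      have h3 : n.factorial ≤ Nat.factorial 4 := Nat.factorial_le (by omega)
      have h4 : Nat.factorial 4 = 24 := rfl
      omega
    exact AffFinal.affine ih (by simp only [_root_.Nat.card_eq_fintype_card, _root_.Fintype.card_fin]) hp hS N hN0 (fun a ha b hb =>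
      congrArg Subtype.val (hab.is_comm.comm (⟨a, ha⟩ : N) ⟨b, hb⟩))

/-- degrees at least `5`. -/
theorem prim_large {p n : ℕ} (hp3 : p = 3 ∨ p = 5 ∨ p = 7) (tab : Tab p)
    (ih : ∀ m, m < n → PB p m) (hn : 5 ≤ n) : Prim p n := by
  intro S hS hp
  have hc : Nat.card (Fin n) = n := by simp only [_root_.Nat.card_eq_fintype_card, _root_.Fintype.card_fin]
  have ih' : ∀ m, m < Nat.card (Fin n) → PB p m := by rw [hc]; exact ih
  have hprn : 2 ^ n ≤ pr n := by
    rcases Nat.lt_or_ge n 7 with h7 | h7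
    · interval_cases n <;> decide
    · rw [pr_large h7]
  let a : Fin n := ⟨0, by omega⟩
  have hS0 : (⊤ : Subgroup S) ≠ ⊥ := by
    intro h
    obtain ⟨g, hg⟩ := MulAction.IsPretransitive.exists_smul_eq (M := S) a ⟨1, by omega⟩
    have h1 : g ∈ (⊤ : Subgroup S) := trivial
    rw [h, Subgroup.mem_bot] at h1
    rw [h1, one_smul] at hg
    have := congrArg Fin.val hg
    simp [a] at this
  obtain ⟨N, -, hNn, hN0, hmin⟩ := Asm.exists_min_normal (⊤ : Subgroup S) hS0
  have hNt : IsPretransitive N (Fin n) := Asm.trans_of_normal N hN0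
  by_cases hab : IsMulCommutative N
  · exact AffFinal.affine ih (by simp only [_root_.Nat.card_eq_fintype_card, _root_.Fintype.card_fin]) hp hS N hN0 (fun a ha b hb =>
      congrArg Subtype.val (hab.is_comm.comm (⟨a, ha⟩ : N) ⟨b, hb⟩))
  · by_cases huniq : ∀ L : Subgroup S, L.Normal → L ≠ ⊥ →
      (∀ M : Subgroup S, M.Normal → M ≤ L → M = ⊥ ∨ M = L) → L = N
    · have hC : Subgroup.centralizer (N : Set S) = ⊥ := by
        by_contra hne
        have hCn : (Subgroup.centralizer (N : Set S)).Normal := inferInstance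
        obtain ⟨L, hLC, hLn, hL0, hLmin⟩ := Asm.exists_min_normal _ hne
        have h1 := huniq L hLn hL0 hLmin
        rw [h1] at hLC
        apply hab
        refine ⟨⟨fun x y => Subtype.ext ?_⟩⟩
        exact (Subgroup.mem_centralizer_iff.1 (hLC y.2)) x.1 x.2
      obtain ⟨T, instT, m, e, hTs, hTna, hm0, hcase⟩ :=
        S0723.result S N hN0 hmin huniq hab a
      have hTf : Finite T := Finite.of_injective _ (SocBound.io_injective N e ⟨0, hm0⟩)
      have hrow : Row T := tab T hTna (not_dvd_T hp N hm0 e)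
      have hOK : IdxOK T := hrow.idxOK hTna
      rcases hcase with ⟨K, hK, hstab⟩ | ⟨k, c, hk, hcc, hstab⟩
      · rcases Nat.lt_or_ge m 2 with hm2 | hm2
        · have hm1 : m = 1 := by omega
          subst hm1
          have h0 := degree_product N e a K hstab
          rw [hc] at h0
          simp only [Finset.univ_unique, Fin.default_eq_zero, Fin.isValue,
            Finset.prod_singleton] at h0
          refine almost S hS hp3 hp N hC hTna e hn ?_ ⟨K 0, hK 0, h0.symm⟩ (ih 1 (by omega)) hrow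
          rw [h0]
          exact Subgroup.index_dvd_card (K 0)
        · have h1 := product N hTna hC e a hp ih' hOK hm2 K hK hstab
          rw [hc] at h1
          exact h1.trans hprn
      · have h1 := _root_.Cfsg.Agent.H540.ONan.diagonal N hTna hC e a hp ih' hOK hm0 k c hk hcc hstab
        rw [hc] at h1
        exact h1.trans hprn
    · push Not at huniq
      obtain ⟨L, hLn, hL0, hLmin, hLN⟩ := huniq
      have hLt : IsPretransitive L (Fin n) := Asm.trans_of_normal L hL0
      obtain ⟨hregL, hreg, -, ⟨ε⟩, -, hcen, -⟩ :=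
        S0704.result S L N hL0 hN0 hLmin hmin hLN hLt hNt
      -- the centralizer
      have hCN : Subgroup.centralizer (N : Set S) = L := by
        ext x
        rw [Subgroup.mem_centralizer_iff]
        have h1 : (x : Perm (Fin n)) ∈ Subgroup.centralizer
            ((N.map S.subtype : Subgroup (Perm (Fin n))) : Set (Perm (Fin n))) ↔
            (x : Perm (Fin n)) ∈ L.map S.subtype := by rw [hcen]
        rw [Subgroup.mem_centralizer_iff] at h1
        constructor
        · intro hx
          have h2 := h1.1 (by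
            rintro _ ⟨y, hy, rfl⟩
            exact congrArg Subtype.val (hx y hy))
          obtain ⟨z, hz, hzx⟩ := h2
          have : z = x := Subtype.ext hzx
          rwa [← this]
        · intro hx y hy
          have h2 := h1.2 ⟨x, hx, rfl⟩ y ⟨y, hy, rfl⟩
          exact Subtype.ext h2
      have hLN' : L ⊓ N = ⊥ := by
        rcases hmin (L ⊓ N) inferInstance inf_le_right with h | h
        · exact h
        · exfalso
          have h1 : N ≤ L := by rw [← h]; exact inf_le_left
          rcases hLmin N hNn h1 with h2 | h2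
          · exact hN0 h2
          · exact hLN h2.symm
      obtain ⟨T, instT, m, hTs, hm0, ⟨e⟩⟩ := S0721.result N hN0 hmin
      have hTna : ¬ IsMulCommutative T := by
        intro hcomm
        apply hab
        refine ⟨⟨fun x y => ?_⟩⟩
        apply e.injective
        rw [map_mul, map_mul]
        funext i
        exact hcomm.is_comm.comm _ _
      have hTf : Finite T := Finite.of_injective _ (SocBound.io_injective N e ⟨0, hm0⟩)
      have hrow : Row T := tab T hTna (not_dvd_T hp N hm0 e)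
      have hOK : IdxOK T := hrow.idxOK hTna
      have hcard := CaseA.card_regular N a (hreg a)
      have h1 := two L N hLN' hCN hTna e (ε.trans e) hp (n := n) (by rw [hcard, hc]) hm0 ih hOK
      exact h1.trans hprn

/-- **Primitive groups** -/
theorem prim {p n : ℕ} (hp3 : p = 3 ∨ p = 5 ∨ p = 7) (tab : Tab p)
    (ih : ∀ m, m < n → PB p m) : Prim p n := by
  rcases Nat.lt_or_ge n 5 with h | h
  · exact prim_small ih h
  · exact prim_large hp3 tab ih h

/-- **All permutation groups** -/
theorem bound {p : ℕ} (hp3 : p = 3 ∨ p = 5 ∨ p = 7) (tab : Tab p) (n : ℕ) : PB p n := by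
  induction n using Nat.strong_induction_on with
  | _ n ih =>
    exact PermStep.step ih fun m hm => prim hp3 tab fun k hk => ih k (lt_of_lt_of_le hk hm)

/-- **S4199 from the table** -/
theorem s4199 {p : ℕ} (hp3 : p = 3 ∨ p = 5 ∨ p = 7) (tab : Tab p) {α : Type*} [Fintype α]
    (S : Subgroup (Perm α)) (hprim : IsPreprimitive S α) (hn : 7 ≤ Fintype.card α)
    (hcop : ¬ p ∣ Nat.card S) : Nat.card (ConjClasses S) ^ 2 ≤ 2 ^ Fintype.card α := by
  have h1 := (prim hp3 tab (n := Fintype.card α) fun m _ => bound hp3 tab m).of_subgroup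
    (by rw [Nat.card_eq_fintype_card]) S hprim hcop
  rwa [pr_large hn] at h1

/-- **S4202 from the table** -/
theorem s4202 {p : ℕ} (hp3 : p = 3 ∨ p = 5 ∨ p = 7) (tab : Tab p) {α : Type*} [Fintype α]
    (S : Subgroup (Perm α)) (hn : 3 ≤ Fintype.card α)
    (hcop : ¬ p ∣ Nat.card S) : Nat.card (ConjClasses S) ^ 2 ≤ 3 ^ (Fintype.card α - 1) := by
  have h1 := (bound hp3 tab (Fintype.card α)).of_injective (G := S) (α := α)
    (by rw [Nat.card_eq_fintype_card]) S.subtype S.subtype_injective hcop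
  rwa [sq_three hn] at h1

end Cfsg.Agent.H540.Main
end

-- part: H540/RowSmall
section
/-!
# `Row T` for the simple groups of order 60, 168, 360, 504
-/

set_option autoImplicit false

namespace Cfsg.Agent.H540.RowSmall

open Cfsg.Agent.H540.ClassNum Cfsg.Agent.H934.OutB Cfsg.Agent.H934.OutCl Matrix
open Cfsg.Agent.H540.Main (Row)
open Cfsg.Agent.H540.Good (Good)

variable {T : Type} [Group T] [Finite T] [IsSimpleGroup T]

theorem noncomm {X : Type} [Group X] (hT : ¬ IsMulCommutative T) (e : T ≃* X) : ¬ IsMulCommutative X := by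
  intro h
  apply hT
  refine ⟨⟨fun a b => e.injective ?_⟩⟩
  rw [map_mul, map_mul]
  exact h.is_comm.comm _ _

/-- order 60 -/
theorem sixty (h : Nat.card T = 60) : Row T := by
  obtain ⟨e⟩ := S0494.result h
  refine Or.inr (Or.inl ⟨h, ?_, ?_⟩)
  · rw [card_out_congr e, H539.IdxAlt.card_out (n := 5) le_rfl (by norm_num)]
  · rw [← card_conjClasses_congr e.symm]
    exact H525.AltK.alt_five

/-- `PSL_2(q)` -/
theorem out_psl2 {F : Type} [Field F] [Fintype F] (p f : ℕ) (hp : p.Prime) (hf : 1 ≤ f)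
    (hF : Fintype.card F = p ^ f) (h4 : 4 ≤ p ^ f)
    (hs : IsSimpleGroup (ProjectiveSpecialLinearGroup (Fin 2) F))
    (hna : ¬ IsMulCommutative (ProjectiveSpecialLinearGroup (Fin 2) F)) :
    Nat.card (Cfsg.Out (ProjectiveSpecialLinearGroup (Fin 2) F)) = f * Nat.gcd 2 (p ^ f - 1) := by
  have := Fact.mk hp
  have := finite_psl (F := F) 2
  have h1 := Cfsg.Agent.S0813.result (F := F) p f hf hF 2 (by omega) (fun _ => h4)
  rw [if_pos rfl, card_pgl (by omega), ← mul_assoc, one_mul] at h1
  have h2 := card_out_of_aut hna h1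
  rw [h2, hF]

/-- order 168 -/
theorem oneSixtyEight (hT : ¬ IsMulCommutative T) (h : Nat.card T = 168) : Row T := by
  have h7 : Fact (Nat.Prime 7) := ⟨by norm_num⟩
  have hF : Fintype.card (ZMod 7) = 7 := ZMod.card 7
  obtain ⟨e⟩ := S0495.result h hF
  have hs : IsSimpleGroup (ProjectiveSpecialLinearGroup (Fin 2) (ZMod 7)) := e.symm.isSimpleGroup
  refine Or.inr (Or.inr (Or.inr (Or.inl ⟨h, ?_, ?_⟩)))
  · rw [card_out_congr e, out_psl2 7 1 (by norm_num) le_rfl (by rw [hF]; norm_num) (by norm_num) hs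
      (noncomm hT e)]
    norm_num
  · rw [← card_conjClasses_congr e.symm]
    have h1 := H525.PslK.psl2_odd (F := ZMod 7) (by rw [hF]; decide)
    rw [hF] at h1
    omega

/-- order 504 -/
theorem fiveOhFour (hT : ¬ IsMulCommutative T) (h : Nat.card T = 504) : Row T := by
  classical
  let F := GaloisField 2 3
  have hF8 : Nat.card F = 8 := by
    have := GaloisField.card 2 3 (by norm_num)
    rw [this]; norm_num
  have hFf : Finite F := Nat.finite_of_card_ne_zero (by rw [hF8]; norm_num)
  have : Fintype F := Fintype.ofFinite F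
  have hF : Fintype.card F = 8 := by rw [← Nat.card_eq_fintype_card, hF8]
  obtain ⟨e⟩ := S1011.result h hF
  have hs : IsSimpleGroup (ProjectiveSpecialLinearGroup (Fin 2) F) := e.symm.isSimpleGroup
  refine Or.inr (Or.inr (Or.inr (Or.inr ⟨h, ?_, ?_, ?_⟩)))
  · rw [card_out_congr e, out_psl2 2 3 (by norm_num) (by norm_num) (by rw [hF]; norm_num)
      (by norm_num) hs (noncomm hT e)]
    norm_num
  · rw [← card_conjClasses_congr e.symm]
    have h1 := H525.PslK.psl2_even (F := F) (by rw [hF]; decide)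
    rw [hF] at h1
    omega
  · obtain ⟨x, hx⟩ := H436.CompOne.exists_add F
    refine ⟨e.symm x, ?_⟩
    rw [MulEquiv.orderOf_eq, hx, hF]
    norm_num

/-- order 360 -/
theorem threeSixty (h : Nat.card T = 360) (hT : ¬ IsMulCommutative T) : Row T := by
  classical
  obtain ⟨e₀⟩ := S0497.result h
  let F := GaloisField 3 2
  have hF9 : Nat.card F = 9 := by
    have := GaloisField.card 3 2 (by norm_num)
    rw [this]; norm_num
  have hFf : Finite F := Nat.finite_of_card_ne_zero (by rw [hF9]; norm_num)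
  have : Fintype F := Fintype.ofFinite F
  have hF : Fintype.card F = 9 := by rw [← Nat.card_eq_fintype_card, hF9]
  obtain ⟨e₁⟩ := S0254.result hF
  have e := e₀.trans e₁.symm
  have hs : IsSimpleGroup (ProjectiveSpecialLinearGroup (Fin 2) F) := e.symm.isSimpleGroup
  refine Or.inr (Or.inr (Or.inl ⟨h, ?_, ?_⟩))
  · rw [card_out_congr e, out_psl2 3 2 (by norm_num) (by norm_num) (by rw [hF]; norm_num)
      (by norm_num) hs (noncomm hT e)]
    norm_num
  · rw [← card_conjClasses_congr e₀.symm]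
    exact H525.AltK.alt_six

/-- **the four small orders** -/
theorem row (hT : ¬ IsMulCommutative T)
    (h : Nat.card T = 60 ∨ Nat.card T = 168 ∨ Nat.card T = 360 ∨ Nat.card T = 504) : Row T := by
  rcases h with h | h | h | h
  · exact sixty h
  · exact oneSixtyEight hT h
  · exact threeSixty h hT
  · exact fiveOhFour hT h

end Cfsg.Agent.H540.RowSmall
end

-- part: H540/Filter
section
/-!
# The known simple groups of order prime to 3, 5 or 7

`filter`: `A₅`, `A₆`, linear, symplectic, unitary, `G₂`, `³D₄`, Suzuki, Ree, `²F₄`, Tits, `M₁₁`, `M₁₂`, `J₃`.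
-/

set_option autoImplicit false

namespace Cfsg.Agent.H540.Filter

open Cfsg

theorem key {q r : ℕ} (hr : r = 3 ∨ r = 5 ∨ r = 7) : r ∣ q ∨ r ∣ q ^ 4 - 1 ∨ r ∣ q ^ 6 - 1 := by
  by_cases h : r ∣ q
  · exact Or.inl h
  right
  have h1 : 1 ≤ q := by
    rcases Nat.eq_zero_or_pos q with h0 | h0
    · rw [h0] at h; simp at h
    · exact h0
  rcases hr with rfl | rfl | rfl
  · left
    refine (Nat.modEq_iff_dvd' (Nat.one_le_pow _ _ h1)).1 ?_
    have : q % 3 = 1 ∨ q % 3 = 2 := by omega
    rcases this with h | h <;> simp [Nat.ModEq, Nat.pow_mod, h]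
  · left
    refine (Nat.modEq_iff_dvd' (Nat.one_le_pow _ _ h1)).1 ?_
    have : q % 5 = 1 ∨ q % 5 = 2 ∨ q % 5 = 3 ∨ q % 5 = 4 := by omega
    rcases this with h | h | h | h <;> simp [Nat.ModEq, Nat.pow_mod, h]
  · right
    refine (Nat.modEq_iff_dvd' (Nat.one_le_pow _ _ h1)).1 ?_
    have : q % 7 = 1 ∨ q % 7 = 2 ∨ q % 7 = 3 ∨ q % 7 = 4 ∨ q % 7 = 5 ∨ q % 7 = 6 := by (clear * - h; solve | lia | omega)
    rcases this with h | h | h | h | h | h <;> simp [Nat.ModEq, Nat.pow_mod, h]

/-- the products occurring for the classical groups -/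
theorem dvd_prod {q r a m : ℕ} (hr : r = 3 ∨ r = 5 ∨ r = 7) (ha : 1 ≤ a) (hm : 3 ≤ m) :
    r ∣ q ^ a * ∏ i ∈ Finset.range m, (q ^ (2 * (i + 1)) - 1) := by
  rcases key (q := q) hr with h | h | h
  · exact (h.trans (dvd_pow_self q (by omega))).mul_right _
  · exact (h.trans (Finset.dvd_prod_of_mem (fun i => q ^ (2 * (i + 1)) - 1)
      (Finset.mem_range.2 (show 1 < m by omega)))).mul_left _
  · exact (h.trans (Finset.dvd_prod_of_mem (fun i => q ^ (2 * (i + 1)) - 1)
      (Finset.mem_range.2 (show 2 < m by omega)))).mul_left _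

theorem sub_dvd (q a b : ℕ) : q ^ a - 1 ∣ q ^ (a * b) - 1 := by
  rw [pow_mul]
  simpa only [] using Nat.sub_one_dvd_pow_sub_one (q ^ a) b

theorem coprime_of {r d : ℕ} (hr : r = 3 ∨ r = 5 ∨ r = 7) (hd : d ∣ 4) : r.Coprime d := by
  refine Nat.Coprime.coprime_dvd_right hd ?_
  rcases hr with rfl | rfl | rfl <;> norm_num

/-- with denominator dividing `3` -/
theorem of_three {r d c X : ℕ} (hr : r = 3 ∨ r = 5 ∨ r = 7) (hd : d ∣ 3) (h : d * c = X)
    (h9 : r = 3 → 9 ∣ X) (hX : r ∣ X) : r ∣ c := by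
  rw [← h] at h9 hX
  rcases hr with rfl | rfl | rfl
  · have h1 := h9 rfl
    rcases (Nat.dvd_prime Nat.prime_three).1 hd with rfl | rfl
    · (clear * - h1; omega)
    · omega
  · exact (Nat.Coprime.coprime_dvd_right hd (by norm_num)).dvd_of_dvd_mul_left hX
  · exact (Nat.Coprime.coprime_dvd_right hd (by norm_num)).dvd_of_dvd_mul_left hX

theorem three_dvd {q : ℕ} (h : ¬ 3 ∣ q) (k : ℕ) : 3 ∣ q ^ (2 * k) - 1 := by
  have h1 : q ^ 2 ≡ 1 [MOD 3] := by
    have : q % 3 = 1 ∨ q % 3 = 2 := by omega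
    rcases this with h | h <;> simp [Nat.ModEq, Nat.pow_mod, h]
  have h2 : q ^ (2 * k) ≡ 1 [MOD 3] := by
    rw [pow_mul]
    simpa using h1.pow k
  have h3 : 1 ≤ q ^ (2 * k) := Nat.one_le_pow _ _ (by
    rcases Nat.eq_zero_or_pos q with h0 | h0
    · simp [h0] at h
    · exact h0)
  exact (Nat.modEq_iff_dvd' h3).1 h2.symm

theorem nine {q a : ℕ} (ha : 2 ≤ a) (Y : ℕ) : 9 ∣ q ^ a * ((q ^ 2 - 1) * (q ^ 6 - 1) * Y) := by
  by_cases h : 3 ∣ q
  · apply Dvd.dvd.mul_right
    exact (show (9 : ℕ) = 3 ^ 2 by norm_num) ▸ (pow_dvd_pow 3 ha).trans (pow_dvd_pow_of_dvd h a)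
  · apply Dvd.dvd.mul_left
    apply Dvd.dvd.mul_right
    exact (show (9 : ℕ) = 3 * 3 by norm_num) ▸ mul_dvd_mul (three_dvd h 1) (three_dvd h 3)

/-- `r ∣ q ^ a (q ^ 8 - 1) (q ^ 12 - 1) Y` -/
theorem exc {q r a : ℕ} (hr : r = 3 ∨ r = 5 ∨ r = 7) (ha : 1 ≤ a) (Y : ℕ) :
    r ∣ q ^ a * ((q ^ 8 - 1) * (q ^ 12 - 1) * Y) := by
  rcases key (q := q) hr with h | h | h
  · exact (h.trans (dvd_pow_self q (by omega))).mul_right _
  · exact (((h.trans (sub_dvd q 4 2)).mul_right _).mul_right _).mul_left _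
  · exact (((h.trans (sub_dvd q 6 2)).mul_left _).mul_right _).mul_left _

theorem alt_card {S : Type*} [Group S] {n : ℕ} (hn : 5 ≤ n) (e : S ≃* ↥(alternatingGroup (Fin n))) :
    n.factorial = 2 * Nat.card S := OrdDiv.alt_card hn e

theorem spor (T : OrdDiv.OrderTable.{0}) {G : Type} [Group G] (h : IsSporadicGroup G) :
    105 ∣ Nat.card G ∨ Spor.IsoM11 G ∨ Spor.IsoM12 G ∨ Spor.IsoJ3 G := by
  have key : ∀ (g : OrdDiv.Grp) (o : ℕ), (g, o) ∈ OrdDiv.spor → OrdDiv.Real g G → Nat.card G = o :=
    fun g o hg hr => T.spor G (g, o) hg hr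
  rcases h with h | h | h | h | h | h | h | h | h | h | h | h | h | h | h | h | h | h | h | h | h | h | h | h | h | h
  · exact Or.inr (Or.inl h)
  · exact Or.inr (Or.inr (Or.inl h))
  · left; rw [key .m22 443520 (by simp only [OrdDiv.spor, _root_.List.mem_cons, _root_.Prod.mk.injEq, _root_.reduceCtorEq, _root_.Nat.reduceEqDiff, _root_.and_self, _root_.List.not_mem_nil, _root_.or_self, _root_.or_false, _root_.or_true]) h]; norm_num
  · left; rw [key .m23 10200960 (by simp only [OrdDiv.spor, _root_.List.mem_cons, _root_.Prod.mk.injEq, _root_.reduceCtorEq, _root_.Nat.reduceEqDiff, _root_.and_self, _root_.List.not_mem_nil, _root_.or_self, _root_.or_false, _root_.or_true]) h]; norm_num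
  · left; rw [key .m24 244823040 (by simp only [OrdDiv.spor, _root_.List.mem_cons, _root_.Prod.mk.injEq, _root_.reduceCtorEq, _root_.Nat.reduceEqDiff, _root_.and_self, _root_.List.not_mem_nil, _root_.or_self, _root_.or_false, _root_.or_true]) h]; norm_num
  · left; rw [key .j1 175560 (by simp only [OrdDiv.spor, _root_.List.mem_cons, _root_.Prod.mk.injEq, _root_.reduceCtorEq, _root_.Nat.reduceEqDiff, _root_.and_self, _root_.List.not_mem_nil, _root_.or_self, _root_.or_false, _root_.or_true]) h]; norm_num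
  · left; rw [key .j2 604800 (by simp only [OrdDiv.spor, _root_.List.mem_cons, _root_.Prod.mk.injEq, _root_.reduceCtorEq, _root_.Nat.reduceEqDiff, _root_.and_self, _root_.List.not_mem_nil, _root_.or_self, _root_.or_false, _root_.or_true]) h]; norm_num
  · exact Or.inr (Or.inr (Or.inr h))
  · left; rw [key .j4 86775571046077562880 (by simp only [OrdDiv.spor, _root_.List.mem_cons, _root_.Prod.mk.injEq, _root_.reduceCtorEq, _root_.Nat.reduceEqDiff, _root_.and_self, _root_.List.not_mem_nil, _root_.or_self, _root_.or_false, _root_.or_true]) h]; norm_num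
  · left; rw [key .co1 4157776806543360000 (by simp only [OrdDiv.spor, _root_.List.mem_cons, _root_.Prod.mk.injEq, _root_.reduceCtorEq, _root_.Nat.reduceEqDiff, _root_.and_self, _root_.List.not_mem_nil, _root_.or_self, _root_.or_false, _root_.or_true]) h]; norm_num
  · left; rw [key .co2 42305421312000 (by simp only [OrdDiv.spor, _root_.List.mem_cons, _root_.Prod.mk.injEq, _root_.reduceCtorEq, _root_.Nat.reduceEqDiff, _root_.and_self, _root_.List.not_mem_nil, _root_.or_self, _root_.or_false, _root_.or_true]) h]; norm_num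
  · left; rw [key .co3 495766656000 (by simp only [OrdDiv.spor, _root_.List.mem_cons, _root_.Prod.mk.injEq, _root_.reduceCtorEq, _root_.Nat.reduceEqDiff, _root_.and_self, _root_.List.not_mem_nil, _root_.or_self, _root_.or_false, _root_.or_true]) h]; norm_num
  · left; rw [key .mcl 898128000 (by simp only [OrdDiv.spor, _root_.List.mem_cons, _root_.Prod.mk.injEq, _root_.reduceCtorEq, _root_.Nat.reduceEqDiff, _root_.and_self, _root_.List.not_mem_nil, _root_.or_self, _root_.or_false, _root_.or_true]) h]; norm_num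
  · left; rw [key .hs 44352000 (by simp only [OrdDiv.spor, _root_.List.mem_cons, _root_.Prod.mk.injEq, _root_.reduceCtorEq, _root_.Nat.reduceEqDiff, _root_.and_self, _root_.List.not_mem_nil, _root_.or_self, _root_.or_false, _root_.or_true]) h]; norm_num
  · left; rw [key .suz 448345497600 (by simp only [OrdDiv.spor, _root_.List.mem_cons, _root_.Prod.mk.injEq, _root_.reduceCtorEq, _root_.Nat.reduceEqDiff, _root_.and_self, _root_.List.not_mem_nil, _root_.or_self, _root_.or_false, _root_.or_true]) h]; norm_num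
  · left; rw [key .he 4030387200 (by simp only [OrdDiv.spor, _root_.List.mem_cons, _root_.Prod.mk.injEq, _root_.reduceCtorEq, _root_.Nat.reduceEqDiff, _root_.and_self, _root_.List.not_mem_nil, _root_.or_self, _root_.or_false, _root_.or_true]) h]; norm_num
  · left; rw [key .ru 145926144000 (by simp only [OrdDiv.spor, _root_.List.mem_cons, _root_.Prod.mk.injEq, _root_.reduceCtorEq, _root_.Nat.reduceEqDiff, _root_.and_self, _root_.List.not_mem_nil, _root_.or_self, _root_.or_false, _root_.or_true]) h]; norm_num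
  · left; rw [key .on 460815505920 (by simp only [OrdDiv.spor, _root_.List.mem_cons, _root_.Prod.mk.injEq, _root_.reduceCtorEq, _root_.Nat.reduceEqDiff, _root_.and_self, _root_.List.not_mem_nil, _root_.or_self, _root_.or_false, _root_.or_true]) h]; norm_num
  · left; rw [key .ly 51765179004000000 (by simp only [OrdDiv.spor, _root_.List.mem_cons, _root_.Prod.mk.injEq, _root_.reduceCtorEq, _root_.Nat.reduceEqDiff, _root_.and_self, _root_.List.not_mem_nil, _root_.or_self, _root_.or_false, _root_.or_true]) h]; norm_num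
  · left; rw [key .fi22 64561751654400 (by simp only [OrdDiv.spor, _root_.List.mem_cons, _root_.Prod.mk.injEq, _root_.reduceCtorEq, _root_.Nat.reduceEqDiff, _root_.and_self, _root_.List.not_mem_nil, _root_.or_self, _root_.or_false, _root_.or_true]) h]; norm_num
  · left; rw [key .fi23 4089470473293004800 (by simp only [OrdDiv.spor, _root_.List.mem_cons, _root_.Prod.mk.injEq, _root_.reduceCtorEq, _root_.Nat.reduceEqDiff, _root_.and_self, _root_.List.not_mem_nil, _root_.or_self, _root_.or_false, _root_.or_true]) h]; norm_num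
  · left; rw [key .fi24 1255205709190661721292800 (by simp only [OrdDiv.spor, _root_.List.mem_cons, _root_.Prod.mk.injEq, _root_.reduceCtorEq, _root_.Nat.reduceEqDiff, _root_.and_self, _root_.List.not_mem_nil, _root_.or_self, _root_.or_false, _root_.or_true]) h]; norm_num
  · left; rw [key .hn 273030912000000 (by simp only [OrdDiv.spor, _root_.List.mem_cons, _root_.Prod.mk.injEq, _root_.reduceCtorEq, _root_.Nat.reduceEqDiff, _root_.and_self, _root_.List.not_mem_nil, _root_.or_self, _root_.or_false, _root_.or_true]) h]; norm_num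
  · left; rw [key .th 90745943887872000 (by simp only [OrdDiv.spor, _root_.List.mem_cons, _root_.Prod.mk.injEq, _root_.reduceCtorEq, _root_.Nat.reduceEqDiff, _root_.and_self, _root_.List.not_mem_nil, _root_.or_self, _root_.or_false, _root_.or_true]) h]; norm_num
  · left; rw [key .b 4154781481226426191177580544000000 (by simp only [OrdDiv.spor, _root_.List.mem_cons, _root_.Prod.mk.injEq, _root_.reduceCtorEq, _root_.Nat.reduceEqDiff, _root_.and_self, _root_.List.not_mem_nil, _root_.or_self, _root_.or_false, _root_.or_true]) h]; norm_num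
  · left; rw [key .m 808017424794512875886459904961710757005754368000000000 (by simp only [OrdDiv.spor, _root_.List.mem_cons, _root_.Prod.mk.injEq, _root_.reduceCtorEq, _root_.Nat.reduceEqDiff, _root_.and_self, _root_.List.not_mem_nil, _root_.or_false, _root_.or_true]) h]; norm_num

/-- **The known simple groups of order prime to `r ∈ {3, 5, 7}`.** -/
theorem filter (T : OrdDiv.OrderTable.{0}) {G : Type} [Group G] [Finite G]
    (hna : ¬ IsMulCommutative G) (hk : IsKnownSimple' G) {r : ℕ} (hr : r = 3 ∨ r = 5 ∨ r = 7)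
    (hd : ¬ r ∣ Nat.card G) :
    Nonempty (G ≃* alternatingGroup (Fin 5)) ∨ Nonempty (G ≃* alternatingGroup (Fin 6)) ∨
    IsPSL G ∨ IsPSp G ∨ IsPSU G ∨ Lie.IsoChevG2 G ∨ Lie.Iso3D4 G ∨ Lie.IsoSuzuki G ∨ Lie.IsoRee G ∨
    Lie.Iso2F4 G ∨ Lie.IsoTits G ∨ Spor.IsoM11 G ∨ Spor.IsoM12 G ∨ Spor.IsoJ3 G := by
  have hrp : r.Prime := by rcases hr with rfl | rfl | rfl <;> norm_num
  rcases hk with h | h | h | h | h | h | h | h | h | h
  · exfalso
    apply hna
    have : Fact (Nat.card G).Prime := ⟨h⟩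
    have : IsCyclic G := isCyclic_of_prime_card (p := Nat.card G) rfl
    exact IsCyclic.isMulCommutative (α := G)
  · obtain ⟨n, hn, ⟨e⟩⟩ := h
    have hn7 : n < 7 := by
      by_contra hcon
      push Not at hcon
      apply hd
      have h1 := alt_card hn e
      have h2 : r ∣ n.factorial := hrp.dvd_factorial.2 (by omega)
      rw [h1] at h2
      rcases (Nat.Prime.dvd_mul hrp).1 h2 with h3 | h3
      · have := Nat.le_of_dvd (by norm_num) h3
        omega
      · exact h3
    have hn56 : n = 5 ∨ n = 6 := by omega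
    rcases hn56 with rfl | rfl
    · exact Or.inl ⟨e⟩
    · exact Or.inr (Or.inl ⟨e⟩)
  · (clear * - h; simp only [h, true_or, or_true])
  · (clear * - h; (solve | repeat (first | with_reducible assumption | exact Or.inl (by with_reducible assumption) | refine Or.inr ?_) | tauto))
  · (clear * - h; (solve | repeat (first | with_reducible assumption | exact Or.inl (by with_reducible assumption) | refine Or.inr ?_) | tauto))
  · exfalso
    obtain ⟨F, _, _, m, hm, ho, ⟨e⟩⟩ := h
    apply hd
    rw [Nat.card_congr e.toEquiv]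
    have h1 := S0292.result (F := F) rfl ho m hm
    have h2 := dvd_prod (q := Fintype.card F) (a := m ^ 2) hr (by nlinarith only [hm]) hm
    rw [← h1] at h2
    exact (coprime_of hr (by norm_num)).dvd_of_dvd_mul_left h2
  · exfalso
    obtain ⟨F, _, _, m, hm, ⟨e⟩⟩ := h
    apply hd
    rw [Nat.card_congr e.toEquiv]
    have h1 := S0293.result (F := F) rfl m hm
    have h2 := (dvd_prod (q := Fintype.card F) (a := m * (m - 1)) (m := m - 1) hr
      (Nat.mul_pos (by omega) (by omega)) (by omega)).mul_left (Fintype.card F ^ m - 1)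
    have he : (Fintype.card F ^ m - 1) * (Fintype.card F ^ (m * (m - 1)) *
        ∏ i ∈ Finset.range (m - 1), (Fintype.card F ^ (2 * (i + 1)) - 1)) =
        Fintype.card F ^ (m * (m - 1)) * (Fintype.card F ^ m - 1) *
        ∏ i ∈ Finset.range (m - 1), (Fintype.card F ^ (2 * (i + 1)) - 1) := by ring
    rw [he, ← h1] at h2
    exact (coprime_of hr (Nat.gcd_dvd_left _ _)).dvd_of_dvd_mul_left h2
  · exfalso
    obtain ⟨F, _, _, m, a, b, hm, hab, ⟨e⟩⟩ := h
    apply hd
    rw [Nat.card_congr e.toEquiv]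
    have h1 := S0294.result (F := F) rfl m hm a b hab
    have h2 := (dvd_prod (q := Fintype.card F) (a := m * (m - 1)) (m := m - 1) hr
      (Nat.mul_pos (by omega) (by omega)) (by omega)).mul_left (Fintype.card F ^ m + 1)
    have he : (Fintype.card F ^ m + 1) * (Fintype.card F ^ (m * (m - 1)) *
        ∏ i ∈ Finset.range (m - 1), (Fintype.card F ^ (2 * (i + 1)) - 1)) =
        Fintype.card F ^ (m * (m - 1)) * (Fintype.card F ^ m + 1) *
        ∏ i ∈ Finset.range (m - 1), (Fintype.card F ^ (2 * (i + 1)) - 1) := by ring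
    rw [he, ← h1] at h2
    exact (coprime_of hr (Nat.gcd_dvd_left _ _)).dvd_of_dvd_mul_left h2
  · rcases h with h | h | h | h | h | h | h | h | h | h | h
    · (clear * - h; (solve | repeat (first | with_reducible assumption | exact Or.inl (by with_reducible assumption) | refine Or.inr ?_) | tauto))
    · exfalso
      obtain ⟨F, _, _, ⟨e⟩⟩ := h
      apply hd
      rw [Nat.card_congr e.toEquiv, T.f4 F _ rfl]
      refine (exc (q := Fintype.card F) (a := 24) hr (by norm_num)
        ((Fintype.card F ^ 2 - 1) * (Fintype.card F ^ 6 - 1))).trans (dvd_of_eq ?_)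
      ring
    · exfalso
      obtain ⟨F, _, _, ⟨e⟩⟩ := h
      apply hd
      rw [Nat.card_congr e.toEquiv]
      refine of_three hr (Nat.gcd_dvd_left 3 (Fintype.card F - 1)) (T.e6 F _ rfl) (fun _ => ?_) ?_
      · refine (nine (q := Fintype.card F) (a := 36) (by norm_num) ((Fintype.card F ^ 5 - 1) *
          (Fintype.card F ^ 8 - 1) * (Fintype.card F ^ 9 - 1) * (Fintype.card F ^ 12 - 1))).trans
          (dvd_of_eq ?_)
        ring
      · refine (exc (q := Fintype.card F) (a := 36) hr (by norm_num)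
          ((Fintype.card F ^ 2 - 1) * (Fintype.card F ^ 5 - 1) * (Fintype.card F ^ 6 - 1) *
            (Fintype.card F ^ 9 - 1))).trans (dvd_of_eq ?_)
        ring
    · exfalso
      obtain ⟨F, _, _, ⟨e⟩⟩ := h
      apply hd
      rw [Nat.card_congr e.toEquiv]
      refine (coprime_of hr ((Nat.gcd_dvd_left 2 (Fintype.card F - 1)).trans
        (by norm_num))).dvd_of_dvd_mul_left ?_
      rw [T.e7 F _ rfl]
      refine (exc (q := Fintype.card F) (a := 63) hr (by norm_num)
        ((Fintype.card F ^ 2 - 1) * (Fintype.card F ^ 6 - 1) * (Fintype.card F ^ 10 - 1) *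
          (Fintype.card F ^ 14 - 1) * (Fintype.card F ^ 18 - 1))).trans (dvd_of_eq ?_)
      ring
    · exfalso
      obtain ⟨F, _, _, ⟨e⟩⟩ := h
      apply hd
      rw [Nat.card_congr e.toEquiv, T.e8 F _ rfl]
      refine (exc (q := Fintype.card F) (a := 120) hr (by norm_num)
        ((Fintype.card F ^ 2 - 1) * (Fintype.card F ^ 14 - 1) * (Fintype.card F ^ 18 - 1) *
          (Fintype.card F ^ 20 - 1) * (Fintype.card F ^ 24 - 1) *
          (Fintype.card F ^ 30 - 1))).trans (dvd_of_eq ?_)
      ring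
    · exfalso
      obtain ⟨F, _, _, q, hq, hF, ⟨e⟩⟩ := h
      apply hd
      rw [Nat.card_congr e.toEquiv]
      refine of_three hr (Nat.gcd_dvd_left 3 (q + 1)) (T.te6 F q hq hF) (fun _ => ?_) ?_
      · refine (nine (q := q) (a := 36) (by norm_num) ((q ^ 5 + 1) *
          (q ^ 8 - 1) * (q ^ 9 + 1) * (q ^ 12 - 1))).trans (dvd_of_eq ?_)
        ring
      · refine (exc (q := q) (a := 36) hr (by norm_num)
          ((q ^ 2 - 1) * (q ^ 5 + 1) * (q ^ 6 - 1) * (q ^ 9 + 1))).trans (dvd_of_eq ?_)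
        ring
    · (clear * - h; (solve | repeat (first | with_reducible assumption | exact Or.inl (by with_reducible assumption) | refine Or.inr ?_) | tauto))
    · (clear * - h; (solve | simp only [*, true_or, or_true, and_self, true_and, and_true, not_false_eq_true] | tauto))
    · (clear * - h; (solve | repeat (first | with_reducible assumption | exact Or.inl (by with_reducible assumption) | refine Or.inr ?_) | tauto))
    · (clear * - h; (solve | repeat (first | with_reducible assumption | exact Or.inl (by with_reducible assumption) | refine Or.inr ?_) | tauto))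
    · (clear * - h; (solve | repeat (first | with_reducible assumption | exact Or.inl (by with_reducible assumption) | refine Or.inr ?_) | tauto))
  · rcases spor T h with h | h | h | h
    · exfalso
      apply hd
      refine dvd_trans ?_ h
      rcases hr with rfl | rfl | rfl <;> norm_num
    · (clear * - h; (solve | repeat (first | with_reducible assumption | exact Or.inl (by with_reducible assumption) | refine Or.inr ?_) | tauto))
    · (clear * - h; (solve | repeat (first | with_reducible assumption | exact Or.inl (by with_reducible assumption) | refine Or.inr ?_) | tauto))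
    · (clear * - h; (solve | repeat (first | with_reducible assumption | exact Or.inl (by with_reducible assumption) | refine Or.inr ?_) | tauto))

end Cfsg.Agent.H540.Filter
end

-- part: H539/UFour
section
set_option autoImplicit false

/-!
# `PSp_4(3)` has no subgroup of index 12
-/

namespace Cfsg.Agent.H539.UFour

open Cfsg.Agent.H74.Psp Module

/-- double counting -/
theorem double_count {M X : Type*} [Fintype M] [Fintype X] (R : M → X → Prop) :
    ∑ m : M, Nat.card {ω : X // R m ω} = ∑ ω : X, Nat.card {m : M // R m ω} := by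
  classical
  simp only [Nat.card_eq_fintype_card, Fintype.card_subtype]
  exact Finset.sum_card_bipartiteAbove_eq_sum_card_bipartiteBelow (fun m ω => R m ω)

variable {F V : Type*} [Field F] [AddCommGroup V] [Module F V] {B : V →ₗ[F] V →ₗ[F] F}

/-- elements of `Q_v` commute with `t v c` -/
theorem comm_t (hB : Symp B) {v w : V} (h : B v w = 0) (c c' : F) :
    E B v w c * t B v c' = t B v c' * E B v w c := by
  rw [t, E_mul hB h (map_zero _), E_mul hB (map_zero _) h]
  congr 1
  · abel
  · simp only [_root_.map_zero, _root_.LinearMap.zero_apply, _root_.add_zero]; ring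

/-- conjugacy of the elements of `Q_v` outside the centre -/
theorem conj_of (hB : Symp B) [FiniteDimensional F V] (h2 : (2 : F) ≠ 0) {v w w' : V}
    (hw : B v w = 0) (hw' : B v w' = 0) (h : ∀ a : F, w ≠ a • v) (h' : ∀ a : F, w' ≠ a • v)
    (c c' : F) : ∃ g : Sp B, g * E B v w c * g⁻¹ = E B v w' c' := by
  obtain ⟨g, hg1, hg2⟩ := trans1 hB hw hw' h h'
  obtain ⟨u, hu1, hu2⟩ := sep1 hB h'
  have hu1' : B v (((c' - c) / 2) • u) = 0 := by rw [map_smul, hu1, smul_zero]
  refine ⟨E B v (((c' - c) / 2) • u) 0 * g, ?_⟩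
  have e1 : E B v (((c' - c) / 2) • u) 0 * g * E B v w c * (E B v (((c' - c) / 2) • u) 0 * g)⁻¹ =
      E B v (((c' - c) / 2) • u) 0 * (g * E B v w c * g⁻¹) * (E B v (((c' - c) / 2) • u) 0)⁻¹ := by
    group
  rw [e1, conj_E hB g hw, hg1, hg2]
  have e2 := E_commutator hB hu1' hw' 0 c
  have e3 : E B v (((c' - c) / 2) • u) 0 * E B v w' c * (E B v (((c' - c) / 2) • u) 0)⁻¹ =
      t B v (2 * B w' (((c' - c) / 2) • u)) * E B v w' c := by
    rw [← e2]; group
  rw [e3, map_smul, hu2, t, E_mul hB (map_zero _) hw', zero_add]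
  congr 1
  simp only [smul_eq_mul, mul_one, map_zero, add_zero]
  field_simp
  ring

theorem no_twelve [Finite V] [Finite F] (hB : Symp B) (hF : Nat.card F = 3)
    (hV : Nat.card V = 81) {H : Subgroup (Sp B)} (hgen : ∃ x, ¬ Tv H x)
    (hidx : H.index = 12) : False := by
  classical
  obtain ⟨v, hv⟩ := hgen
  have hv0 : v ≠ 0 := by
    rintro rfl
    exact hv (Tv.zero hB)
  obtain ⟨p, hp⟩ := CharP.exists F
  have := Fintype.ofFinite F
  have hF' : Fintype.card F = 3 := by rw [← Nat.card_eq_fintype_card, hF]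
  have hpp : p.Prime := CharP.char_is_prime F p
  have : Fact p.Prime := ⟨hpp⟩
  have h3 : (3 : F) = 0 := by
    have := Nat.cast_card_eq_zero F
    rw [hF'] at this
    exact_mod_cast this
  have h2 : (2 : F) ≠ 0 := by
    intro h
    have : (1 : F) = 3 - 2 := by ring
    rw [h3, h, sub_zero] at this
    exact one_ne_zero this
  obtain ⟨τ, hτ⟩ := H74.exists_tau F p
  set! X := Sp B ⧸ H with hXdef
  have hX : Nat.card X = 12 := hidx
  have : Finite X := Nat.finite_of_card_ne_zero (by rw [hX]; norm_num)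
  have := Fintype.ofFinite X
  have hM : Nat.card (Heis B v) = 81 := by rw [card_Heis hB hv0, hV]
  have : Finite (Heis B v) := Nat.finite_of_card_ne_zero (by rw [hM]; norm_num)
  have := Fintype.ofFinite (Heis B v)
  -- orbits
  have hrs : ∀ ω : X, (Qorb B v ω).ncard *
      Nat.card {m : Heis B v // E B v m.w m.c • ω = ω} = 81 := by
    intro ω
    let _ := heisGroup hB v
    have h1 := H74.orbit_card (heisHom hB v) ω
    have h2 : (Set.range fun m : Heis B v => heisHom hB v m • ω) = Qorb B v ω := by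
      ext ω'
      constructor
      · rintro ⟨m, rfl⟩
        exact ⟨m.w, m.c, m.h, rfl⟩
      · rintro ⟨w, c, h, rfl⟩
        exact ⟨⟨w, c, h⟩, rfl⟩
    rw [h2, hM] at h1
    exact h1
  have hbig : ∀ ω : X, ¬ Tv (MulAction.stabilizer (Sp B) ω) v → (Qorb B v ω).ncard = 9 := by
    intro ω hω
    have h4 := card_Qorb hτ hB hv0 ω
    have h5 := card_le_sq hτ hB h2 hω
    rw [hV] at h5
    have h6 : Nat.card (Z0 hB (MulAction.stabilizer (Sp B) ω) v) ∣ 3 := by
      rw [← hF]
      exact AddSubgroup.card_addSubgroup_dvd_card _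
    have h7 : Nat.card (Z0 hB (MulAction.stabilizer (Sp B) ω) v) ≠ 3 := by
      intro h7
      apply hω
      have h8 : Z0 hB (MulAction.stabilizer (Sp B) ω) v = ⊤ :=
        AddSubgroup.eq_top_of_le_card _ (by rw [h7, hF])
      intro a
      have : a ∈ Z0 hB (MulAction.stabilizer (Sp B) ω) v := by rw [h8]; trivial
      exact this
    have h8 := (Nat.dvd_prime Nat.prime_three).1 h6
    have h9 : Nat.card (Z0 hB (MulAction.stabilizer (Sp B) ω) v) = 1 := by (clear * - h7 h8; itauto)
    rw [h9, mul_one] at h4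
    have h10 : 9 ≤ (Qorb B v ω).ncard := by
      rw [h4]
      by_contra hcon
      have : Nat.card (As τ hB (MulAction.stabilizer (Sp B) ω) v) ^ 2 ≤ 8 ^ 2 :=
        Nat.pow_le_pow_left (by omega) 2
      omega
    have h11 : (Qorb B v ω).ncard ≤ 12 := by
      rw [← hX]
      exact Set.ncard_le_card _
    have h12 := hrs ω
    have h13 : (Qorb B v ω).ncard ∣ 81 := ⟨_, h12.symm⟩
    generalize (Qorb B v ω).ncard = r at h10 h11 h13
    interval_cases r <;> revert h13 <;> decide
  set! ω0 : X := ((1 : Sp B) : X) with hω0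
  have hst : MulAction.stabilizer (Sp B) ω0 = H := MulAction.stabilizer_quotient H
  have hTv0 : ¬ Tv (MulAction.stabilizer (Sp B) ω0) v := by rw [hst]; exact hv
  set! O : Set X := Qorb B v ω0 with hO
  have hO9 : O.ncard = 9 := hbig ω0 hTv0
  have hO3 : (Oᶜ).ncard = 3 := by
    have := Set.ncard_add_ncard_compl O
    rw [hO9, hX] at this
    omega
  have hin : ∀ ω ∈ O, ¬ Tv (MulAction.stabilizer (Sp B) ω) v := by
    rintro ω ⟨w, c, hw, rfl⟩ hT
    apply hTv0
    intro a
    have h4 := hT a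
    rw [MulAction.mem_stabilizer_iff, ← mul_smul, ← comm_t hB hw, mul_smul] at h4
    exact MulAction.mem_stabilizer_iff.2 (MulAction.injective _ h4)
  have hsub : ∀ ω, ω ∉ O → Qorb B v ω ⊆ Oᶜ := by
    intro ω hω ω' h1 h2
    exact hω (Qorb_trans hB h2 (Qorb_symm hB h1))
  have hle : ∀ ω, ω ∉ O → (Qorb B v ω).ncard ≤ 3 := fun ω hω => by
    rw [← hO3]
    exact Set.ncard_le_ncard (hsub ω hω)
  have hout : ∀ ω, ω ∉ O → Tv (MulAction.stabilizer (Sp B) ω) v := by
    intro ω hω
    by_contra hT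
    have h1 := hbig ω hT
    have h2 := hle ω hω
    omega
  -- sum over the points
  have hs1 : ∀ ω ∈ O, Nat.card {m : Heis B v // E B v m.w m.c • ω = ω} = 9 := by
    intro ω hω
    have h1 := hrs ω
    rw [hbig ω (hin ω hω)] at h1
    omega
  have hcardO : (Finset.univ.filter (fun ω => ω ∈ O)).card = 9 := by
    rw [← hO9, Set.ncard_eq_toFinset_card']
    congr 1
    ext ω
    simp
  have hcardO' : (Finset.univ.filter (fun ω => ¬ ω ∈ O)).card = 3 := by
    rw [← hO3, Set.ncard_eq_toFinset_card']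
    congr 1
    ext ω
    simp
  have hsum : ∑ ω : X, (Nat.card {m : Heis B v // E B v m.w m.c • ω = ω} :) = 162 ∨
      ∑ ω : X, Nat.card {m : Heis B v // E B v m.w m.c • ω = ω} = 324 := by
    rw [← Finset.sum_filter_add_sum_filter_not Finset.univ (fun ω => ω ∈ O)]
    have e1 : ∑ ω ∈ Finset.univ.filter (fun ω => ω ∈ O),
        Nat.card {m : Heis B v // E B v m.w m.c • ω = ω} = 81 := by
      rw [Finset.sum_congr rfl (fun ω hω => hs1 ω (Finset.mem_filter.1 hω).2), Finset.sum_const,
        hcardO]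
      rfl
    rw [e1]
    by_cases h : ∃ ω, ω ∉ O ∧ (Qorb B v ω).ncard = 3
    · left
      obtain ⟨ω1, h1, h2⟩ := h
      have h3 : Qorb B v ω1 = Oᶜ := Set.eq_of_subset_of_ncard_le (hsub ω1 h1) (by rw [hO3, h2])
      have e2 : ∑ ω ∈ Finset.univ.filter (fun ω => ¬ ω ∈ O),
          (Nat.card {m : Heis B v // E B v m.w m.c • ω = ω} :) = 81 := by
        have h4 : ∀ ω ∈ Finset.univ.filter (fun ω => ¬ ω ∈ O),
            Nat.card {m : Heis B v // E B v m.w m.c • ω = ω} = 27 := by
          intro ω hω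
          have h5 : ω ∈ Qorb B v ω1 := by rw [h3]; exact (Finset.mem_filter.1 hω).2
          have h6 : Qorb B v ω = Oᶜ := by
            apply Set.Subset.antisymm (hsub ω (Finset.mem_filter.1 hω).2)
            rw [← h3]
            exact fun ω' h' => Qorb_trans hB (Qorb_symm hB h5) h'
          have h7 := hrs ω
          rw [h6, hO3] at h7
          omega
        rw [Finset.sum_congr rfl h4, Finset.sum_const, hcardO']
        rfl
      rw [e2]
    · right
      push Not at h
      have e2 : ∑ ω ∈ Finset.univ.filter (fun ω => ¬ ω ∈ O),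
          (Nat.card {m : Heis B v // E B v m.w m.c • ω = ω} :) = 243 := by
        have h4 : ∀ ω ∈ Finset.univ.filter (fun ω => ¬ ω ∈ O),
            Nat.card {m : Heis B v // E B v m.w m.c • ω = ω} = 81 := by
          intro ω hω
          have h5 := h ω (Finset.mem_filter.1 hω).2
          have h6 := hle ω (Finset.mem_filter.1 hω).2
          have h7 := hrs ω
          have h8 : (Qorb B v ω).ncard ∣ 81 := ⟨_, h7.symm⟩
          have h9 : (Qorb B v ω).ncard = 1 := by
            generalize (Qorb B v ω).ncard = r at h5 h6 h8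
            interval_cases r
            · revert h8; decide
            · rfl
            · revert h8; decide
            · exact absurd rfl h5
          rw [h9, one_mul] at h7
          exact h7
        rw [Finset.sum_congr rfl h4, Finset.sum_const, hcardO']
        rfl
      rw [e2]
  rw [← double_count (fun (m : Heis B v) (ω : X) => E B v m.w m.c • ω = ω)] at hsum
  -- sum over the elements
  have hfix0 : Nat.card {ω : X // t B v 0 • ω = ω} = 12 := by
    rw [← hX]
    exact Nat.card_congr (Equiv.subtypeUnivEquiv fun ω => by rw [t_zero hB, one_smul])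
  have hfix1 : ∀ c : F, c ≠ 0 → Nat.card {ω : X // t B v c • ω = ω} = 3 := by
    intro c hc
    rw [← hO3, ← Nat.card_coe_set_eq]
    refine Nat.card_congr (Equiv.subtypeEquivRight fun ω => ?_)
    constructor
    · intro h1 h4
      apply hin ω h4
      have h5 : (Z0 hB (MulAction.stabilizer (Sp B) ω) v) = ⊤ := by
        have h6 : Nat.card (Z0 hB (MulAction.stabilizer (Sp B) ω) v) ∣ 3 := by
          rw [← hF]
          exact AddSubgroup.card_addSubgroup_dvd_card _
        rcases (Nat.dvd_prime Nat.prime_three).1 h6 with h7 | h7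
        · exfalso
          rw [AddSubgroup.card_eq_one] at h7
          have h8 : c ∈ Z0 hB (MulAction.stabilizer (Sp B) ω) v := h1
          rw [h7] at h8
          exact hc h8
        · exact AddSubgroup.eq_top_of_le_card _ (by rw [h7, hF])
      intro a
      have : a ∈ Z0 hB (MulAction.stabilizer (Sp B) ω) v := by rw [h5]; trivial
      exact this
    · intro h1
      exact hout ω h1 c
  let φ : F × F → Heis B v := fun x => ⟨x.1 • v, x.2 - 2 * x.1, by rw [map_smul, hB.alt, smul_zero]⟩
  have hφ : Function.Injective φ := by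
    rintro ⟨a, c⟩ ⟨a', c'⟩ h
    have h1 : a • v = a' • v := congrArg Heis.w h
    have h4 : c - 2 * a = c' - 2 * a' := congrArg Heis.c h
    have h5 : a = a' := smul_left_injective F hv0 h1
    subst h5
    rw [sub_left_inj] at h4
    rw [h4]
  have hφE : ∀ x : F × F, E B v (φ x).w (φ x).c = t B v x.2 := by
    intro x
    have h1 := E_add_v hB (map_zero (B v)) x.1 (x.2 - 2 * x.1)
    rw [zero_add, sub_add_cancel] at h1
    exact h1
  have hP : ∑ m ∈ Finset.univ.image φ, Nat.card {ω : X // E B v m.w m.c • ω = ω} = 54 := by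
    rw [Finset.sum_image (fun x _ y _ h => hφ h)]
    have h1 : ∀ x : F × F, Nat.card {ω : X // E B v (φ x).w (φ x).c • ω = ω} =
        3 + if x.2 = 0 then 9 else 0 := by
      intro x
      rw [hφE]
      split_ifs with h
      · rw [h, hfix0]
      · rw [hfix1 _ h]
    rw [Finset.sum_congr rfl (fun x _ => h1 x), Fintype.sum_prod_type]
    simp only [Finset.sum_add_distrib, Finset.sum_ite_eq', Finset.sum_const, Finset.card_univ, hF']
    simp
  have hPc : (Finset.univ.image φ).card = 9 := by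
    rw [Finset.card_image_of_injective _ hφ, Finset.card_univ, Fintype.card_prod, hF']
  have hcompl : ((Finset.univ.image φ)ᶜ).card = 72 := by
    rw [Finset.card_compl, hPc, ← Nat.card_eq_fintype_card, hM]
  obtain ⟨m0, hm0⟩ : ((Finset.univ.image φ)ᶜ).Nonempty := by
    rw [← Finset.card_pos, hcompl]; norm_num
  have hnot : ∀ m ∈ (Finset.univ.image φ)ᶜ, ∀ a : F, m.w ≠ a • v := by
    intro m hm a ha
    rw [Finset.mem_compl] at hm
    apply hm
    rw [Finset.mem_image]
    refine ⟨(a, m.c + 2 * a), Finset.mem_univ _, ?_⟩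
    apply Heis.ext
    · exact ha.symm
    · change m.c + 2 * a - 2 * a = m.c
      ring
  have : FiniteDimensional F V := inferInstance
  have hconst : ∀ m ∈ (Finset.univ.image φ)ᶜ, Nat.card {ω : X // E B v m.w m.c • ω = ω} =
      Nat.card {ω : X // E B v m0.w m0.c • ω = ω} := by
    intro m hm
    obtain ⟨g, hg⟩ := conj_of hB h2 m.h m0.h (hnot m hm) (hnot m0 hm0) m.c m0.c
    refine Nat.card_congr
      { toFun := fun ω => ⟨g • ω.1, ?_⟩
        invFun := fun ω => ⟨g⁻¹ • ω.1, ?_⟩
        left_inv := fun ω => Subtype.ext (inv_smul_smul _ _)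
        right_inv := fun ω => Subtype.ext (smul_inv_smul _ _) }
    · have h4 := ω.2
      change E B v m0.w m0.c • (g • (ω : X)) = g • (ω : X)
      rw [← hg, mul_smul, mul_smul, inv_smul_smul, h4]
    · have h4 : E B v m0.w m0.c • (ω : X) = ω := ω.2
      change E B v m.w m.c • (g⁻¹ • (ω : X)) = g⁻¹ • (ω : X)
      rw [eq_inv_smul_iff, ← mul_smul, ← mul_smul, hg]
      exact h4
  have hall : ∑ m : Heis B v, Nat.card {ω : X // E B v m.w m.c • ω = ω} =
      54 + 72 * Nat.card {ω : X // E B v m0.w m0.c • ω = ω} := by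
    rw [← Finset.sum_add_sum_compl (Finset.univ.image φ), hP, Finset.sum_congr rfl hconst,
      Finset.sum_const, hcompl, smul_eq_mul]
  rw [hall] at hsum
  omega

/-- `PSp_4(3)` has no subgroup of index 12 -/
theorem index_ne {F : Type*} [Field F] [Fintype F] (hF : Fintype.card F = 3)
    (H : Subgroup (Cfsg.PSp 2 F)) : H.index ≠ 12 := by
  classical
  intro hidx
  have hq : Nat.card F = 3 := by rw [Nat.card_eq_fintype_card, hF]
  have hB := symp_sympBilin (F := F) 2
  have hbij := toSp_bijective (F := F) 2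
  have hV : Nat.card (Fin 2 ⊕ Fin 2 → F) = 81 := by
    rw [Nat.card_fun, Nat.card_sum, Nat.card_fin, hq]
    norm_num
  have hsurj : Function.Surjective (QuotientGroup.mk' (Subgroup.center
      (Matrix.symplecticGroup (Fin 2) F))) := QuotientGroup.mk'_surjective _
  have h1 : (H.comap (QuotientGroup.mk' (Subgroup.center
      (Matrix.symplecticGroup (Fin 2) F)))).index = H.index :=
    Subgroup.index_comap_of_surjective _ hsurj
  have hne : H.comap (QuotientGroup.mk' (Subgroup.center
      (Matrix.symplecticGroup (Fin 2) F))) ≠ ⊤ := by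
    intro h
    rw [h, Subgroup.index_top, hidx] at h1
    norm_num at h1
  refine no_twelve hB hq hV (exists_not_Tv 2 hne) ?_
  rw [Subgroup.index_map_of_bijective hbij, h1, hidx]

end Cfsg.Agent.H539.UFour
end

-- part: H539/GoodCl
section
set_option autoImplicit false

/-!
# `Good` for the classical groups of order prime to 3, 5 or 7
-/

namespace Cfsg.Agent.H539.GoodCl

open Cfsg.Agent.H540.ClassNum Cfsg.Agent.H934.OutB Cfsg.Agent.H934.OutCl Matrix
open Cfsg.Agent.H540.Good (Good Good.congr Good.of_bounds)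
open Cfsg.Agent.H540 Cfsg.Agent.H867.Engine Cfsg.Agent.H539.GoodFin

theorem u42 {F : Type} [Field F] [Fintype F] (hF : Fintype.card F = 4)
    (hs : IsSimpleGroup (Cfsg.PSU 4 F 2)) (hna : ¬ IsMulCommutative (Cfsg.PSU 4 F 2)) :
    Good (Cfsg.PSU 4 F 2) := by
  have hF2 : Fintype.card F = 2 ^ 2 := by rw [hF]; norm_num
  obtain ⟨h1, h2⟩ := psu_data (p := 2) (f := 1) (by norm_num) (by norm_num) (by norm_num) hF2
    (by norm_num) (by norm_num) hs hna
  have hc : Nat.card (Cfsg.PSU 4 F 2) = 25920 := GoodPSU.card_of hF2 (by norm_num) (by decide)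
  obtain ⟨e⟩ := S0822.result (F := F) (K := ZMod 3) hF (ZMod.card 3)
  have h9 : ∀ K : Subgroup (Cfsg.PSU 4 F 2), K ≠ ⊤ → 9 ≤ K.index := fun K hK =>
    RowPSp.idx_of_card hna hc (by decide +kernel) K hK
  have h10 := step hna h9 fun h => by
    have h1 := EngG.Sit.jj h (by norm_num) (r := 5) (k := 1) (by norm_num) (by norm_num)
      (by rw [hc]; norm_num) (by decide)
    rw [hc] at h1
    revert h1
    decide
  have h11 := step hna h10 fun h => by
    have h1 := EngG.Sit.jj h (by norm_num) (r := 3) (k := 4) (by norm_num) (by norm_num)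
      (by rw [hc]; norm_num) (by decide)
    rw [hc] at h1
    revert h1
    decide
  have h12 := step hna h11 fun h => by have := h.dvd; rw [hc] at this; revert this; norm_num
  have h13 := step hna h12 fun h => by
    obtain ⟨K, -, hK⟩ := h.ex
    refine UFour.index_ne (F := ZMod 3) (ZMod.card 3) (K.map e.toMonoidHom) ?_
    rw [Subgroup.index_map_of_bijective e.bijective, hK]
  have h14 := step hna h13 fun h => by have := h.dvd; rw [hc] at this; revert this; norm_num
  have h15 := step hna h14 fun h => by have := h.dvd; rw [hc] at this; revert this; norm_num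
  exact Good.of_bounds (c := 66) (o := 2) (L := 15) (by norm_num at h2; omega) (by rw [h1]; decide)
    h15 (by norm_num)

/-- `Good T` for `T = PSU_n(q)` -/
theorem psu (T : Type) [Group T] [Finite T] [IsSimpleGroup T] (hT : ¬ IsMulCommutative T)
    (h : Cfsg.IsPSU T) : Good T := by
  by_cases h1 : Nat.card T ≠ 6048 ∧ Nat.card T ≠ 62400 ∧ Nat.card T ≠ 25920 ∧
      Nat.card T ≠ 13685760
  · exact GoodPSU.row T hT h h1.1 h1.2.1 h1.2.2.1 h1.2.2.2
  obtain ⟨F, _, _, n, q, hF, hn, h32, ⟨e⟩⟩ := h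
  have hs : IsSimpleGroup (Cfsg.PSU n F q) := (MulEquiv.isSimpleGroup_congr e).1 inferInstance
  have hna : ¬ IsMulCommutative (Cfsg.PSU n F q) := by
    intro h
    apply hT
    refine ⟨⟨fun a b => ?_⟩⟩
    apply e.injective
    rw [map_mul, map_mul]
    exact h.is_comm.comm _ _
  refine Good.congr ?_ e.symm
  by_cases h25 : 25 ≤ q ^ (n - 1)
  · -- generic
    obtain ⟨p, f', hp, hf', hF'⟩ := exists_pf F
    have := Fact.mk hp
    obtain ⟨f, -, hq⟩ : ∃ f ≤ f', q = p ^ f := (Nat.dvd_prime_pow hp).1 (by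
      rw [← hF', hF]; exact dvd_pow_self q (by norm_num))
    have hf : 1 ≤ f := by
      by_contra h0
      have : f = 0 := by omega
      subst this
      rw [hq, pow_zero, one_pow] at hF
      have := Fintype.one_lt_card (α := F)
      omega
    obtain ⟨h6, hk⟩ := psu_data hp hf hq hF hn h32 hs hna
    intro K hK
    refine (GoodPSU.num hp.two_le hf hq hn h6 hk h25).trans ?_
    exact Nat.pow_le_pow_right (by norm_num)
      (H934.IdxPSU.pow_le_index hF hn (MulEquiv.refl _) K hK)
  · push Not at h25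
    have hq2 : 2 ≤ q := by
      have := Fintype.one_lt_card (α := F)
      rw [hF] at this
      by_contra hcon
      have : q ≤ 1 := by omega
      have : q ^ 2 ≤ 1 ^ 2 := Nat.pow_le_pow_left this 2
      omega
    have hq4 : q ≤ 4 := by
      by_contra hcon
      have : 5 ^ 2 ≤ q ^ (n - 1) := (Nat.pow_le_pow_left (by omega) 2).trans
        (Nat.pow_le_pow_right (by omega) (by omega))
      omega
    have hn5 : n ≤ 5 := by
      by_contra hcon
      have : 2 ^ 5 ≤ q ^ (n - 1) := (Nat.pow_le_pow_left hq2 5).trans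
        (Nat.pow_le_pow_right (by omega) (by omega))
      omega
    rcases (show (q = 2 ∧ n = 3) ∨ (q = 2 ∧ n = 4) ∨ (q = 2 ∧ n = 5) ∨ (q = 3 ∧ n = 3) ∨
        (q = 4 ∧ n = 3) ∨ 25 ≤ q ^ (n - 1) by
      interval_cases q <;> interval_cases n <;> norm_num) with h | h | h | h | h | h
    · exact absurd ⟨h.2, h.1⟩ h32
    · obtain ⟨rfl, rfl⟩ := h
      exact u42 (by rw [hF]; norm_num) hs hna
    · obtain ⟨rfl, rfl⟩ := h
      exact u52 hF hs hna
    · obtain ⟨rfl, rfl⟩ := h
      exact u33 hF hs hna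
    · obtain ⟨rfl, rfl⟩ := h
      exact u34 hF hs hna
    · omega

/-- `Good T` for `T = PSp_2m(q)` of order prime to 3, 5 or 7 -/
theorem psp (T : Type) [Group T] [Finite T] [IsSimpleGroup T] (hT : ¬ IsMulCommutative T)
    (h : Cfsg.IsPSp T) (hr : ∃ r ∈ ({3, 5, 7} : Set ℕ), ¬ r ∣ Nat.card T) : Good T := by
  by_cases h1 : Nat.card T ≠ 25920 ∧ Nat.card T ≠ 979200 ∧ Nat.card T ≠ 4680000
  · exact GoodPSp.row T hT h hr h1.1 h1.2.1 h1.2.2
  obtain ⟨F, _, _, m, hm, h3, ⟨e⟩⟩ := h
  have hs : IsSimpleGroup (Cfsg.PSp m F) := (MulEquiv.isSimpleGroup_congr e).1 inferInstance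
  have hna : ¬ IsMulCommutative (Cfsg.PSp m F) := by
    intro h
    apply hT
    refine ⟨⟨fun a b => ?_⟩⟩
    apply e.injective
    rw [map_mul, map_mul]
    exact h.is_comm.comm _ _
  rw [Nat.card_congr e.toEquiv] at hr
  refine Good.congr ?_ e.symm
  obtain ⟨r, hr, hd⟩ := hr
  have hr7 : r = 7 ∧ m = 2 := by
    rcases hr with rfl | rfl | rfl
    · exact absurd (GoodPSp.dvd_three (by omega)) hd
    · exact absurd (GoodPSp.dvd_five hm) hd
    · refine ⟨rfl, ?_⟩
      by_contra hne
      exact hd (GoodPSp.dvd_seven (by omega))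
  obtain ⟨rfl, rfl⟩ := hr7
  by_cases hq3 : Fintype.card F = 3
  · have : Finite (GaloisField 2 2) := inferInstance
    let _ : Fintype (GaloisField 2 2) := Fintype.ofFinite _
    obtain ⟨e'⟩ := S0822.result (F := GaloisField 2 2) (K := F) (by
      rw [← Nat.card_eq_fintype_card, GaloisField.card 2 2 (by norm_num)]; norm_num) hq3
    have hs' : IsSimpleGroup (Cfsg.PSU 4 (GaloisField 2 2) 2) :=
      (MulEquiv.isSimpleGroup_congr e').2 inferInstance
    refine (u42 (F := GaloisField 2 2) ?_ hs' ?_).congr e'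
    · rw [← Nat.card_eq_fintype_card, GaloisField.card 2 2 (by norm_num)]; norm_num
    · intro h
      apply hna
      refine ⟨⟨fun a b => ?_⟩⟩
      apply e'.symm.injective
      rw [map_mul, map_mul]
      exact h.is_comm.comm _ _
  by_cases hq45 : Fintype.card F = 4 ∨ Fintype.card F = 5
  · exact GoodFin.psp rfl hq45 hs hna
  push Not at hq45
  exact GoodPSp.main' (h3 rfl) hs hna hd hq3 hq45.1 hq45.2

end Cfsg.Agent.H539.GoodCl
end

-- part: H540/TabFin
section
/-!
# The table `Tab p` from the rows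
-/

set_option autoImplicit false

namespace Cfsg.Agent.H540.TabFin

open Cfsg
open Cfsg.Agent.H540.Main (Row Tab)
open Cfsg.Agent.H540.Good (Good)

/-- a row of the table -/
def GoodRow (P : ∀ (T : Type) [Group T], Prop) : Prop :=
  ∀ (T : Type) [Group T] [Finite T] [IsSimpleGroup T], ¬ IsMulCommutative T → P T → Good T

theorem card_alt {n : ℕ} (hn : 5 ≤ n) {G : Type} [Group G] (h : Nonempty (G ≃* alternatingGroup (Fin n))) :
    2 * Nat.card G = n.factorial := by
  obtain ⟨e⟩ := h
  rw [Nat.card_congr e.toEquiv, H539.IdxAlt.two_mul_card hn]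

theorem key6 {q r : ℕ} (hr : r = 3 ∨ r = 7) : r ∣ q ∨ r ∣ q ^ 6 - 1 := by
  by_cases h : r ∣ q
  · exact Or.inl h
  right
  have h1 : 1 ≤ q := by
    rcases Nat.eq_zero_or_pos q with h0 | h0
    · rw [h0] at h; simp at h
    · exact h0
  refine (Nat.modEq_iff_dvd' (Nat.one_le_pow _ _ h1)).1 ?_
  rcases hr with rfl | rfl
  · have : q % 3 = 1 ∨ q % 3 = 2 := by omega
    rcases this with h | h <;> simp [Nat.ModEq, Nat.pow_mod, h]
  · have : q % 7 = 1 ∨ q % 7 = 2 ∨ q % 7 = 3 ∨ q % 7 = 4 ∨ q % 7 = 5 ∨ q % 7 = 6 := by (clear * - h; solve | lia | omega)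
    rcases this with h | h | h | h | h | h <;> simp [Nat.ModEq, Nat.pow_mod, h]

theorem g2_dvd (Tb : OrdDiv.OrderTable.{0}) {G : Type} [Group G] (h : Lie.IsoChevG2 G) {r : ℕ}
    (hr : r = 3 ∨ r = 7) : r ∣ Nat.card G := by
  obtain ⟨F, _, _, -, ⟨e⟩⟩ := h
  rw [Nat.card_congr e.toEquiv, Tb.g2 F]
  rcases key6 (q := Fintype.card F) hr with h | h
  · exact ((h.trans (dvd_pow_self _ (by norm_num))).mul_right _).mul_right _
  · exact h.mul_left _

theorem d4_dvd (Tb : OrdDiv.OrderTable.{0}) {G : Type} [Group G] (h : Lie.Iso3D4 G) {r : ℕ}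
    (hr : r = 3 ∨ r = 7) : r ∣ Nat.card G := by
  obtain ⟨F, _, _, q, hq, hF, ⟨e⟩⟩ := h
  rw [Nat.card_congr e.toEquiv, Tb.td4 F q hq hF]
  rcases key6 (q := q) hr with h | h
  · exact (((h.trans (dvd_pow_self _ (by norm_num))).mul_right _).mul_right _).mul_right _
  · exact (h.mul_left _).mul_right _

theorem f4_dvd (Tb : OrdDiv.OrderTable.{0}) {G : Type} [Group G] (h : Lie.Iso2F4 G) {r : ℕ}
    (hr : r = 3 ∨ r = 5) : r ∣ Nat.card G := by
  obtain ⟨F, _, _, m, hm, hF, ⟨e⟩⟩ := h
  rw [Nat.card_congr e.toEquiv, Tb.tf4 F m hm hF]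
  have h2 : (2 : ℕ) ^ (2 * m + 1) % 3 = 2 ∧ (2 : ℕ) ^ (2 * m + 1) % 5 ≠ 0 := by
    refine ⟨?_, ?_⟩
    · rw [pow_succ, pow_mul, Nat.mul_mod, Nat.pow_mod]
      norm_num
    · intro h0
      have h5 := (by norm_num : Nat.Prime 5).dvd_of_dvd_pow (Nat.dvd_of_mod_eq_zero h0)
      norm_num at h5
  set q := (2 : ℕ) ^ (2 * m + 1) with hq
  rcases hr with rfl | rfl
  · refine Dvd.dvd.mul_right (Dvd.dvd.mul_right (Dvd.dvd.mul_left ?_ _) _) _
    have h3 : (q ^ 3 + 1) % 3 = 0 := by
      rw [Nat.add_mod, Nat.pow_mod, h2.1]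
    exact Nat.dvd_of_mod_eq_zero h3
  · refine Dvd.dvd.mul_right (Dvd.dvd.mul_left ?_ _) _
    have h1 : 1 ≤ q := Nat.one_le_two_pow
    refine (Nat.modEq_iff_dvd' (Nat.one_le_pow _ _ h1)).1 ?_
    have : q % 5 = 1 ∨ q % 5 = 2 ∨ q % 5 = 3 ∨ q % 5 = 4 := by (solve | lia | omega)
    rcases this with h | h | h | h <;> simp [Nat.ModEq, Nat.pow_mod, h]

theorem tab (hg2 : GoodRow (fun T _ => Lie.IsoChevG2 T ∧ ¬ 5 ∣ Nat.card T))
    (h3d4 : GoodRow (fun T _ => Lie.Iso3D4 T ∧ ¬ 5 ∣ Nat.card T))
    (hsz : GoodRow (fun T _ => Lie.IsoSuzuki T)) (hree : GoodRow (fun T _ => Lie.IsoRee T))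
    (h2f4 : GoodRow (fun T _ => Lie.Iso2F4 T ∧ ¬ 7 ∣ Nat.card T)) (htits : GoodRow (fun T _ => Lie.IsoTits T))
    (hm11 : GoodRow (fun T _ => Spor.IsoM11 T)) (hm12 : GoodRow (fun T _ => Spor.IsoM12 T))
    (hj3 : GoodRow (fun T _ => Spor.IsoJ3 T))
    (Tb : OrdDiv.OrderTable.{0})
    (cls : ∀ (T : Type) [Group T] [Finite T] [IsSimpleGroup T], IsKnownSimple' T)
    {p : ℕ} (hp : p = 3 ∨ p = 5 ∨ p = 7) : Tab p := by
  intro T _ _ _ hT hd
  have hr : ∃ r ∈ ({3, 5, 7} : Set ℕ), ¬ r ∣ Nat.card T := ⟨p, by simpa using hp, hd⟩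
  rcases Filter.filter Tb hT (cls T) hp hd with h | h | h | h | h | h | h | h | h | h | h | h | h | h
  · exact RowSmall.row hT (Or.inl (by
      have h1 := card_alt (n := 5) le_rfl h
      have h2 : Nat.factorial 5 = 120 := rfl
      omega))
  · exact RowSmall.row hT (Or.inr (Or.inr (Or.inl (by
      have h1 := card_alt (n := 6) (by norm_num) h
      have h2 : Nat.factorial 6 = 720 := rfl
      omega))))
  · by_cases h0 : Nat.card T = 60 ∨ Nat.card T = 168 ∨ Nat.card T = 360 ∨ Nat.card T = 504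
    · exact RowSmall.row hT h0
    · push Not at h0
      exact Or.inl (H539.GoodPSL.row T hT h hr h0.1 h0.2.1 h0.2.2.1 h0.2.2.2)
  · exact Or.inl (H539.GoodCl.psp T hT h hr)
  · exact Or.inl (H539.GoodCl.psu T hT h)
  · refine Or.inl (hg2 T hT ⟨h, ?_⟩)
    rcases hp with rfl | rfl | rfl
    · exact absurd (g2_dvd Tb h (Or.inl rfl)) hd
    · exact hd
    · exact absurd (g2_dvd Tb h (Or.inr rfl)) hd
  · refine Or.inl (h3d4 T hT ⟨h, ?_⟩)
    rcases hp with rfl | rfl | rfl
    · exact absurd (d4_dvd Tb h (Or.inl rfl)) hd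
    · exact hd
    · exact absurd (d4_dvd Tb h (Or.inr rfl)) hd
  · exact Or.inl (hsz T hT h)
  · exact Or.inl (hree T hT h)
  · refine Or.inl (h2f4 T hT ⟨h, ?_⟩)
    rcases hp with rfl | rfl | rfl
    · exact absurd (f4_dvd Tb h (Or.inl rfl)) hd
    · exact absurd (f4_dvd Tb h (Or.inr rfl)) hd
    · exact hd
  · exact Or.inl (htits T hT h)
  · exact Or.inl (hm11 T hT h)
  · exact Or.inl (hm12 T hT h)
  · exact Or.inl (hj3 T hT h)

end Cfsg.Agent.H540.TabFin
end
end

-- part: H540/Assembly
section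
prune_inst 0x301045000e22120000000000900020342400009000200000910000400106130000000900448009021028a20000040028130000d0420000000a000000000405219002c00002340104260009803082000000000000000000000000000000041000200000000
set_option linter.all false
open scoped Cfsg.Agent.FastGrp

-- part: H599/GoodA
section
/-!
# `Good T` for the exceptional groups of Lie type (generic case)

`Sz(q)`, `²G₂(q)`, `²F₄(q)` with `q ≥ 32`, `³D₄(q)` with `q ≥ 3`, `G₂(q)` with `q ≥ 7`.
-/

set_option autoImplicit false

namespace Cfsg.Agent.H599.GoodA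

open Cfsg Cfsg.Lie Cfsg.Agent.H539 Cfsg.Agent.H599.IdxE Cfsg.Agent.H599.IdxSR Cfsg.Agent.H599.IdxJor Cfsg.Agent.H540.Good
open Cfsg.Agent.H540.ClassNum (card_conjClasses_le_card)

universe u

/-- Transport. -/
theorem of_equiv {T : Type} [Group T] [IsSimpleGroup T] (hT : ¬ IsMulCommutative T) {X : Type} [Group X]
    (e : T ≃* X) (h : IsSimpleGroup X → ¬ IsMulCommutative X → Good X) : Good T := by
  refine (h e.symm.isSimpleGroup ?_).congr e.symm
  intro hc
  apply hT
  refine ⟨⟨fun a b => e.injective ?_⟩⟩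
  rw [map_mul, map_mul]
  exact hc.is_comm.comm _ _

theorem of_card {T : Type u} [Group T] [Finite T] {o t b : ℕ} (ho : Nat.card (Cfsg.Out T) ≤ o)
    (ht : Nat.card T ≤ t) (hb : ∀ K : Subgroup T, K ≠ ⊤ → b ≤ K.index) (h : (t * o) ^ 2 ≤ 2 ^ b) : Good T :=
  Good.of_bounds (card_conjClasses_le_card.trans ht) ho hb h

theorem of_pow {T : Type u} [Group T] [Finite T] {q N b : ℕ} (hq : 1 ≤ q)
    (h1 : Nat.card (Cfsg.Out T) * Nat.card T ≤ q ^ N) (hb : ∀ K : Subgroup T, K ≠ ⊤ → b ≤ K.index)
    (h2 : 2 * N * (q - 1) ≤ b) : Good T := by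
  refine of_card le_rfl le_rfl hb ?_
  calc (Nat.card T * Nat.card (Cfsg.Out T)) ^ 2 ≤ (q ^ N) ^ 2 := Nat.pow_le_pow_left ((mul_comm _ _).trans_le h1) 2
    _ ≤ ((2 ^ (q - 1)) ^ N) ^ 2 := Nat.pow_le_pow_left (Nat.pow_le_pow_left (IdxE.le_two_pow hq) N) 2
    _ = 2 ^ (2 * N * (q - 1)) := by rw [← pow_mul, ← pow_mul]; congr 1; ring
    _ ≤ _ := Nat.pow_le_pow_right (by norm_num) h2

/-- `|Out T| ≤ f`, `|T| ≤ q ^ N`, `q = 2 ^ f`. -/
theorem of_two {T : Type u} [Group T] [Finite T] {f N b : ℕ} (ho : Nat.card (Cfsg.Out T) = f)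
    (ht : Nat.card T ≤ (2 ^ f) ^ N) (hb : ∀ K : Subgroup T, K ≠ ⊤ → b ≤ K.index) (h : 2 * ((N + 1) * f) ≤ b) :
    Good T := by
  refine of_card ho.le ht hb ?_
  have h1 : f ≤ 2 ^ f := Nat.lt_two_pow_self.le
  calc ((2 ^ f) ^ N * f) ^ 2 ≤ ((2 ^ f) ^ N * 2 ^ f) ^ 2 := Nat.pow_le_pow_left (Nat.mul_le_mul_left _ h1) 2
    _ = 2 ^ (2 * ((N + 1) * f)) := by rw [← pow_succ, ← pow_mul, ← pow_mul]; congr 1; ring
    _ ≤ _ := Nat.pow_le_pow_right (by norm_num) h

theorem twelve_mul_le {f : ℕ} (h : 7 ≤ f) : 12 * f ≤ 2 ^ f := by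
  induction f, h using Nat.le_induction with
  | base => norm_num
  | succ n hn ih => rw [pow_succ]; omega

theorem fiftyfour_mul_le {f : ℕ} (h : 9 ≤ f) : 54 * f ≤ 2 ^ f := by
  induction f, h using Nat.le_induction with
  | base => norm_num
  | succ n hn ih => rw [pow_succ]; omega

theorem sixty_mul_le {f : ℕ} (h : 3 ≤ f) : 60 * f ≤ 9 ^ f := by
  induction f, h using Nat.le_induction with
  | base => norm_num
  | succ n hn ih => rw [pow_succ]; omega

/-! ### Suzuki groups -/

theorem sz_card_le {F : Type u} [Field F] [Fintype F] {m : ℕ} (hm : 1 ≤ m) (hF : Fintype.card F = 2 ^ (2 * m + 1)) :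
    Nat.card ↥(Cfsg.Lie.Sz F (2 ^ (m + 1))) ≤ (2 ^ (2 * m + 1)) ^ 5 := by
  classical
  rw [(S1163.result hm hF).1]
  set q := 2 ^ (2 * m + 1) with hq
  have hq1 : 1 ≤ q := Nat.one_le_two_pow
  obtain ⟨r, hr⟩ : ∃ r, q = r + 1 := ⟨q - 1, by omega⟩
  rw [hr]
  simp only [Nat.add_sub_cancel]
  have : r * ((r + 1) ^ 2 + 1) ≤ (r + 1) ^ 3 := by nlinarith only []
  calc (r + 1) ^ 2 * r * ((r + 1) ^ 2 + 1) = (r + 1) ^ 2 * (r * ((r + 1) ^ 2 + 1)) := by ring
    _ ≤ (r + 1) ^ 2 * (r + 1) ^ 3 := Nat.mul_le_mul_left _ this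
    _ = _ := by ring

theorem sz {F : Type u} [Field F] [Fintype F] {m : ℕ} (hm : 1 ≤ m) (hF : Fintype.card F = 2 ^ (2 * m + 1))
    (hs : IsSimpleGroup ↥(Cfsg.Lie.Sz F (2 ^ (m + 1)))) (hna : ¬ IsMulCommutative ↥(Cfsg.Lie.Sz F (2 ^ (m + 1)))) :
    Good ↥(Cfsg.Lie.Sz F (2 ^ (m + 1))) := by
  classical
  have hout := S2126.result hm hF
  have hcard := (S1163.result hm hF).1
  have hb := H934.IdxSz.card_le_index hF hs
  rcases Nat.lt_or_ge m 3 with h | h
  · interval_cases m
    · have hcard' : Nat.card ↥(Cfsg.Lie.Sz F (2 ^ (1 + 1))) = 29120 := hcard.trans (by norm_num)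
      exact H540.EngG.of_check₀ hna (o := 3) hout.le [(2, 6), (5, 1), (7, 1), (13, 1)]
        (by norm_num) hcard' (by decide +kernel)
        [.V, .V, .V, .V, .V, .V, .V, .V, .J 7 1, .K [7,13], .D, .J 13 1, .D, .D, .D, .J 13 1, .D, .D, .D]
        (by decide +kernel)
    · have hcard' : Nat.card ↥(Cfsg.Lie.Sz F (2 ^ (2 + 1))) = 32537600 := hcard.trans (by norm_num)
      exact H540.EngG.of_check hna (o := 5) (N := 32537600) (M := 32537600) (b := 32) hout.le
        (hcard' ▸ card_conjClasses_le_card) [(2, 10), (5, 2), (31, 1), (41, 1)] []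
        (by norm_num) hcard' (by decide +kernel) (fun e he => absurd he (by simp)) (by norm_num)
        (fun K hK => (by rw [hF]; norm_num : (32 : ℕ) ≤ Fintype.card F).trans (hb K hK))
        [.V, .V, .V, .V, .V, .V, .V, .V, .V, .J 31 1, .D, .D]
        (by decide +kernel)
  · exact of_two (b := 2 ^ (2 * m + 1)) hout (sz_card_le hm hF) (fun K hK => hF ▸ hb K hK)
      (by have := twelve_mul_le (f := 2 * m + 1) (by omega); omega)

/-! ### Ree groups -/

theorem ree_card_le {K : Type u} [Field K] [Fintype K] {m : ℕ} (hK : Fintype.card K = 3 ^ (2 * m + 1)) :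
    Nat.card ↥(twistedG2 K (3 ^ m)) ≤ (3 ^ (2 * m + 1)) ^ 7 := by
  rw [S1069.result hK]
  set q := 3 ^ (2 * m + 1) with hq
  have hq1 : 1 ≤ q := Nat.one_le_pow _ _ (by norm_num)
  obtain ⟨r, hr⟩ : ∃ r, q = r + 1 := ⟨q - 1, by omega⟩
  rw [hr]
  simp only [Nat.add_sub_cancel]
  have : r * ((r + 1) ^ 3 + 1) ≤ (r + 1) ^ 4 := by
    have h1 : r ≤ (r + 1) ^ 3 := (Nat.le_succ r).trans (Nat.le_self_pow (by norm_num) _)
    calc r * ((r + 1) ^ 3 + 1) = r * (r + 1) ^ 3 + r := by ring
      _ ≤ r * (r + 1) ^ 3 + (r + 1) ^ 3 := Nat.add_le_add_left h1 _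
      _ = _ := by ring
  calc (r + 1) ^ 3 * r * ((r + 1) ^ 3 + 1) = (r + 1) ^ 3 * (r * ((r + 1) ^ 3 + 1)) := by ring
    _ ≤ (r + 1) ^ 3 * (r + 1) ^ 4 := Nat.mul_le_mul_left _ this
    _ = _ := by ring

theorem two_seven_le {f : ℕ} (h : 5 ≤ f) : 24 * f + 1 ≤ (3 ^ f + 1) / 2 := by
  rw [Nat.le_div_iff_mul_le (by norm_num)]
  induction f, h using Nat.le_induction with
  | base => norm_num
  | succ n hn ih => rw [pow_succ]; omega

theorem ree {K : Type u} [Field K] [Fintype K] {m : ℕ} (hm : 1 ≤ m) (hK : Fintype.card K = 3 ^ (2 * m + 1))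
    (hs : IsSimpleGroup ↥(twistedG2 K (3 ^ m))) (hna : ¬ IsMulCommutative ↥(twistedG2 K (3 ^ m))) :
    Good ↥(twistedG2 K (3 ^ m)) := by
  classical
  have : Finite (GL chevG2.Idx K) := inferInstance
  have hout := S2127.result hm hK
  have hcard := S1069.result hK
  have hb := H934.IdxRee.card_le_two_mul hK hs
  rcases Nat.lt_or_ge m 2 with h | h
  · have hm1 : m = 1 := by omega
    subst hm1
    have hcard' : Nat.card ↥(twistedG2 K (3 ^ 1)) = 10073444472 := hcard.trans (by norm_num)
    have h37 := prime_le_index hna (p := 37) (by norm_num) (by rw [hcard']; norm_num)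
    exact H540.EngG.of_check hna (o := 3) (N := 10073444472) (M := 10073444472) (b := 37) hout.le
        (hcard' ▸ card_conjClasses_le_card) [(2, 3), (3, 9), (7, 1), (13, 1), (19, 1), (37, 1)] []
        (by norm_num only [_root_.List.mem_cons, _root_.List.not_mem_nil, _root_.or_false, _root_.forall_eq_or_imp, _root_.forall_eq, _root_.and_self]) hcard' (by decide +kernel) (fun e he => absurd he (by simp)) (by norm_num)
        h37
        [.J 19 1, .K [19,37], .K [19,37], .D, .D, .J 37 1, .D, .D, .D, .D, .D, .D, .D, .D, .D, .J 37 1, .D, .J 37 1, .D, .J 37 1, .J 37 1]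
        (by decide +kernel)
  · set f := 2 * m + 1 with hf
    have h1 : f ^ 2 ≤ 3 ^ f := by
      have h5 : 5 ≤ f := by omega
      clear_value f
      clear hf hout hcard hb hK
      induction f, h5 using Nat.le_induction with
      | base => norm_num
      | succ n hn ih => rw [pow_succ 3]; nlinarith only [hn, ih]
    refine of_card hout.le (ree_card_le hK) (b := 24 * f + 1) ?_ ?_
    · intro H hH
      have h1 := hb H hH
      have h2 := two_seven_le (f := f) (by omega)
      rw [hK] at h1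
      omega
    · have h3 : (3 : ℕ) ^ 5 ≤ 2 ^ 8 := by norm_num
      calc ((3 ^ f) ^ 7 * f) ^ 2 = ((3 ^ f) ^ 14) * f ^ 2 := by ring
        _ ≤ (3 ^ f) ^ 14 * 3 ^ f := Nat.mul_le_mul_left _ h1
        _ = ((3 ^ 5) ^ 3) ^ f := by rw [← pow_mul, ← pow_mul, ← pow_mul, ← pow_add]; congr 1; ring
        _ ≤ ((2 ^ 8) ^ 3) ^ f := Nat.pow_le_pow_left (Nat.pow_le_pow_left h3 3) f
        _ = 2 ^ (24 * f) := by rw [← pow_mul, ← pow_mul]; congr 1; ring
        _ ≤ _ := Nat.pow_le_pow_right (by norm_num) (by omega)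

/-! ### `²F₄(q)` -/

theorem tf4_card_le {K : Type u} [Field K] [Fintype K] {m : ℕ} (hK : Fintype.card K = 2 ^ (2 * m + 1)) :
    Nat.card ↥(twistedF4 K (2 ^ m)) ≤ (2 ^ (2 * m + 1)) ^ 26 := by
  rw [S1068.result hK]
  set q := 2 ^ (2 * m + 1) with hq
  have hq1 : 1 ≤ q := Nat.one_le_two_pow
  have e1 : (q - 1) * (q ^ 3 + 1) ≤ q ^ 4 := by
    obtain ⟨r, hr⟩ : ∃ r, q = r + 1 := ⟨q - 1, by omega⟩
    rw [hr]
    simp only [Nat.add_sub_cancel]
    have h1 : r ≤ (r + 1) ^ 3 := (Nat.le_succ r).trans (Nat.le_self_pow (by norm_num) _)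
    calc r * ((r + 1) ^ 3 + 1) = r * (r + 1) ^ 3 + r := by ring
      _ ≤ r * (r + 1) ^ 3 + (r + 1) ^ 3 := Nat.add_le_add_left h1 _
      _ = _ := by ring
  have e2 : (q ^ 4 - 1) * (q ^ 6 + 1) ≤ q ^ 10 := by
    have hq4 : 1 ≤ q ^ 4 := Nat.one_le_pow _ _ hq1
    obtain ⟨r, hr⟩ : ∃ r, q ^ 4 = r + 1 := ⟨q ^ 4 - 1, by omega⟩
    have h1 : r ≤ q ^ 6 := by
      have : q ^ 4 ≤ q ^ 6 := Nat.pow_le_pow_right hq1 (by norm_num)
      omega
    have h2 : q ^ 10 = (r + 1) * q ^ 6 := by rw [← hr]; ring
    rw [h2, hr, Nat.add_sub_cancel]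
    calc r * (q ^ 6 + 1) = r * q ^ 6 + r := by ring
      _ ≤ r * q ^ 6 + q ^ 6 := Nat.add_le_add_left h1 _
      _ = _ := by ring
  calc q ^ 12 * (q - 1) * (q ^ 3 + 1) * (q ^ 4 - 1) * (q ^ 6 + 1)
      = q ^ 12 * ((q - 1) * (q ^ 3 + 1)) * ((q ^ 4 - 1) * (q ^ 6 + 1)) := by ring
    _ ≤ q ^ 12 * q ^ 4 * q ^ 10 := Nat.mul_le_mul (Nat.mul_le_mul_left _ e1) e2
    _ = _ := by ring

theorem tf4 {K : Type u} [Field K] [Fintype K] {m : ℕ} (hm : 2 ≤ m) (hK : Fintype.card K = 2 ^ (2 * m + 1))
    (hs : IsSimpleGroup ↥(twistedF4 K (2 ^ m))) (hna : ¬ IsMulCommutative ↥(twistedF4 K (2 ^ m))) :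
    Good ↥(twistedF4 K (2 ^ m)) := by
  classical
  have : Finite (GL chevF4.Idx K) := inferInstance
  have hout := S2128.result (by omega : 1 ≤ m) hK
  have hcard := S1068.result hK
  have hb := H934.IdxTwF4.card_le_index hK hs
  have ht := tf4_card_le hK
  rcases Nat.lt_or_ge m 4 with h | h
  · have hd : ∀ p : ℕ, p ∣ (2 ^ (2 * m + 1)) ^ 6 + 1 → p ∣ Nat.card ↥(twistedF4 K (2 ^ m)) := fun p hp => by
      rw [hcard]; exact hp.mul_left _
    interval_cases m
    · exact of_two hout ht (prime_le_index hna (p := 1321) (by norm_num) (hd _ (by norm_num))) (by norm_num)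
    · exact of_two hout ht (prime_le_index hna (p := 1429) (by norm_num) (hd _ (by norm_num))) (by norm_num)
  · exact of_two (b := 2 ^ (2 * m + 1)) hout ht (fun H hH => hK ▸ hb H hH)
      (by have := fiftyfour_mul_le (f := 2 * m + 1) (by omega); omega)

/-! ### `³D₄(q)` -/

theorem td4_out {K : Type u} [Field K] [Fintype K] {q : ℕ} (hq : IsPrimePow q) (hK : Fintype.card K = q ^ 3) :
    Nat.card (Cfsg.Out ↥(twistedD4 K q)) ≤ 3 * (q - 1) := by
  obtain ⟨p, f, hp, hf, hqe⟩ := (isPrimePow_nat_iff _).1 hq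
  have : Fact p.Prime := ⟨hp⟩
  have hcp : CharP K p := by
    obtain ⟨p', hp'⟩ := CharP.exists K
    obtain ⟨k, hpp, hk⟩ := FiniteField.card K p'
    have h1 : p' ∣ p := hpp.dvd_of_dvd_pow (n := f * 3) (by
      rw [pow_mul, hqe, ← hK, hk]; exact dvd_pow_self p' k.pos.ne')
    rwa [← (Nat.prime_dvd_prime_iff_eq hpp hp).1 h1]
  have hout : Nat.card (Cfsg.Out ↥(twistedD4 K q)) = 3 * f := by
    subst hqe
    exact S2129.result p f (by rw [hK, ← pow_mul, mul_comm]) hf
  have hq2 : 2 ≤ q := hq.one_lt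
  have hfq : f < q := hqe ▸ Nat.lt_pow_self hp.one_lt
  rw [hout]
  omega

theorem td4_card_le {K : Type u} [Field K] [Fintype K] {q : ℕ} (hq : IsPrimePow q) (hK : Fintype.card K = q ^ 3) :
    Nat.card ↥(twistedD4 K q) ≤ q ^ 28 := by
  have hq2 : 2 ≤ q := hq.one_lt
  have hcard := S1067.result (K := K) hq hK
  have e1 : (q ^ 2 - 1) * (q ^ 8 + q ^ 4 + 1) ≤ q ^ 10 := by
    have h1 : 1 ≤ q ^ 2 := Nat.one_le_pow _ _ (by omega)
    obtain ⟨r, hr⟩ : ∃ r, q ^ 2 = r + 1 := ⟨q ^ 2 - 1, by omega⟩
    have e8 : q ^ 8 = (r + 1) ^ 4 := by rw [← hr]; ring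
    have e4 : q ^ 4 = (r + 1) ^ 2 := by rw [← hr]; ring
    have e10 : q ^ 10 = (r + 1) ^ 5 := by rw [← hr]; ring
    rw [hr, e8, e4, e10, Nat.add_sub_cancel]
    linarith only [Nat.zero_le (r ^ 3), Nat.zero_le (r ^ 4), _root_.sq_nonneg (↑r : ℤ), _root_.Nat.cast_nonneg (α := ℤ) (r)]
  calc Nat.card ↥(twistedD4 K q) = q ^ 12 * ((q ^ 2 - 1) * (q ^ 8 + q ^ 4 + 1)) * (q ^ 6 - 1) := by
        rw [hcard]; ring
    _ ≤ q ^ 12 * q ^ 10 * q ^ 6 := Nat.mul_le_mul (Nat.mul_le_mul_left _ e1) (Nat.sub_le _ _)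
    _ = _ := by ring

theorem td4_index {K : Type u} [Field K] [Fintype K] {q : ℕ} (hq : IsPrimePow q) (hK : Fintype.card K = q ^ 3)
    (hs : IsSimpleGroup ↥(twistedD4 K q)) (H : Subgroup ↥(twistedD4 K q)) (hH : H ≠ ⊤) : q ^ 5 ≤ H.index := by
  have h := H934.HeisTwD4.bound_3D4 hq hK hs H hH
  rw [show q ^ 10 = (q ^ 5) ^ 2 by ring] at h
  exact (Nat.pow_le_pow_iff_left (by norm_num)).1 h

theorem td4 {K : Type u} [Field K] [Fintype K] {q : ℕ} (hq : IsPrimePow q) (h3 : 3 ≤ q) (hK : Fintype.card K = q ^ 3)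
    (hs : IsSimpleGroup ↥(twistedD4 K q)) : Good ↥(twistedD4 K q) := by
  have : Finite (GL chevD4.Idx K) := inferInstance
  refine of_pow (q := q) (N := 30) (b := q ^ 5) (by omega) ?_ (td4_index hq hK hs) ?_
  · calc _ ≤ (3 * (q - 1)) * q ^ 28 := Nat.mul_le_mul (td4_out hq hK) (td4_card_le hq hK)
      _ ≤ q ^ 2 * q ^ 28 := by
        apply Nat.mul_le_mul_right
        obtain ⟨r, rfl⟩ : ∃ r, q = r + 3 := ⟨q - 3, by omega⟩
        have h1 : (r + 3) ^ 2 = r ^ 2 + 6 * r + 9 := by ring
        have h2 : (0 : ℕ) ≤ r ^ 2 := Nat.zero_le _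
        omega
      _ = _ := by ring
  · have h1 : 3 ^ 4 * q ≤ q ^ 5 := by
      rw [pow_succ q 4]
      exact Nat.mul_le_mul_right _ (Nat.pow_le_pow_left h3 4)
    omega

/-! ### `G₂(q)` -/

theorem g2 {F : Type u} [Field F] [Fintype F] (h3 : 7 ≤ Fintype.card F) (h5 : ¬ 5 ∣ Nat.card ↥(chevG2.group F))
    (hs : IsSimpleGroup ↥(chevG2.group F)) : Good ↥(chevG2.group F) := by
  have : Finite (GL chevG2.Idx F) := inferInstance
  obtain ⟨p, f, hp, hc, hf, hF⟩ := exists_char F
  have : Fact p.Prime := ⟨hp⟩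
  have hout := S2121.result p f hF (by rw [← hF]; omega)
  have ht := IdxG2.card_le (F := F)
  by_cases hp3 : p = 3
  · subst hp3
    rw [if_pos rfl] at hout
    have hf3 : 3 ≤ f := by
      by_contra hf3
      rcases (show f = 1 ∨ f = 2 by omega) with rfl | rfl
      · rw [hF] at h3; omega
      · apply h5
        rw [S1059.result (F := F) hF]
        norm_num
    refine of_card hout.le ht (IdxG2.sq_le hs) ?_
    have h1 : 2 * f ≤ 4 ^ f := by
      clear hF hout h3 hf
      induction f, hf3 using Nat.le_induction with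
      | base => norm_num
      | succ n hn ih => rw [pow_succ]; omega
    have h2 := sixty_mul_le hf3
    rw [hF]
    calc ((3 ^ f) ^ 14 * (2 * f)) ^ 2 ≤ ((4 ^ f) ^ 14 * 4 ^ f) ^ 2 := by
          gcongr
          norm_num
      _ = (4 ^ f) ^ 30 := by ring
      _ = 2 ^ (60 * f) := by
          rw [show (4 : ℕ) = 2 ^ 2 by norm_num, ← pow_mul, ← pow_mul]; congr 1; ring
      _ ≤ 2 ^ ((3 ^ f) ^ 2) := by
          refine Nat.pow_le_pow_right (by norm_num) ?_
          rwa [← pow_mul, mul_comm f 2, pow_mul]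
  · rw [if_neg hp3] at hout
    have h30 : (3 : F) ≠ 0 := by
      intro h0
      have h1 : ((3 : ℕ) : F) = 0 := by exact_mod_cast h0
      rw [CharP.cast_eq_zero_iff F p] at h1
      exact hp3 ((Nat.prime_dvd_prime_iff_eq hp Nat.prime_three).1 h1)
    refine of_pow (q := Fintype.card F) (N := 15) (b := Fintype.card F ^ 3) (by omega) ?_ (IdxG2.cube_le h30 hs) ?_
    · have h5 : f ≤ Fintype.card F := hF ▸ IdxE.le_pow hp
      calc _ ≤ Fintype.card F * Fintype.card F ^ 14 := Nat.mul_le_mul (hout.le.trans h5) ht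
        _ = _ := by ring
    · have h5 : 7 ^ 2 * Fintype.card F ≤ Fintype.card F ^ 3 := by
        rw [pow_succ _ 2]
        exact Nat.mul_le_mul_right _ (Nat.pow_le_pow_left h3 2)
      omega

/-! ### the rows -/

theorem row_sz (T : Type) [Group T] [IsSimpleGroup T] (hT : ¬ IsMulCommutative T) (h : Lie.IsoSuzuki T) : Good T := by
  obtain ⟨F, _, _, m, hm, hF, ⟨e⟩⟩ := h
  exact of_equiv hT e fun h h' => sz hm hF h h'

theorem row_ree (T : Type) [Group T] [IsSimpleGroup T] (hT : ¬ IsMulCommutative T) (h : Lie.IsoRee T) : Good T := by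
  obtain ⟨F, _, _, m, hm, hF, ⟨e⟩⟩ := h
  exact of_equiv hT e fun h h' => ree hm hF h h'

theorem row_tf4 (T : Type) [Group T] [IsSimpleGroup T] (hT : ¬ IsMulCommutative T) (h : Lie.Iso2F4 T)
    (h7 : ¬ 7 ∣ Nat.card T) : Good T := by
  obtain ⟨F, _, _, m, hm, hF, ⟨e⟩⟩ := h
  have hm2 : 2 ≤ m := by
    by_contra hcon
    have hm1 : m = 1 := by omega
    subst hm1
    apply h7
    rw [Nat.card_congr e.toEquiv, S1068.result hF]
    norm_num
  exact of_equiv hT e fun h h' => tf4 hm2 hF h h'

end Cfsg.Agent.H599.GoodA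
end

-- part: H599/GoodB
section
/-!
# `Good` for `³D₄(2)`
-/

set_option autoImplicit false

namespace Cfsg.Agent.H599.GoodB

open Cfsg Cfsg.Agent.Characters.Core MulAction
open Cfsg.Agent.H713.Spor.RankThree (pc pc_one inner_pc_one)
open Cfsg.Agent.S0157 (isCharacter_fixedBy)

/-- If all nontrivial irreducible characters have degree at least `d`, and `|G : H| ≤ 2 d`, then
`|G : H| - 1` divides `|G|`. -/
theorem index_sub_one_dvd {G : Type*} [Group G] [Finite G] {d : ℕ}
    (hd : ∀ χ : IrrCharacter G, (χ : G → ℂ) ≠ 1 → d ≤ charDegree (χ : G → ℂ))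
    {H : Subgroup G} (hH : H ≠ ⊤) (hlt : H.index ≤ 2 * d) : H.index - 1 ∣ Nat.card G := by
  classical
  have := Fintype.ofFinite G
  have := finite_irr (G := G)
  have := Fintype.ofFinite (IrrCharacter G)
  obtain ⟨m, hm⟩ := exists_nat_comb (isCharacter_fixedBy (G := G) (G ⧸ H))
  have h1 : m ⟨1, isIrr_one⟩ = 1 := by
    have h2 := inner_pc_one (G := G) (G ⧸ H)
    have h3 : pc G (G ⧸ H) = ∑ ψ : IrrCharacter G, m ψ • (ψ : G → ℂ) := hm
    rw [h3] at h2
    have h4 := classInner_sum_nsmul_irr m ⟨1, isIrr_one⟩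
    change classInner (∑ ψ : IrrCharacter G, m ψ • (ψ : G → ℂ)) 1 = _ at h4
    rw [h2] at h4
    exact_mod_cast h4.symm
  have hdeg : H.index = ∑ ψ : IrrCharacter G, m ψ * charDegree (ψ : G → ℂ) := by
    have h2 : pc G (G ⧸ H) 1 = (∑ ψ : IrrCharacter G, m ψ • (ψ : G → ℂ)) 1 := congrFun hm 1
    rw [pc_one, Finset.sum_apply] at h2
    have h3 : ((H.index : ℕ) : ℂ) = ((∑ ψ : IrrCharacter G, m ψ * charDegree (ψ : G → ℂ) : ℕ) : ℂ) := by
      rw [Subgroup.index, h2]
      push_cast
      refine Finset.sum_congr rfl fun ψ _ => ?_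
      rw [Pi.smul_apply, nsmul_eq_mul, Blocks.Basic.irr_one_eq_charDegree ψ.2]
    exact_mod_cast h3
  have hone : charDegree (((⟨1, isIrr_one⟩ : IrrCharacter G)) : G → ℂ) = 1 := by
    have := Blocks.Basic.irr_one_eq_charDegree (isIrr_one (G := G))
    have h2 : ((1 : ℕ) : ℂ) = ((charDegree (1 : G → ℂ) : ℕ) : ℂ) := by rw [← this]; simp
    exact_mod_cast h2.symm
  obtain ⟨one, hone'⟩ : ∃ one : IrrCharacter G, one = ⟨1, isIrr_one⟩ := ⟨_, rfl⟩
  rw [← hone'] at h1 hone
  obtain ⟨f, hf⟩ : ∃ f : IrrCharacter G → ℕ, f = fun ψ => m ψ * charDegree (ψ : G → ℂ) := ⟨_, rfl⟩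
  have hf' : ∀ ψ : IrrCharacter G, f ψ = m ψ * charDegree (ψ : G → ℂ) := fun ψ => by rw [hf]
  have key : ∑ ψ, f ψ = f one + ∑ ψ ∈ Finset.univ.erase one, f ψ :=
    (Finset.add_sum_erase _ f (Finset.mem_univ one)).symm
  have hdeg' : H.index = ∑ ψ, f ψ := by rw [hf]; exact hdeg
  rw [key, hf', h1, hone] at hdeg'
  have hidx : 1 < H.index := Subgroup.one_lt_index_of_ne_top hH
  obtain ⟨S, hS⟩ : ∃ S : Finset (IrrCharacter G), S = Finset.univ.erase one := ⟨_, rfl⟩
  rw [← hS] at hdeg'
  obtain ⟨ψ, hψ, hne⟩ : ∃ ψ ∈ S, f ψ ≠ 0 := by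
    by_contra hcon
    push Not at hcon
    rw [Finset.sum_eq_zero hcon] at hdeg'
    omega
  have hne1 : ∀ x ∈ S, (x : G → ℂ) ≠ 1 := fun x hx h => by
    rw [hS] at hx
    exact (Finset.mem_erase.1 hx).1 (hone' ▸ Subtype.ext h)
  have hsum : f ψ + ∑ x ∈ S.erase ψ, f x = ∑ x ∈ S, f x := Finset.add_sum_erase _ f hψ
  have hdψ := hd ψ (hne1 ψ hψ)
  have hmψ : m ψ = 1 := by
    have h0 : m ψ ≠ 0 := left_ne_zero_of_mul (hf' ψ ▸ hne)
    by_contra hcon
    have h2 : 2 ≤ m ψ := by omega
    have h3 : 2 * d ≤ f ψ := by rw [hf']; exact Nat.mul_le_mul h2 hdψ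
    omega
  have hrest : ∑ x ∈ S.erase ψ, f x = 0 := by
    refine Finset.sum_eq_zero fun x hx => ?_
    by_contra h0
    have hx1 := hne1 x (Finset.mem_erase.1 hx).2
    have h2 : f x ≤ ∑ x ∈ S.erase ψ, f x :=
      Finset.single_le_sum (f := f) (fun _ _ => Nat.zero_le _) hx
    have h3 : charDegree (x : G → ℂ) ≤ f x := by
      rw [hf'] at h0 ⊢
      exact Nat.le_mul_of_pos_left _ (Nat.pos_of_ne_zero (left_ne_zero_of_mul h0))
    have h4 := hd x hx1
    rw [hf' ψ, hmψ, one_mul] at hsum
    omega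
  have hfin : H.index - 1 = charDegree (ψ : G → ℂ) := by
    rw [hf' ψ, hmψ, one_mul, hrest] at hsum
    omega
  rw [hfin]
  exact _root_.Cfsg.Agent.H596.charDegree_dvd_card ψ.2

/-- Nontrivial irreducible characters of nonabelian simple groups have degree at least two. -/
theorem two_le_charDegree {G : Type*} [Group G] [Finite G] [IsSimpleGroup G] (hna : ¬ IsMulCommutative G)
    {χ : G → ℂ} (hχ : IsIrrCharacter G χ) (h1 : χ ≠ 1) : 2 ≤ charDegree χ := by
  have h0 := Blocks.Basic.charDegree_pos hχ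
  by_contra hcon
  have hd : charDegree χ = 1 := by omega
  have h2 : χ 1 = 1 := by rw [Blocks.Basic.irr_one_eq_charDegree hχ, hd]; norm_num
  obtain ⟨f, hf⟩ := Characters.Linear.exists_hom_of_isIrrCharacter hχ h2
  rcases (MonoidHom.normal_ker f).eq_bot_or_eq_top with h | h
  · apply hna
    refine ⟨⟨fun a b => ?_⟩⟩
    apply (MonoidHom.ker_eq_bot_iff f).1 h
    rw [map_mul, map_mul, mul_comm]
  · apply h1
    rw [hf]
    ext g
    have : g ∈ f.ker := by rw [h]; trivial
    rw [MonoidHom.mem_ker] at this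
    simp [this]

theorem td4_two {K : Type} [Field K] [Fintype K] (hK : Fintype.card K = 2 ^ 3)
    (hs : IsSimpleGroup ↥(Lie.twistedD4 K 2)) (hna : ¬ IsMulCommutative ↥(Lie.twistedD4 K 2)) :
    H540.Good.Good ↥(Lie.twistedD4 K 2) := by
  have hq : IsPrimePow 2 := Nat.prime_two.isPrimePow
  have : Finite (GL Lie.chevD4.Idx K) := inferInstance
  have hcard : Nat.card ↥(Lie.twistedD4 K 2) = 211341312 := (S1067.result (K := K) hq hK).trans (by norm_num)
  have hout : Nat.card (Cfsg.Out ↥(Lie.twistedD4 K 2)) ≤ 3 := GoodA.td4_out hq hK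
  have h32 : ∀ H : Subgroup ↥(Lie.twistedD4 K 2), H ≠ ⊤ → 32 ≤ H.index := fun H hH =>
    le_trans (by norm_num) (GoodA.td4_index hq hK hs H hH)
  have hdeg : ∀ χ : IrrCharacter ↥(Lie.twistedD4 K 2), (χ : ↥(Lie.twistedD4 K 2) → ℂ) ≠ 1 →
      26 ≤ charDegree (χ : ↥(Lie.twistedD4 K 2) → ℂ) := by
    intro χ hχ
    have h2 := two_le_charDegree hna χ.2 hχ
    obtain ⟨n, ρ, hρ, -, hn⟩ := _root_.Cfsg.Agent.H596.exists_rep χ.2
    rw [Module.finrank_fin_fun] at hn
    rw [hn] at h2 ⊢
    have h3 := S2342.result 2 hq hK n ρ hρ h2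
    norm_num at h3
    exact h3
  have h48 : ∀ H : Subgroup ↥(Lie.twistedD4 K 2), H ≠ ⊤ → 48 ≤ H.index := by
    intro H hH
    by_contra hcon
    have h1 := h32 H hH
    have h2 := index_sub_one_dvd hdeg hH (by omega)
    have h3 : H.index ∣ Nat.card ↥(Lie.twistedD4 K 2) := H.index_dvd_card
    rw [hcard] at h2 h3
    push Not at hcon
    generalize H.index = n at h1 h2 h3 hcon
    interval_cases n <;> omega
  refine H540.Good.Good.of_bounds (c := 1 + (211341312 - 1) / 48) (o := 3) (L := 48) ?_ hout h48 (by norm_num)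
  have h1 := H539.card_conjClasses_le_div (H539.center_eq_bot hna) (by norm_num) h48
  rwa [hcard] at h1

end Cfsg.Agent.H599.GoodB
end

-- part: H599/GoodC
section
/-!
# `Good` for `G₂(3)`
-/

set_option autoImplicit false

namespace Cfsg.Agent.H599.GoodC

open Cfsg Cfsg.Agent.H540.Good
open Cfsg.Agent.BpLieP.Big (LocChar)

/-- `k(X) ≤ |X|_p + (k_{p'}(X) - 1) |X|_p / p` if no nonidentity `p'`-element centralises a Sylow `p`-subgroup. -/
theorem k_le_pprime' {X : Type*} [Group X] [Finite X] (p : ℕ) [hp : Fact p.Prime] {c a : ℕ}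
    (hc : Nat.card {c : ConjClasses X // ∃ g : X, ConjClasses.mk g = c ∧ (orderOf g).Coprime p} ≤ c)
    (ha : (Nat.card X).factorization p ≤ a + 1)
    (hloc : ∀ s : X, s ≠ 1 → (orderOf s).Coprime p →
      (Nat.card (Subgroup.centralizer ({s} : Set X))).factorization p ≤ a) :
    Nat.card (ConjClasses X) ≤ p ^ (a + 1) + (c - 1) * p ^ a := by
  classical
  let I := {c : ConjClasses X // ∃ g : X, ConjClasses.mk g = c ∧ (orderOf g).Coprime p}
  have hrep : ∀ i : I, ∃ g : X, ConjClasses.mk g = i.1 ∧ (orderOf g).Coprime p := fun i => i.2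
  choose rep hrep1 hrep2 using hrep
  let J : I → Type _ := fun i =>
    {C : ConjClasses (Subgroup.centralizer ({rep i} : Set X)) //
      ∀ q : ℕ, q.Prime → (∃ g : Subgroup.centralizer ({rep i} : Set X),
        ConjClasses.mk g = C ∧ q ∣ orderOf g) → q ∈ ({p} : Set ℕ)}
  have hJ0 : ∀ i, Nat.card (J i) ≤ p ^ (Nat.card (Subgroup.centralizer ({rep i} : Set X))).factorization p := by
    intro i
    set C := Nat.card (Subgroup.centralizer ({rep i} : Set X)) with hCdef
    have hC0 : C ≠ 0 := Nat.card_pos.ne'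
    exact S4106.result (G := Subgroup.centralizer ({rep i} : Set X)) ({p} : Set ℕ)
      (by intro q hq; rw [Set.mem_singleton_iff] at hq; rw [hq]; exact hp.out)
      (p ^ C.factorization p) (Nat.ordProj_dvd C p)
      (by
        intro q hq hqd
        rw [Set.mem_singleton_iff]
        exact (Nat.prime_dvd_prime_iff_eq hq hp.out).1 (hq.dvd_of_dvd_pow hqd))
      (by
        intro q hq
        rw [Set.mem_singleton_iff] at hq
        rw [hq]
        exact Nat.not_dvd_ordCompl hp.out hC0)
  let i0 : I := ⟨ConjClasses.mk 1, 1, rfl, by rw [orderOf_one]; exact Nat.coprime_one_left p⟩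
  have hJ : ∀ i, Nat.card (J i) ≤ if i = i0 then p ^ (a + 1) else p ^ a := by
    intro i
    refine (hJ0 i).trans ?_
    split_ifs with h
    · refine Nat.pow_le_pow_right hp.out.pos (le_trans ?_ ha)
      exact (Nat.factorization_le_iff_dvd Nat.card_pos.ne' Nat.card_pos.ne').2
        (Subgroup.card_subgroup_dvd_card _) p
    · refine Nat.pow_le_pow_right hp.out.pos (hloc _ (fun h1 => h (Subtype.ext ?_)) (hrep2 i))
      rw [← hrep1 i, h1]
  let F : (Σ i : I, J i) → ConjClasses X := fun z =>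
    Quotient.lift (fun y : Subgroup.centralizer ({rep z.1} : Set X) => ConjClasses.mk (rep z.1 * y.1))
      (by
        intro y y' hy
        obtain ⟨c, hc⟩ := isConj_iff.1 hy
        rw [ConjClasses.mk_eq_mk_iff_isConj, isConj_iff]
        refine ⟨c.1, ?_⟩
        have h1 : rep z.1 * c.1 = c.1 * rep z.1 := (Subgroup.mem_centralizer_iff.1 c.2) _ rfl
        rw [← hc]
        change c.1 * (rep z.1 * y.1) * c.1⁻¹ = rep z.1 * (c.1 * y.1 * c.1⁻¹)
        rw [← mul_assoc, ← h1]; group) z.2.1
  have hF : Function.Surjective F := by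
    intro D
    obtain ⟨g, rfl⟩ := ConjClasses.mk_surjective D
    obtain ⟨s, w, hg, hsw, hs, k, hw⟩ := exists_parts p g
    let i : I := ⟨ConjClasses.mk s, s, rfl, hs⟩
    obtain ⟨c, hc⟩ := isConj_iff.1 (ConjClasses.mk_eq_mk_iff_isConj.1 (hrep1 i)).symm
    have hmem : c * w * c⁻¹ ∈ Subgroup.centralizer ({rep i} : Set X) := by
      rw [Subgroup.mem_centralizer_iff]
      intro y hy
      rw [Set.mem_singleton_iff] at hy
      rw [hy, ← hc]
      calc c * s * c⁻¹ * (c * w * c⁻¹) = c * (s * w) * c⁻¹ := by group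
        _ = c * (w * s) * c⁻¹ := by rw [hsw]
        _ = _ := by group
    refine ⟨⟨i, ⟨ConjClasses.mk ⟨c * w * c⁻¹, hmem⟩, ?_⟩⟩, ?_⟩
    · rintro q hq ⟨y, hy, hqy⟩
      rw [Set.mem_singleton_iff]
      have h1 : orderOf y ∣ p ^ k := by
        apply orderOf_dvd_of_pow_eq_one
        obtain ⟨d, hd⟩ := isConj_iff.1 (ConjClasses.mk_eq_mk_iff_isConj.1 hy).symm
        rw [← hd, conj_pow]
        have h2 : (⟨c * w * c⁻¹, hmem⟩ : Subgroup.centralizer ({rep i} : Set X)) ^ p ^ k = 1 := by
          apply Subtype.ext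
          change (c * w * c⁻¹) ^ p ^ k = 1
          rw [conj_pow, hw, mul_one, mul_inv_cancel]
        rw [h2, mul_one, mul_inv_cancel]
      exact (Nat.prime_dvd_prime_iff_eq hq hp.out).1 (hq.dvd_of_dvd_pow (hqy.trans h1))
    · change ConjClasses.mk (rep i * (c * w * c⁻¹)) = ConjClasses.mk g
      rw [ConjClasses.mk_eq_mk_iff_isConj, isConj_comm, isConj_iff]
      refine ⟨c, ?_⟩
      rw [hg, ← hc]; group
  have := Fintype.ofFinite I
  have h1 : Nat.card (ConjClasses X) ≤ Nat.card (Σ i : I, J i) := Nat.card_le_card_of_surjective F hF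
  rw [Nat.card_sigma] at h1
  refine h1.trans ?_
  calc ∑ i : I, Nat.card (J i) ≤ ∑ i : I, (if i = i0 then p ^ (a + 1) else p ^ a) := Finset.sum_le_sum fun i _ => hJ i
    _ = p ^ (a + 1) + (Nat.card I - 1) * p ^ a := by
      rw [← Finset.add_sum_erase _ _ (Finset.mem_univ i0), if_pos rfl]
      congr 1
      rw [Finset.sum_congr rfl (g := fun _ => p ^ a) (fun i hi => if_neg (Finset.mem_erase.1 hi).1), Finset.sum_const,
        Finset.card_erase_of_mem (Finset.mem_univ _), Finset.card_univ, smul_eq_mul, ← Nat.card_eq_fintype_card]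
    _ ≤ p ^ (a + 1) + (c - 1) * p ^ a := Nat.add_le_add_left (Nat.mul_le_mul_right _ (Nat.sub_le_sub_right hc 1)) _

/-- In a group of local characteristic `p`, no nonidentity `p'`-element centralises a Sylow `p`-subgroup. -/
theorem factorization_le {X : Type*} [Group X] [Finite X] (p : ℕ) [hp : Fact p.Prime] (hL : LocChar p X)
    {a : ℕ} (ha : (Nat.card X).factorization p = a + 1) {s : X} (hs1 : s ≠ 1) (hs : (orderOf s).Coprime p) :
    (Nat.card (Subgroup.centralizer ({s} : Set X))).factorization p ≤ a := by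
  by_contra hcon
  push Not at hcon
  obtain ⟨P, hP⟩ := Sylow.exists_subgroup_card_pow_prime (G := Subgroup.centralizer ({s} : Set X)) p (n := a + 1)
    ((Nat.pow_dvd_pow p hcon).trans (Nat.ordProj_dvd _ _))
  set K : Subgroup X := P.map (Subgroup.centralizer ({s} : Set X)).subtype with hK
  have hKc : Nat.card K = p ^ (a + 1) := by
    rw [hK, Nat.card_congr (P.equivMapOfInjective _ (Subgroup.subtype_injective _)).toEquiv.symm]
    exact hP
  have hKp : IsPGroup p K := IsPGroup.of_card hKc
  have hK1 : K ≠ ⊥ := by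
    intro h
    rw [h, Subgroup.card_bot] at hKc
    exact absurd hKc.symm (Nat.one_lt_pow (by omega) hp.out.one_lt).ne'
  have hsK : ∀ x ∈ K, s * x = x * s := by
    rintro _ ⟨x, hx, rfl⟩
    exact (Subgroup.mem_centralizer_iff.1 x.2) s rfl
  have hsN : s ∈ Subgroup.normalizer (K : Set X) := by
    rw [Subgroup.mem_normalizer_iff]
    intro x
    constructor
    · intro hx
      rw [hsK x hx, mul_inv_cancel_right]
      exact hx
    · intro hx
      have h1 := hsK _ hx
      have h2 : x = s⁻¹ * (s * x * s⁻¹) * s := by group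
      rw [h2, mul_assoc, ← h1, inv_mul_cancel_left]
      exact hx
  set N := Subgroup.normalizer (K : Set X) with hN
  have h := hL K hKp hK1
  rw [← hN] at h
  have hKN : K ≤ N := Subgroup.le_normalizer
  have hK' : Nat.card (K.subgroupOf N) = p ^ (a + 1) := by
    rw [Nat.card_congr (Subgroup.subgroupOfEquivOfLe hKN).toEquiv, hKc]
  have hfac : (Nat.card N).factorization p = a + 1 := by
    apply le_antisymm
    · rw [← ha]
      exact (Nat.factorization_le_iff_dvd Nat.card_pos.ne' Nat.card_pos.ne').2 (Subgroup.card_subgroup_dvd_card _) p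
    · refine (hp.out.pow_dvd_iff_le_factorization Nat.card_pos.ne').1 ?_
      rw [← hK']
      exact Subgroup.card_subgroup_dvd_card _
  let Q : Sylow p N := Sylow.ofCard (K.subgroupOf N) (by rw [hK', hfac])
  have hQ : (Q : Subgroup N) = K.subgroupOf N := Sylow.coe_ofCard _ _
  have hle : pCore p N ≤ K.subgroupOf N := hQ ▸ S0635.pCore_le_sylow p Q
  have hcorep : IsPGroup p (pCore p N) := (IsPGroup.of_card hK').to_le hle
  have hcoreK : ∀ y ∈ pCore p N, (y : X) ∈ K := fun y hy => Subgroup.mem_subgroupOf.1 (hle hy)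
  have hmem : (⟨s, hsN⟩ : N) ∈ Subgroup.centralizer (pCore p N : Set N) := by
    rw [Subgroup.mem_centralizer_iff]
    intro y hy
    apply Subtype.ext
    exact (hsK _ (hcoreK y hy)).symm
  obtain ⟨k, hk⟩ := hcorep ⟨_, h hmem⟩
  have hk' : s ^ p ^ k = 1 := by
    have := congrArg (fun z : pCore p N => ((z : N) : X)) hk
    simpa only [_root_.SubmonoidClass.mk_pow, _root_.OneMemClass.coe_one] using this
  have h1 : orderOf s ∣ p ^ k := orderOf_dvd_of_pow_eq_one hk'
  have h2 : orderOf s = 1 := Nat.Coprime.eq_one_of_dvd (hs.pow_right k) h1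
  exact hs1 (orderOf_eq_one_iff.1 h2)

theorem g2_three {F : Type} [Field F] [Fintype F] (hF : Fintype.card F = 3)
    (hs : IsSimpleGroup ↥(Lie.chevG2.group F)) (hna : ¬ IsMulCommutative ↥(Lie.chevG2.group F)) :
    Good ↥(Lie.chevG2.group F) := by
  have hfin : Finite (GL Lie.chevG2.Idx F) := inferInstance
  obtain ⟨p, f, hp, hc, hf, hF'⟩ := IdxE.exists_char F
  have hp3 : p = 3 := by
    rw [hF] at hF'
    have h6 : p ∣ 3 := by rw [hF']; exact dvd_pow_self p (by omega)
    exact (Nat.prime_dvd_prime_iff_eq hp Nat.prime_three).1 h6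
  subst hp3
  have hf1 : f = 1 := by
    rw [hF] at hF'
    have h1 : 3 ^ f = 3 ^ 1 := by rw [← hF', pow_one]
    exact Nat.pow_right_injective (le_refl 2 |>.trans (by norm_num)) h1
  subst hf1
  have : Fact (Nat.Prime 3) := ⟨Nat.prime_three⟩
  have hcard : Nat.card ↥(Lie.chevG2.group F) = 4245696 := (S1059.result (F := F) hF).trans (by norm_num)
  have hout := S2121.result 3 1 hF' (by norm_num)
  rw [if_pos rfl] at hout
  have hb : ∀ K : Subgroup ↥(Lie.chevG2.group F), K ≠ ⊤ → 26 ≤ K.index :=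
    IdxJor.le_index_of_check hna hcard (P := [13]) (by norm_num) IdxJor.t2
  have hL : LocChar 3 ↥(Lie.chevG2.group F) := by
    refine H400.LieLocal.local_char_of_lie ?_ (fun h => absurd h.1 (by norm_num))
    refine Or.inr (Or.inr (Or.inr (Or.inr (Or.inr (Or.inr (Or.inl ?_))))))
    exact ⟨F, _, _, hc, Or.inl ⟨hF.ge, ⟨MulEquiv.refl _⟩⟩⟩
  have hfac : (Nat.card ↥(Lie.chevG2.group F)).factorization 3 = 5 + 1 := by
    rw [hcard]
    have h1 : (4245696 : ℕ) = 3 ^ 6 * 5824 := by norm_num
    rw [h1, Nat.factorization_mul (by norm_num) (by norm_num), Nat.prime_three.factorization_pow]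
    have h2 : (5824 : ℕ).factorization 3 = 0 := Nat.factorization_eq_zero_of_not_dvd (by norm_num)
    simp [h2]
  have hcl := S2382.result (F := F) hF 3 Lie.chevG2 (by simp)
  have hk := k_le_pprime' 3 hcl.le hfac.le (fun s hs1 hs => factorization_le 3 hL hfac hs1 hs)
  refine Good.of_bounds (c := 2673) (o := 2) (L := 26) ?_ hout.le hb (by norm_num)
  refine hk.trans ?_
  rw [show Lie.chevG2.rank = 2 from rfl]
  norm_num

/-! ### the rows -/

theorem row_g2 (T : Type) [Group T] [IsSimpleGroup T] (hT : ¬ IsMulCommutative T) (h : Lie.IsoChevG2 T)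
    (h5 : ¬ 5 ∣ Nat.card T) : Good T := by
  obtain ⟨F, _, _, h3, ⟨e⟩⟩ := h
  refine GoodA.of_equiv hT e fun h h' => ?_
  have h5' : ¬ 5 ∣ Nat.card ↥(Lie.chevG2.group F) := by rwa [← Nat.card_congr e.toEquiv]
  rcases Nat.lt_or_ge (Fintype.card F) 7 with h7 | h7
  · have hcard := S1059.result (F := F) rfl
    rw [hcard] at h5'
    generalize hq : Fintype.card F = q at *
    interval_cases q
    · exact g2_three hq h h'
    · norm_num at h5'
    · norm_num at h5'
    · norm_num at h5'
  · exact GoodA.g2 h7 h5' h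

theorem row_td4 (T : Type) [Group T] [IsSimpleGroup T] (hT : ¬ IsMulCommutative T) (h : Lie.Iso3D4 T) : Good T := by
  obtain ⟨K, _, _, q, hq, hK, ⟨e⟩⟩ := h
  refine GoodA.of_equiv hT e fun h h' => ?_
  rcases Nat.lt_or_ge q 3 with h3 | h3
  · have h2 : q = 2 := by have := hq.one_lt; omega
    subst h2
    exact GoodB.td4_two hK h h'
  · exact GoodA.td4 hq h3 hK h

end Cfsg.Agent.H599.GoodC
end

-- part: H539/GoodSporA
section
set_option autoImplicit false

/-!
# `Good` for `M₁₁` and `J₃`
-/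

namespace Cfsg.Agent.H539.GoodSporA

open Cfsg.Agent.H540.Good (Good Good.congr Good.of_bounds)
open Cfsg.Agent.H540 Cfsg.Agent.H867.Engine Subgroup

theorem m11 (T : Type) [Group T] [Finite T] [IsSimpleGroup T] (hT : ¬ IsMulCommutative T)
    (h : Cfsg.Spor.IsoM11 T) : Good T := by
  have hN := NotCT.Orders.m11 h
  have hk := H180.KM11.isoM11 h
  obtain ⟨e⟩ := h
  refine Good.of_bounds (c := 10) (o := 1) (L := 11) hk.le ?_ (fun H hH => ?_) (by norm_num)
  · rw [H55.OutGen.card_out_congr e]
    exact le_of_eq Cfsg.Agent.S2060.result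
  · exact GoodPSL.prime_le_index hT (by norm_num) (by rw [hN]; norm_num) H hH

theorem j3 (T : Type) [Group T] [Finite T] [IsSimpleGroup T] (hT : ¬ IsMulCommutative T)
    (h : Cfsg.Spor.IsoJ3 T) : Good T := by
  have hN := (H898.J3Cent.base h).2.1
  obtain ⟨t, D, hD, -⟩ := H417.JThreeCols.exists_coded_iso h
  have h8 := (J3Type.CharTwo.cards hD).2.2.1
  have : Fact (Nat.Prime 17) := ⟨by norm_num⟩
  have : Fact (Nat.Prime 19) := ⟨by norm_num⟩
  obtain ⟨y17, hy17⟩ := exists_prime_orderOf_dvd_card' (G := T) 17 (by rw [hN]; norm_num)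
  obtain ⟨y19, hy19⟩ := exists_prime_orderOf_dvd_card' (G := T) 19 (by rw [hN]; norm_num)
  have c17 := (H898.J3Cent.seventeen h hy17).1
  have c19 := H898.J3Cent.card_nineteen h hy19
  have ho : Nat.card (Cfsg.Out T) ≤ 2 := by
    obtain ⟨F, _, _, ω, hF, hω, ⟨e⟩⟩ := h
    rw [H55.OutGen.card_out_congr e]
    exact le_of_eq (Cfsg.Agent.S2067.result hF ω hω)
  have hk := EngG.card_conjClasses_le' (G := T) {2, 17, 19}
    (by intro r hr; simp only [Finset.mem_insert, Finset.mem_singleton] at hr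
        rcases hr with rfl | rfl | rfl <;> norm_num)
    (fun r => if r = 2 then D 97 else if r = 17 then y17 else y19)
    (by intro r hr; simp only [Finset.mem_insert, Finset.mem_singleton] at hr
        rcases hr with rfl | rfl | rfl
        · exact ⟨3, by simpa using hD.order8⟩
        · exact ⟨1, by simpa using hy17⟩
        · exact ⟨1, by simpa using hy19⟩)
  have h3 : ({2, 17, 19} : Finset ℕ) = insert 2 (insert 17 {19}) := rfl
  rw [h3, Finset.sum_insert (by decide), Finset.sum_insert (by decide), Finset.sum_singleton,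
    Finset.prod_insert (by decide), Finset.prod_insert (by decide), Finset.prod_singleton, hN] at hk
  simp only [if_true, show ¬ (17 : ℕ) = 2 by decide, show ¬ (19 : ℕ) = 2 by decide,
    show ¬ (19 : ℕ) = 17 by decide, if_false, h8, c17, c19] at hk
  refine Good.of_bounds (c := 164) (o := 2) (L := 19) (hk.trans (by norm_num)) ho
    (fun H hH => ?_) (by norm_num)
  exact GoodPSL.prime_le_index hT (by norm_num) (by rw [hN]; norm_num) H hH

end Cfsg.Agent.H539.GoodSporA
end

-- part: H539/GoodSporB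
section
set_option autoImplicit false

/-!
# `Good` for `M₁₂`
-/

namespace Cfsg.Agent.H539.GoodSporB

open Cfsg.Agent.H540.Good (Good Good.congr Good.of_bounds)
open Cfsg.Agent.H540 Cfsg.Agent.H867.Engine Subgroup
open Equiv MulAction

/-! ### the class number -/

open Cfsg.Agent.Characters.Core Cfsg.Agent.OddOrderCharacters.VChar Cfsg.Agent.H867.KBound in
theorem k_le {G : Type*} [Group G] [Finite G] [IsSimpleGroup G] (hc : Nat.card G = 95040)
    {x5 x8 : G} (h5 : ∃ k : ℕ, orderOf x5 = 5 ^ k) (h8 : ∃ k : ℕ, orderOf x8 = 2 ^ k)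
    (c5 : Nat.card (centralizer ({x5} : Set G)) ≤ 10)
    (c8 : Nat.card (centralizer ({x8} : Set G)) ≤ 8) : Nat.card (ConjClasses G) ≤ 32 := by
  classical
  have := Fintype.ofFinite G
  have := finite_irr (G := G)
  have := Fintype.ofFinite (IrrCharacter G)
  have : Fact (Nat.Prime 11) := ⟨by norm_num⟩
  have : Fact (Nat.Prime 5) := ⟨by norm_num⟩
  have : Fact (Nat.Prime 2) := ⟨by norm_num⟩
  -- the characters of degree prime to 11
  have hC : ∀ y : G, orderOf y = 11 → Nat.card (centralizer ({y} : Set G)) = 11 := by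
    intro y hy
    obtain ⟨P, hP⟩ := IsPGroup.exists_le_sylow (p := 11) (P := zpowers y)
      (IsPGroup.of_card (n := 1) (by rw [Nat.card_zpowers, hy, pow_one]))
    have hPc : Nat.card (P : Subgroup G) = 11 :=
      Cfsg.Agent.SmallSimple.PrimeLocal.card_of_not_sq_dvd (by rw [hc]; norm_num)
        (by rw [hc]; norm_num) P
    have hPe : zpowers y = (P : Subgroup G) := by
      apply Subgroup.eq_of_le_of_card_ge hP
      rw [hPc, Nat.card_zpowers, hy]
    have h1 := MTwelve.SylowEleven.card_centralizer_sylow11 hc P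
    have h2 : centralizer ((P : Subgroup G) : Set G) = centralizer ({y} : Set G) := by
      rw [← hPe, zpowers_eq_closure, centralizer_closure]
    have h3 : centralizer (P : Set G) = centralizer ({y} : Set G) := h2
    rw [h3] at h1
    exact h1
  obtain ⟨P, hP, ⟨D⟩⟩ := H417.BlockCount.exists_SC (G := G) 11 (by norm_num) (by rw [hc]; norm_num)
    (by rw [hc]; norm_num) hC (e := 5) (t := 2) (by rw [hc]) (by norm_num)
  have h7 := H417.BlockCount.card_ne_zero D (by norm_num) (by norm_num) (by norm_num)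
  rw [← card_irr, Nat.card_eq_fintype_card]
  choose d hd0 hd using fun χ : IrrCharacter G => isIrr_apply_one χ.2
  have hdg : ∀ χ : IrrCharacter G, M23Order.Base.dg χ = d χ := by
    intro χ
    exact M23Order.Base.dg_of_eq (hd χ)
  set A : G → Finset (IrrCharacter G) := fun x =>
    Finset.univ.filter (fun χ => (χ : G → ℂ) x ≠ 0) with hA
  set E : Finset (IrrCharacter G) := Finset.univ.filter (fun χ => d χ % 11 ≠ 0) with hE
  set B : Finset (IrrCharacter G) := Finset.univ.filter (fun χ => 110 ∣ d χ) with hB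
  have hcover : (Finset.univ : Finset (IrrCharacter G)) ⊆ E ∪ (A x5 ∪ (A x8 ∪ B)) := by
    intro χ _
    rw [Finset.mem_union, Finset.mem_union, Finset.mem_union]
    by_cases h11 : 11 ∣ d χ
    · by_cases h51 : 5 ∣ d χ
      · by_cases h21 : 2 ∣ d χ
        · right; right; right
          refine Finset.mem_filter.2 ⟨Finset.mem_univ _, ?_⟩
          (clear * - h11 h51 h21; omega)
        · right; right; left
          exact Finset.mem_filter.2 ⟨Finset.mem_univ _,
            apply_ne_zero (isIrr_isCharacter χ.2) (hd χ) h21 x8 h8⟩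
      · right; left
        exact Finset.mem_filter.2 ⟨Finset.mem_univ _,
          apply_ne_zero (isIrr_isCharacter χ.2) (hd χ) h51 x5 h5⟩
    · left
      refine Finset.mem_filter.2 ⟨Finset.mem_univ _, ?_⟩
      omega
  have h1 : Fintype.card (IrrCharacter G) ≤ E.card + ((A x5).card + ((A x8).card + B.card)) := by
    rw [← Finset.card_univ]
    refine (Finset.card_le_card hcover).trans ((Finset.card_union_le _ _).trans ?_)
    refine Nat.add_le_add_left ((Finset.card_union_le _ _).trans ?_) _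
    exact Nat.add_le_add_left (Finset.card_union_le _ _) _
  have h2 : ∀ x : G, (A x).card ≤ Nat.card (Subgroup.centralizer ({x} : Set G)) := by
    intro x
    have h3 := card_apply_ne_zero_le x
    rwa [Nat.card_eq_fintype_card, Fintype.card_subtype] at h3
  have hE7 : E.card = 7 := by
    have h3 : E = Finset.univ.filter (fun χ : IrrCharacter G => M23Order.Base.dg χ % 11 ≠ 0) := by
      ext χ
      rw [hE, Finset.mem_filter, Finset.mem_filter, hdg]
    rw [h3, h7]
  have h3 : B.card * 110 ^ 2 ≤ Nat.card G := by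
    have h4 : ((∑ χ : IrrCharacter G, d χ ^ 2 : ℕ) : ℝ) = (Nat.card G : ℝ) := by
      have h5 := sum_norm_sq (G := G) 1
      have h6 : Subgroup.centralizer ({1} : Set G) = ⊤ := by
        ext y
        rw [Subgroup.mem_centralizer_singleton_iff]
        simp
      rw [h6] at h5
      have h7 : Nat.card (⊤ : Subgroup G) = Nat.card G := Subgroup.card_top
      rw [h7] at h5
      rw [← h5]
      push_cast
      refine Finset.sum_congr rfl fun χ _ => ?_
      rw [hd χ, Complex.norm_natCast]
    have h5 : (∑ χ : IrrCharacter G, d χ ^ 2) = Nat.card G := by exact_mod_cast h4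
    rw [← h5]
    calc B.card * 110 ^ 2 = ∑ χ ∈ B, 110 ^ 2 := by
          rw [Finset.sum_const, smul_eq_mul]
      _ ≤ ∑ χ ∈ B, d χ ^ 2 := by
          refine Finset.sum_le_sum fun χ hχ => ?_
          exact Nat.pow_le_pow_left (Nat.le_of_dvd (hd0 χ) (Finset.mem_filter.1 hχ).2) 2
      _ ≤ _ := Finset.sum_le_sum_of_subset (Finset.subset_univ _)
  have h9 := h2 x5
  have h10 := h2 x8
  rw [hc] at h3
  omega

/-! ### elements of order 5 and 8 -/

open CoThreeStd.M12 CoThreeStd.M12.Out

/-- the centralizer acts semiregularly on the long cycles -/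
theorem card_cent_le {u : G12} (p : Fin 12) (s : Finset (Fin 12)) (hs : 5 ≤ s.card)
    (hu : ∀ i ∈ s, ∃ k : Fin 12, ((u ^ (k : ℕ) : G12) : P12) p = i) (j : ℕ)
    (M : Finset (Fin 12)) (hM : ∀ i, i ∉ M → ((u ^ j : G12) : P12) i = i)
    (hp : ((u ^ j : G12) : P12) p ≠ p) :
    Nat.card (centralizer ({u} : Set G12)) ≤ M.card := by
  classical
  let F : centralizer ({u} : Set G12) → M := fun x => ⟨((x : G12) : P12) p, by
    by_contra hx
    apply hp
    have h1 := hM _ hx
    have h2 : (x : G12) * u ^ j = u ^ j * (x : G12) :=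
      (Commute.pow_right (show Commute (x : G12) u from (mem_centralizer_singleton_iff.1 x.2)) j)
    have h3 := congrArg (fun z : G12 => (z : P12) p) h2
    change ((x : G12) : P12) (((u ^ j : G12) : P12) p) =
      ((u ^ j : G12) : P12) (((x : G12) : P12) p) at h3
    rw [h1] at h3
    exact ((x : G12) : P12).injective h3⟩
  have hF : Function.Injective F := by
    intro x x' hxx
    have h0 : ((x : G12) : P12) p = ((x' : G12) : P12) p := congrArg Subtype.val hxx
    have h1 : (x' : G12)⁻¹ * (x : G12) = 1 := by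
      apply fix_orbit (u := u) (p := p) _ _ s hs hu
      · exact ((show Commute (x' : G12) u from mem_centralizer_singleton_iff.1 x'.2).inv_left.mul_left
          (show Commute (x : G12) u from mem_centralizer_singleton_iff.1 x.2))
      · rw [Subgroup.coe_mul, Perm.mul_apply, h0, Subgroup.coe_inv]
        exact Perm.inv_eq_iff_eq.mpr rfl
    exact Subtype.ext (inv_mul_eq_one.mp h1).symm
  have h1 := Nat.card_le_card_of_injective F hF
  rwa [Nat.card_eq_fintype_card (α := M), Fintype.card_coe] at h1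

theorem apply_el (w : List (Fin 6)) (k : ℕ) (i : Fin 12) :
    (((el w ^ k : G12) : P12) i : ℕ) = dg (wt (pw w k)) i := by
  rw [← el_pw, el_apply]

theorem card_cent_n : Nat.card (centralizer ({n} : Set G12)) ≤ 10 := by
  have h := card_cent_le (u := n) 0 {0, 10, 4, 5, 2} (by decide) orb_n0 1
    (Finset.univ.filter fun i => i ≠ 9 ∧ i ≠ 11) (by
      intro i hi
      rw [Finset.mem_filter] at hi
      push Not at hi
      rw [pow_one]
      by_cases h9 : i = 9
      · rw [h9, fix_n9]
      · rw [hi (Finset.mem_univ _) h9, fix_n11]) (by rw [pow_one]; exact apply_n0)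
  exact h.trans (by decide)

/-- an element of order 8 -/
def u8 : G12 := el [2, 3, 5]

theorem u8_pow : u8 ^ 8 = 1 := by
  rw [u8, ← el_pw, ← el_nil]
  exact el_eq (by decide +kernel)

theorem orb_u8 : ∀ i ∈ ({1, 2, 7, 6, 9, 8, 4, 5} : Finset (Fin 12)),
    ∃ k : Fin 12, ((u8 ^ (k : ℕ) : G12) : P12) 1 = i := by
  have h : ∀ i ∈ ({1, 2, 7, 6, 9, 8, 4, 5} : Finset (Fin 12)),
      ∃ k : Fin 12, dg (wt (pw [2, 3, 5] k)) 1 = i := by decide +kernel
  intro i hi
  obtain ⟨k, hk⟩ := h i hi
  exact ⟨k, Fin.ext (by rw [u8, apply_el]; exact hk)⟩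

theorem card_cent_u8 : Nat.card (centralizer ({u8} : Set G12)) ≤ 8 := by
  have h := card_cent_le (u := u8) 1 {1, 2, 7, 6, 9, 8, 4, 5} (by decide) orb_u8 4
    {1, 2, 7, 6, 9, 8, 4, 5} (by
      have h : ∀ i ∉ ({1, 2, 7, 6, 9, 8, 4, 5} : Finset (Fin 12)),
        dg (wt (pw [2, 3, 5] 4)) i = i := by decide +kernel
      intro i hi
      exact Fin.ext (by rw [u8, apply_el]; exact h i hi))
    (by
      intro h1
      have h2 := congrArg (fun i : Fin 12 => (i : ℕ)) h1
      simp only [u8] at h2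
      rw [apply_el] at h2
      revert h2
      decide +kernel)
  exact h.trans (by decide)

theorem y_ne : y ≠ 1 := by
  rw [y, ← el_single, ← el_nil, Ne, el_eq_iff]
  decide +kernel

/-! ### no subgroup of index 11 -/

theorem not_sit {T : Type*} [Group T] [Finite T] (hc : Nat.card T = 95040) {x z : T}
    (hx : orderOf x = 5) (hz : orderOf z = 2) (hxz : x * z = z * x) : ¬ Sit T 11 := by
  classical
  intro h
  obtain ⟨f, hf, hprim⟩ := h.exists_hom
  have : Fact (Nat.Prime 5) := ⟨by norm_num⟩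
  -- `f x` has ten moved points
  have hord : orderOf (f x) = 5 := by rw [orderOf_injective f hf, hx]
  obtain ⟨m, hm⟩ := Perm.cycleType_prime_order (σ := f x) (by rw [hord]; norm_num)
  rw [hord] at hm
  have hsum : (f x).cycleType.sum = (m + 1) * 5 := by
    rw [hm, Multiset.sum_replicate, smul_eq_mul]
  have hle : (m + 1) * 5 ≤ 11 := by
    rw [← hsum, Perm.sum_cycleType]
    exact (Finset.card_le_univ _).trans (by rw [Fintype.card_fin])
  have hm1 : m = 1 := by
    by_contra hne
    have hm0 : m = 0 := by omega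
    subst hm0
    have hcyc : (f x).IsCycle := by
      rw [← Perm.card_cycleType_eq_one, hm, Multiset.card_replicate]
    have hsup : (f x).support.card = 5 := by
      rw [← Perm.sum_cycleType, hsum]
    have h1 := S0713.result f.range hprim (p := 5) (by norm_num) (by rw [Fintype.card_fin]; norm_num)
      (by rw [Fintype.card_fin]; norm_num) hcyc hsup ⟨x, rfl⟩
    have h2 := le_antisymm (h.range_le_alt f) h1
    have h3 : Nat.card f.range = Nat.card T := (Nat.card_congr (MonoidHom.ofInjective hf).toEquiv).symm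
    have : Nontrivial (Fin 11) := Fin.nontrivial_iff_two_le.2 (by norm_num)
    have h4 : 2 * Nat.card (alternatingGroup (Fin 11)) = (11).factorial := by
      rw [two_mul_nat_card_alternatingGroup, Nat.card_perm, Nat.card_eq_fintype_card, Fintype.card_fin]
    rw [← h2, h3, hc] at h4
    revert h4
    decide
  have hsup : (f x).support.card = 10 := by
    rw [← Perm.sum_cycleType, hsum, hm1]
  -- `f z` has `2 k` moved points, `k` even
  have hordz : orderOf (f z) = 2 := by rw [orderOf_injective f hf, hz]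
  obtain ⟨k, hk⟩ := Perm.cycleType_prime_order (σ := f z) (by rw [hordz]; norm_num)
  rw [hordz] at hk
  have hsz : (f z).support.card = (k + 1) * 2 := by
    rw [← Perm.sum_cycleType, hk, Multiset.sum_replicate, smul_eq_mul]
  have hsg : Perm.sign (f z) = 1 := h.range_le_alt f ⟨z, rfl⟩
  rw [Perm.sign_of_cycleType, hk, Multiset.sum_replicate, Multiset.card_replicate, smul_eq_mul] at hsg
  have hev : Even (k + 1) := by
    have h1 : ((-1 : ℤˣ)) ^ ((k + 1) * 2 + (k + 1)) = (-1) ^ (k + 1) := by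
      rw [pow_add, mul_comm, pow_mul]
      simp only [_root_.Int.units_sq, _root_.mul_one]
    rw [h1] at hsg
    by_contra hodd
    rw [Nat.not_even_iff_odd] at hodd
    rw [hodd.neg_one_pow] at hsg
    revert hsg
    decide
  -- `f x` acts on the points moved by `f z` without fixed points
  have hcomm : f x * f z = f z * f x := by rw [← map_mul, hxz, map_mul]
  have hfix : ((f x).supportᶜ).card = 1 := by
    rw [Finset.card_compl, hsup, Fintype.card_fin]
  obtain ⟨p, hp⟩ := Finset.card_eq_one.1 hfix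
  have hpx : ∀ i, (f x) i = i → i = p := by
    intro i hi
    have : i ∈ (f x).supportᶜ := by
      rw [Finset.mem_compl, Perm.mem_support, not_not]; exact hi
    rw [hp, Finset.mem_singleton] at this
    exact this
  have hxp : (f x) p = p := by
    have : p ∈ (f x).supportᶜ := by rw [hp]; exact Finset.mem_singleton_self _
    rwa [Finset.mem_compl, Perm.mem_support, not_not] at this
  have hzp : (f z) p = p := by
    apply hpx
    have h1 := congrArg (fun g : Perm (Fin 11) => g p) hcomm
    change (f x) ((f z) p) = (f z) ((f x) p) at h1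
    rw [h1, hxp]
  -- restrict `f x` to the support of `f z`
  have hmem : ∀ i, i ∈ (f z).support ↔ (f x) i ∈ (f z).support := by
    intro i
    rw [Perm.mem_support, Perm.mem_support]
    have h1 := congrArg (fun g : Perm (Fin 11) => g i) hcomm
    change (f x) ((f z) i) = (f z) ((f x) i) at h1
    rw [← h1]
    exact (f x).injective.ne_iff.symm
  let σ : Perm {i // i ∈ (f z).support} := (f x).subtypePerm (fun i => (hmem i).symm)
  have hσ : σ ^ 5 ^ 1 = 1 := by
    rw [pow_one]
    have h1 : (f x) ^ 5 = 1 := by rw [← hord, pow_orderOf_eq_one]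
    rw [Perm.subtypePerm_pow]
    ext i
    simp only [h1, _root_.Equiv.Perm.subtypePerm_apply, _root_.Equiv.Perm.coe_one, _root_.id_eq, _root_.Subtype.coe_eta]
  have hdv : 5 ∣ Fintype.card {i // i ∈ (f z).support} := by
    by_contra hnd
    obtain ⟨a, ha⟩ := Perm.exists_fixed_point_of_prime hnd hσ
    have h1 : (f x) (a : Fin 11) = a := congrArg Subtype.val ha
    have h2 := hpx _ h1
    have h3 := a.2
    rw [h2, Perm.mem_support] at h3
    exact h3 hzp
  rw [Fintype.card_coe, hsz] at hdv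
  have h11 : (k + 1) * 2 ≤ 11 := by
    rw [← hsz]
    exact (Finset.card_le_univ _).trans (by rw [Fintype.card_fin])
  obtain ⟨j, hj⟩ := hev
  omega

/-! ### the main theorem -/

theorem m12 (T : Type) [Group T] [Finite T] [IsSimpleGroup T] (hT : ¬ IsMulCommutative T)
    (h : Cfsg.Spor.IsoM12 T) : Good T := by
  have hN := NotCT.Orders.m12 h
  have ho : Nat.card (Cfsg.Out T) ≤ 2 := by
    obtain ⟨e⟩ := h
    rw [H55.OutGen.card_out_congr e]
    exact le_of_eq Cfsg.Agent.S2061.result
  obtain ⟨e0⟩ := h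
  let e : T ≃* G12 := e0.trans equiv
  have hcen : ∀ u : G12, Nat.card (centralizer ({e.symm u} : Set T)) = Nat.card (centralizer ({u} : Set G12)) := by
    intro u
    refine Nat.card_congr ⟨fun a => ⟨e a, ?_⟩, fun a => ⟨e.symm a, ?_⟩, fun a => ?_, fun a => ?_⟩
    · rw [mem_centralizer_singleton_iff]
      have h1 := mem_centralizer_singleton_iff.1 a.2
      have h2 := congrArg e h1
      rwa [map_mul, map_mul, e.apply_symm_apply] at h2
    · rw [mem_centralizer_singleton_iff]
      have h1 := mem_centralizer_singleton_iff.1 a.2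
      have h2 := congrArg e.symm h1
      rwa [map_mul, map_mul] at h2
    · exact Subtype.ext (e.symm_apply_apply _)
    · exact Subtype.ext (e.apply_symm_apply _)
  have : Fact (Nat.Prime 5) := ⟨by norm_num⟩
  have : Fact (Nat.Prime 2) := ⟨Nat.prime_two⟩
  have hn5 : orderOf (e.symm n) = 5 := by
    rw [MulEquiv.orderOf_eq]
    exact orderOf_eq_prime n_pow n_ne
  have hy2 : orderOf (e.symm y) = 2 := by
    rw [MulEquiv.orderOf_eq]
    exact orderOf_eq_prime (by rw [pow_two]; exact y_sq) y_ne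
  have hu8 : ∃ k : ℕ, orderOf (e.symm u8) = 2 ^ k := by
    rw [MulEquiv.orderOf_eq]
    have h1 : orderOf u8 ∣ 2 ^ 3 := orderOf_dvd_of_pow_eq_one u8_pow
    obtain ⟨k, -, hk⟩ := (Nat.dvd_prime_pow Nat.prime_two).1 h1
    exact ⟨k, hk⟩
  have hk := k_le hN ⟨1, by rw [hn5]; norm_num⟩ hu8 (by rw [hcen]; exact card_cent_n)
    (by rw [hcen]; exact card_cent_u8)
  have h11 : ∀ K : Subgroup T, K ≠ ⊤ → 11 ≤ K.index :=
    GoodPSL.prime_le_index hT (by norm_num) (by rw [hN]; norm_num)
  have h12 := GoodFin.step hT h11 (not_sit hN hn5 hy2 (by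
    rw [← map_mul, ← map_mul, y_n]))
  exact Good.of_bounds (c := 32) (o := 2) (L := 12) hk ho h12 (by norm_num)

end Cfsg.Agent.H539.GoodSporB
end

-- part: H531/GoodTits
section
/-!
# `Good` for the Tits group (for helper540, S4199 and S4202)
-/

set_option autoImplicit false

namespace Cfsg.Agent.H531.GoodTits

universe u

/-- **The Tits group.** -/
theorem row (T : Type u) [Group T] [Finite T] [IsSimpleGroup T] (hT : ¬ IsMulCommutative T)
    (h : Cfsg.Lie.IsoTits T) : Cfsg.Agent.H540.Good.Good T := by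
  have hZ : Subgroup.center T = ⊥ := by
    rcases (inferInstance : (Subgroup.center T).Normal).eq_bot_or_eq_top with h1 | h1
    · exact h1
    · exact absurd ⟨⟨fun a b => Subgroup.mem_center_iff.1 (by rw [h1]; trivial : b ∈ Subgroup.center T) a⟩⟩ hT
  have F := H235.TitsRow.facts h
  have hidx : ∀ L : Subgroup T, L ≠ ⊤ → 42 ≤ L.index := fun L hL => F.le_index hL
  have ho := H867.TitsOut.card_out_le h
  have hc := NotCT.Orders.tits h
  have hk := H540.Good.k_le_of_index hZ hidx
  rw [hc] at hk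
  exact H540.Good.Good.of_bounds (c := 427886) (o := 2) (L := 42) (by omega) ho hidx (by norm_num)

end Cfsg.Agent.H531.GoodTits
end

-- part: H540/Assembly
section
/-!
# The table `Tab p`
-/

set_option autoImplicit false

namespace Cfsg.Agent.H540.Assembly

open Cfsg

/-- **the table `Tab p`, from the classification** -/
theorem tab (cls : ∀ (T : Type) [Group T] [Finite T] [IsSimpleGroup T], IsKnownSimple' T)
    {p : ℕ} (hp : p = 3 ∨ p = 5 ∨ p = 7) : Main.Tab p :=
  TabFin.tab (fun T _ _ _ hT h => H599.GoodC.row_g2 T hT h.1 h.2)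
    (fun T _ _ _ hT h => H599.GoodC.row_td4 T hT h.1)
    (fun T _ _ _ hT h => H599.GoodA.row_sz T hT h)
    (fun T _ _ _ hT h => H599.GoodA.row_ree T hT h)
    (fun T _ _ _ hT h => H599.GoodA.row_tf4 T hT h.1 h.2)
    (fun T _ _ _ hT h => H531.GoodTits.row T hT h)
    (fun T _ _ _ hT h => H539.GoodSporA.m11 T hT h)
    (fun T _ _ _ hT h => H539.GoodSporB.m12 T hT h)
    (fun T _ _ _ hT h => H539.GoodSporA.j3 T hT h)
    OrdDiv.table cls hp

end Cfsg.Agent.H540.Assembly
end

private theorem dce_c8ffdd58eef4 : _root_.True := by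
  try have : _root_.True := by simp only [_root_.Cfsg.Agent.H539.GoodSporB.u8.eq_1]
  exact _root_.True.intro
end
end
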